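import Cfsg.Agent.Lib.ThreeTransp.UnitaryRadical.Local
import Cfsg.Agent.Lib.Classical.HermCount

/-!
# The extensions in degree five and seven are trivial

In degree five the subgroup of the vector stabiliser is generated by two translations relative to an
isotropic vector of the orthogonal part; in degree seven it is generated by the lifts with centres in
the orthogonal part, by the case of degree five.
-/

set_option autoImplicit false
set_option linter.unusedSectionVars false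

namespace CfsgLib.ThreeTransp.UnitaryRadical

open Module CfsgLib.Classical
open CfsgLib.ThreeTransp.UnitarySix (Setting tv tv_apply)
open scoped commutatorElement

variable {F : Type*} [Field F] [Finite F] {V : Type*} [AddCommGroup V] [Module F V]
  [FiniteDimensional F V] {σ : F →+* F} {B : V →ₛₗ[σ] V →ₗ[F] F}
  (S : Setting B)
include S

theorem card_four : Nat.card F = 4 ∧ ∀ x : F, σ x = x ^ 2 := by
  classical
  obtain ⟨w, hw, hs, hn, hw0, hw1, hw2⟩ := exists_omega S
  have htr : w + σ w = 1 := by rw [hs, ← add_assoc, S.two, zero_add]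
  refine ⟨?_, fun x => ?_⟩
  · have : Fintype F := Fintype.ofFinite F
    have e : (Finset.univ : Finset F) = {0, 1, w, w + 1} := by
      refine (Finset.eq_univ_iff_forall.2 fun l => ?_).symm
      by_cases hl : l = 0
      · simp [hl]
      rcases S.field_three htr hl with h | h | h <;> simp [h]
    rw [Nat.card_eq_fintype_card, ← Finset.card_univ, e]
    rw [Finset.card_insert_of_notMem, Finset.card_insert_of_notMem, Finset.card_insert_of_notMem,
      Finset.card_singleton]
    · simp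
    · simp [Ne.symm hw1]; grind
    · simp [Ne.symm hw0, Ne.symm hw2]
  · rcases eq_or_ne x 0 with rfl | hx
    · simp
    rcases S.field_three htr hx with rfl | rfl | rfl
    · simp
    · rw [hs, pow_two, hw]
    · have := two_zero S
      rw [map_add, map_one, hs]
      grind

theorem exists_pair : ∃ e f : V, Pair B e f := by
  obtain ⟨z, hz, -, -, -⟩ := S.exists_perp (0 : V) 0 0
  obtain ⟨e, he0, he⟩ : ∃ e, e ≠ 0 ∧ B e e = 0 := by
    rcases S.self_val z with h | h
    · exact ⟨z, hz, h⟩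
    obtain ⟨y, hy0, hy, -, -⟩ := S.exists_perp z z z
    rcases S.self_val y with h' | h'
    · exact ⟨y, hy0, h'⟩
    refine ⟨z + y, fun e => ?_, by rw [S.herm.add_self, h, h', hy, map_zero, add_zero, add_zero, S.two]⟩
    rw [← S.veq_of_add e, h] at hy
    exact one_ne_zero hy
  obtain ⟨t, -, het⟩ := S.exists_dual (W := ⊥) (r := e) (by simpa using he0)
  obtain ⟨a, ha⟩ := S.exists_iso he het
  exact ⟨e, t + a • e, he, ha, by rw [map_add, map_smul, he, het, smul_zero, add_zero]⟩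

theorem finrank_perp2 {e f : V} (hp : Pair B e f) : finrank F (perp2 B e f) + 2 = finrank F V := by
  let Φ : V →ₗ[F] F × F := (B e).prod (B f)
  have hs : Function.Surjective Φ := fun c =>
    ⟨c.2 • e + c.1 • f, by simp [Φ, hp.he, hp.hf, hp.hef, (hp.iso S).2.2]⟩
  have h := LinearMap.finrank_range_add_finrank_ker Φ
  rw [LinearMap.range_eq_top.2 hs, finrank_top, Module.finrank_prod, Module.finrank_self] at h
  rw [show perp2 B e f = LinearMap.ker Φ from (LinearMap.ker_prod _ _).symm]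
  omega

/-- A hyperbolic pair with a unit vector, orthogonal to a given pair. -/
theorem exists_triad_perp (h5 : 5 ≤ finrank F V) {e f : V} (hp : Pair B e f) :
    ∃ u u' z, Triad B u u' z ∧ B e u = 0 ∧ B f u = 0 ∧ B e u' = 0 ∧ B f u' = 0 ∧ B e z = 0 ∧ B f z = 0 := by
  obtain ⟨y, hy, hy1, hy2, -⟩ := S.exists_perp e f e
  obtain ⟨u, hu, hu1, hu2, -⟩ := exists_iso_partner S hp.he hp.hf hp.hef hy hy1 hy2
  obtain ⟨v, hv, hv1, hv2, hv3⟩ := exists_iso_partner S hp.he hp.hf hp.hef hu.1 hu1 hu2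
  let Φ : V →ₗ[F] F × F × F × F := (B e).prod ((B f).prod ((B u).prod (B v)))
  have hk : LinearMap.ker Φ ≠ ⊥ := by
    intro h
    have h1 := LinearMap.finrank_le_finrank_of_injective (LinearMap.ker_eq_bot.1 h)
    simp at h1
    omega
  obtain ⟨z, hz, hz0⟩ := Submodule.exists_mem_ne_zero_of_ne_bot hk
  have hz' : Φ z = 0 := hz
  have z1 : B e z = 0 := congrArg Prod.fst hz'
  have z2 : B f z = 0 := congrArg (fun t => t.2.1) hz'
  have z3 : B u z = 0 := congrArg (fun t => t.2.2.1) hz'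
  have z4 : B v z = 0 := congrArg (fun t => t.2.2.2) hz'
  suffices ∃ z, B e z = 0 ∧ B f z = 0 ∧ B u z = 0 ∧ B v z = 0 ∧ B z z = 1 by
    obtain ⟨z, a1, a2, a3, a4, a5⟩ := this
    exact ⟨u, v, z, ⟨hu.2, hv.2, hv3, a3, a4, a5⟩, hu1, hu2, hv1, hv2, a1, a2⟩
  rcases S.self_val z with h | h
  · obtain ⟨t, -, ht⟩ := S.exists_dual (W := ⊥) (r := z) (by simpa using hz0)
    obtain ⟨-, -, hfe⟩ := hp.iso S
    have hvu := symm1 S hv3
    set t' := t + B f t • e + B e t • f + B v t • u + B u t • v with ht'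
    have b0 : B e t' = 0 := by
      simp only [ht', map_add, map_smul, hp.he, hp.hef, hu1, hv1, smul_eq_mul, mul_zero, mul_one, add_zero, S.two]
    have b1 : B f t' = 0 := by
      simp only [ht', map_add, map_smul, hp.hf, hfe, hu2, hv2, smul_eq_mul, mul_zero, mul_one, add_zero, S.two]
    have b2 : B u t' = 0 := by
      simp only [ht', map_add, map_smul, S.symm0 hu1, S.symm0 hu2, hu.2, hv3, smul_eq_mul, mul_zero, mul_one,
        add_zero, S.two]
    have b3 : B v t' = 0 := by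
      simp only [ht', map_add, map_smul, S.symm0 hv1, S.symm0 hv2, hv.2, hvu, smul_eq_mul, mul_zero, mul_one,
        add_zero, S.two]
    have b4 : B z t' = 1 := by
      simp only [ht', map_add, map_smul, S.symm0 z1, S.symm0 z2, S.symm0 z3, S.symm0 z4, smul_eq_mul, mul_zero,
        add_zero, ht]
    rcases S.self_val t' with h' | h'
    · obtain ⟨c, hc⟩ := S.trace
      refine ⟨t' + c • z, ?_, ?_, ?_, ?_, ?_⟩
      · rw [map_add, map_smul, b0, z1, smul_zero, add_zero]
      · rw [map_add, map_smul, b1, z2, smul_zero, add_zero]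
      · rw [map_add, map_smul, b2, z3, smul_zero, add_zero]
      · rw [map_add, map_smul, b3, z4, smul_zero, add_zero]
      · rw [S.herm.add_self, h', S.herm.smul_self, h, map_smul, symm1 S b4, smul_eq_mul, mul_one, hc, mul_zero]
        simp
    · exact ⟨t', b0, b1, b2, b3, h'⟩
  · exact ⟨z, z1, z2, z3, z4, h⟩

/-- Translations relative to a pair. -/
theorem exists_transl {u v : V} (hp : Pair B u v) {y : V} (h1 : B u y = 0) (h2 : B v y = 0) :
    ∃ g : ↥(sIsom B), ∃ a : F, g.1.1 u = u ∧ g.1.1 v = v + y + a • u ∧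
      ∀ x, B u x = 0 → B v x = 0 → g.1.1 x = x + B y x • u := by
  obtain ⟨hu, -, hvu⟩ := hp.iso S
  have hone : ∀ y, Iso B y → B u y = 0 → B v y = 0 → ∃ g : ↥(sIsom B), g.1.1 u = u ∧
      g.1.1 v = v + y + (1 : F) • u ∧ ∀ x, B u x = 0 → B v x = 0 → g.1.1 x = x + B y x • u := by
    intro y hy a1 a2
    have hne : ∀ k : F, y ≠ k • u := fun k hk => by
      rw [hk, map_smul, hvu, smul_eq_mul, mul_one] at a2
      exact hy.1 (by rw [hk, a2, zero_smul])
    have hi := hy.line hu (S.symm0 a1) a1 hne 1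
    refine ⟨T B y * T B (y + (1 : F) • u), ?_, ?_, fun x x1 x2 => ?_⟩
    · rw [mul_apply_U, T_fix S hi.2 (by simp [S.symm0 a1, hp.he]), T_fix S hy.2 (S.symm0 a1)]
    · rw [mul_apply_U, T_apply S hi.2, T_apply S hy.2]
      simp [S.symm0 a2, hp.hef, hy.2, S.symm0 a1]
      abel
    · rw [mul_apply_U, T_apply S hi.2, T_apply S hy.2]
      simp [x1, hy.2, S.symm0 a1]
      rw [show x + (B y x • y + B y x • u) + B y x • y = x + B y x • u + (B y x • y + B y x • y) by abel,
        S.vtwo, add_zero]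
  rcases span_iso S hp h1 h2 with rfl | hy | ⟨p, q, hp', hq', a1, a2, b1, b2, rfl⟩
  · exact ⟨1, 0, rfl, by simp [one_apply_U], fun x _ _ => by simp [one_apply_U]⟩
  · obtain ⟨g, g1, g2, g3⟩ := hone _ hy h1 h2
    exact ⟨g, 1, g1, g2, g3⟩
  · obtain ⟨g, g1, g2, g3⟩ := hone p hp' a1 a2
    obtain ⟨h, k1, k2, k3⟩ := hone q hq' b1 b2
    refine ⟨g * h, B p q + (1 + 1), ?_, ?_, fun x x1 x2 => ?_⟩
    · rw [mul_apply_U, k1, g1]
    · rw [mul_apply_U, k2, map_add, map_add, map_smul, g1, g2, g3 q b1 b2]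
      simp only [one_smul, add_smul]
      abel
    · rw [mul_apply_U, k3 x x1 x2, map_add, map_smul, g1, g3 x x1 x2, map_add, LinearMap.add_apply, add_smul]
      abel

variable {E : Type*} [Group E] [Finite E] (X : Ext B E)
include X

theorem injective_five (h5 : finrank F V = 5) : Function.Injective X.π := by
  classical
  obtain ⟨w, hw, hs, hn, hw0, hw1, hw2⟩ := exists_omega S
  have h2z := two_zero S
  obtain ⟨e, f, hp⟩ := exists_pair S
  obtain ⟨he, hfI, hfe⟩ := hp.iso S
  obtain ⟨u, u', z, hT, eu, fu, eu', fu', ez, fz⟩ := exists_triad_perp S (le_of_eq h5.symm) hp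
  obtain ⟨hu'u, hzu, hzu', hiu, hiu'⟩ := hT.rev S
  obtain ⟨b, r, -, -, hr, -, -, -, -, -, -⟩ := exists_rot S hw hs hT
  obtain ⟨g, hg⟩ := X.surj r
  have hQ : ∀ x ∈ Qhat X e, X.π x = 1 → x = 1 := fun x hx hx1 => by
    refine Qhat_inj S X he hp.hef hp.hf hw one_ne_zero (Ne.symm hw1) (g := g) ?_ ?_ hx hx1
    · rw [one_smul, hg, hr, S.symm0 eu', S.symm0 eu, S.symm0 ez]; simp
    · intro y y1 y2
      have hy := frame_expand S h5 hT.hv hT.hv' hT.hvv' hT.hz
        (show B (e + w • f) (e + w • f) = 1 by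
          simp [hp.he, hp.hf, hp.hef, hfe, hs]; grind)
        (show B (e + (w + 1) • f) (e + (w + 1) • f) = 1 by
          simp [hp.he, hp.hf, hp.hef, hfe, hs]; grind)
        hT.hvz (by simp [S.symm0 eu, S.symm0 fu]) (by simp [S.symm0 eu, S.symm0 fu]) hT.hv'z
        (by simp [S.symm0 eu', S.symm0 fu']) (by simp [S.symm0 eu', S.symm0 fu'])
        (by simp [S.symm0 ez, S.symm0 fz]) (by simp [S.symm0 ez, S.symm0 fz])
        (by simp [hp.he, hp.hf, hp.hef, hfe, hs]; grind) y
      rw [hg, hr]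
      simp only [map_add, map_smulₛₗ, LinearMap.add_apply, LinearMap.smul_apply, y1, y2, smul_zero, add_zero,
        zero_smul] at hy
      conv_lhs => arg 2; arg 2; rw [← hy]
      match_scalars <;> grind
  have hpu : Pair B u u' := ⟨hT.hv, hT.hv', hT.hvv'⟩
  obtain ⟨A, α, hA1, hA2, hA3⟩ := exists_transl S hpu (y := z) hT.hvz hT.hv'z
  obtain ⟨A', β, hA1', hA2', hA3'⟩ := exists_transl S hpu (y := w • z) (by simp [hT.hvz]) (by simp [hT.hv'z])
  have hz1 : A.1.1 z = z + u := by rw [hA3 z hT.hvz hT.hv'z, hT.hz, one_smul]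
  have hz2 : A'.1.1 z = z + (w + 1) • u := by
    rw [hA3' z hT.hvz hT.hv'z, map_smulₛₗ, LinearMap.smul_apply, hT.hz, hs, smul_eq_mul, mul_one]
  have hTu : ∀ x, (T B u).1.1 x = x + B u x • u := fun x => T_apply S hT.hv x
  have hcomp : ∀ (g h : ↥(sIsom B)) (y y' : V) (p q : F), g.1.1 u = u → g.1.1 u' = u' + y + p • u →
      (∀ x, B u x = 0 → B u' x = 0 → g.1.1 x = x + B y x • u) → h.1.1 u = u →
      h.1.1 u' = u' + y' + q • u → B u y' = 0 → B u' y' = 0 →
      (∀ x, B u x = 0 → B u' x = 0 → h.1.1 x = x + B y' x • u) →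
      (g * h).1.1 u = u ∧ (g * h).1.1 u' = u' + (y + y') + (p + q + B y y') • u ∧
        ∀ x, B u x = 0 → B u' x = 0 → (g * h).1.1 x = x + B (y + y') x • u := by
    intro g h y y' p q g1 g2 g3 k1 k2 i1 i2 k3
    refine ⟨by rw [mul_apply_U, k1, g1], ?_, fun x x1 x2 => ?_⟩
    · rw [mul_apply_U, k2, map_add, map_add, map_smul, g1, g2, g3 y' i1 i2]
      simp only [add_smul]
      abel
    · rw [mul_apply_U, k3 x x1 x2, map_add, map_smul, g1, g3 x x1 x2, map_add, LinearMap.add_apply, add_smul]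
      abel
  have hwz1 : B u (w • z) = 0 := by simp [hT.hvz]
  have hwz2 : B u' (w • z) = 0 := by simp [hT.hv'z]
  have hnα : α + σ α = 1 := by
    have e0 := pres_U A u' u'
    rw [hA2] at e0
    simp [hT.hv', hT.hv, hT.hvv', hu'u, hT.hvz, hT.hv'z, hzu, hzu', hT.hz] at e0
    grind
  have hAA : A * A = T B u := by
    obtain ⟨c1, c2, c3⟩ := hcomp A A z z α α hA1 hA2 hA3 hA1 hA2 hT.hvz hT.hv'z hA3
    refine ext_pair S hpu ?_ ?_ fun y i1 i2 => ?_
    · rw [c1, hTu, hT.hv, zero_smul, add_zero]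
    · rw [c2, hTu, hT.hvv', hT.hz, S.vtwo, S.two, zero_add, add_zero]
    · rw [c3 y i1 i2, hTu, i1, S.vtwo, map_zero, LinearMap.zero_apply]
  have hBB : A' * A' = T B u := by
    obtain ⟨c1, c2, c3⟩ := hcomp A' A' _ _ β β hA1' hA2' hA3' hA1' hA2' hwz1 hwz2 hA3'
    refine ext_pair S hpu ?_ ?_ fun y i1 i2 => ?_
    · rw [c1, hTu, hT.hv, zero_smul, add_zero]
    · rw [c2, hTu, hT.hvv', S.vtwo, S.two, zero_add, add_zero,
        show B (w • z) (w • z) = 1 by simp [hT.hz, hs]; grind]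
    · rw [c3 y i1 i2, hTu, i1, S.vtwo, map_zero, LinearMap.zero_apply]
  have hAB : A * A' = T B u * (A' * A) := by
    obtain ⟨c1, c2, c3⟩ := hcomp A A' z (w • z) α β hA1 hA2 hA3 hA1' hA2' hwz1 hwz2 hA3'
    obtain ⟨d1, d2, d3⟩ := hcomp A' A (w • z) z β α hA1' hA2' hA3' hA1 hA2 hT.hvz hT.hv'z hA3
    refine ext_pair S hpu ?_ ?_ fun y i1 i2 => ?_
    · rw [c1, mul_apply_U (T B u), d1, hTu, hT.hv, zero_smul, add_zero]
    · rw [c2, mul_apply_U (T B u), d2, hTu]
      simp [hT.hv, hT.hvv', hT.hvz, hT.hz, hs]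
      match_scalars <;> grind
    · rw [c3 y i1 i2, mul_apply_U (T B u), d3 y i1 i2, hTu]
      simp [hT.hv, i1, add_comm]
  obtain ⟨a, ha⟩ := X.surj A
  obtain ⟨b', hb⟩ := X.surj A'
  set M := Subgroup.closure ({a, b'} : Set E) with hM
  have hfixA : A.1.1 e = e ∧ A.1.1 f = f := by
    refine ⟨?_, ?_⟩
    · rw [hA3 e (S.symm0 eu) (S.symm0 eu'), S.symm0 ez, zero_smul, add_zero]
    · rw [hA3 f (S.symm0 fu) (S.symm0 fu'), S.symm0 fz, zero_smul, add_zero]
  have hfixA' : A'.1.1 e = e ∧ A'.1.1 f = f := by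
    refine ⟨?_, ?_⟩
    · rw [hA3' e (S.symm0 eu) (S.symm0 eu'), map_smulₛₗ, LinearMap.smul_apply, S.symm0 ez, smul_zero,
        zero_smul, add_zero]
    · rw [hA3' f (S.symm0 fu) (S.symm0 fu'), map_smulₛₗ, LinearMap.smul_apply, S.symm0 fz, smul_zero,
        zero_smul, add_zero]
  have hMfix : ∀ x ∈ M, (X.π x).1.1 e = e ∧ (X.π x).1.1 f = f := by
    intro x hx
    induction hx using Subgroup.closure_induction with
    | mem y hy =>
      rcases hy with rfl | rfl
      · rw [ha]; exact hfixA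
      · rw [hb]; exact hfixA'
    | one => rw [map_one]; exact ⟨rfl, rfl⟩
    | mul p q _ _ ihp ihq => exact ⟨by rw [map_mul, mul_apply_U, ihq.1, ihp.1], by rw [map_mul, mul_apply_U, ihq.2, ihp.2]⟩
    | inv p _ ihp =>
      refine ⟨?_, ?_⟩
      · conv_lhs => rw [← ihp.1, map_inv]
        exact inv_apply_U _ _
      · conv_lhs => rw [← ihp.2, map_inv]
        exact inv_apply_U _ _
  -- the commutators
  set c := X.L u with hc
  have hca : Commute a c := by
    have e0 := X.conj a u hiu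
    rw [ha, hA1] at e0
    exact mul_inv_eq_iff_eq_mul.1 e0
  have hcb : Commute b' c := by
    have e0 := X.conj b' u hiu
    rw [hb, hA1'] at e0
    exact mul_inv_eq_iff_eq_mul.1 e0
  set d := ⁅a, b'⁆ with hd
  have hdπ : X.π d = T B u := by
    rw [hd, map_commutatorElement, ha, hb, commutatorElement_def, mul_inv_eq_iff_eq_mul,
      mul_inv_eq_iff_eq_mul, hAB, mul_assoc]
  have hcen : ∀ x, X.π x = T B u → ∀ y, Commute y c → Commute y x := by
    intro x hx y hy
    have h0 : X.π (c⁻¹ * x) = 1 := by rw [map_mul, map_inv, X.proj u hiu, hx, inv_mul_cancel]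
    have := hy.mul_right (X.central _ h0 y)
    rwa [mul_inv_cancel_left] at this
  have hda : Commute a d := hcen d hdπ a hca
  have hdb : Commute b' d := hcen d hdπ b' hcb
  have hd2 : d * d = 1 := by
    have haa : Commute b' (a * a) := hcen _ (by rw [map_mul, ha, hAA]) b' hcb
    have e1 : ⁅a * a, b'⁆ = a * d * a⁻¹ * d := by rw [hd, commutatorElement_def, commutatorElement_def]; group
    rw [commutatorElement_eq_one_iff_commute.2 haa.symm, hda.eq, mul_inv_cancel_right] at e1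
    exact e1.symm
  have hDc : ∀ x ∈ M, Commute x d := by
    intro x hx
    induction hx using Subgroup.closure_induction with
    | mem y hy =>
      rcases hy with rfl | rfl
      · exact hda
      · exact hdb
    | one => exact Commute.one_left _
    | mul p q _ _ ihp ihq => exact ihp.mul_left ihq
    | inv p _ ihp => exact ihp.inv_left
  have hDc' : ∀ x ∈ M, ∀ k ∈ Subgroup.zpowers d, x * k * x⁻¹ = k := by
    intro x hx k hk
    obtain ⟨n, rfl⟩ := Subgroup.mem_zpowers_iff.1 hk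
    rw [((hDc x hx).zpow_right n).eq, mul_inv_cancel_right]
  have hgen : ∀ y ∈ ({a, b'} : Set E), ∀ x ∈ M, ⁅x, y⁆ ∈ Subgroup.zpowers d := by
    intro y hy x hx
    induction hx using Subgroup.closure_induction with
    | mem p hp =>
      rcases hp with rfl | rfl <;> rcases hy with rfl | rfl
      · rw [commutatorElement_self]; exact one_mem _
      · exact Subgroup.mem_zpowers _
      · rw [← commutatorElement_inv]; exact inv_mem (Subgroup.mem_zpowers _)
      · rw [commutatorElement_self]; exact one_mem _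
    | one => rw [commutatorElement_one_left]; exact one_mem _
    | mul p q hp hq ihp ihq =>
      rw [show ⁅p * q, y⁆ = p * ⁅q, y⁆ * p⁻¹ * ⁅p, y⁆ by simp only [commutatorElement_def]; group,
        hDc' p hp _ ihq]
      exact mul_mem ihq ihp
    | inv p hp ihp =>
      rw [show ⁅p⁻¹, y⁆ = p⁻¹ * (⁅p, y⁆)⁻¹ * p⁻¹⁻¹ by simp only [commutatorElement_def]; group,
        hDc' p⁻¹ (inv_mem hp) _ (inv_mem ihp)]
      exact inv_mem ihp
  have hcomm : ⁅M, M⁆ ≤ Subgroup.zpowers d := by
    refine Subgroup.commutator_le.2 fun x hx y hy => ?_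
    induction hy using Subgroup.closure_induction with
    | mem p hp => exact hgen p hp x hx
    | one => rw [commutatorElement_one_right]; exact one_mem _
    | mul p q hp hq ihp ihq =>
      rw [show ⁅x, p * q⁆ = ⁅x, p⁆ * (p * ⁅x, q⁆ * p⁻¹) by simp only [commutatorElement_def]; group,
        hDc' p hp _ ihq]
      exact mul_mem ihp ihq
    | inv p hp ihp =>
      rw [show ⁅x, p⁻¹⁆ = p⁻¹ * (⁅x, p⁆)⁻¹ * p⁻¹⁻¹ by simp only [commutatorElement_def]; group,
        hDc' p⁻¹ (inv_mem hp) _ (inv_mem ihp)]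
      exact inv_mem ihp
  refine injective_of_local S X hp M (fun x hx => (hMfix x hx).1) (fun x hx => (hMfix x hx).2) ?_ hQ ?_
  · intro x hx hx1
    obtain ⟨k, rfl⟩ := Subgroup.mem_zpowers_iff.1 (hcomm hx)
    rw [map_zpow, hdπ] at hx1
    rcases Int.even_or_odd k with ⟨m, rfl⟩ | ⟨m, rfl⟩
    · rw [← two_mul, zpow_mul, zpow_two, hd2, one_zpow]
    · rw [zpow_add_one, zpow_mul, zpow_two, T_sq S hT.hv, one_zpow, one_mul] at hx1
      exact absurd hx1 (T_ne_one S hiu)
  -- the index in the isometries of the orthogonal part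
  set H := ((M.map X.π).subgroupOf (vecStab B e)).map (psi S hp) with hH
  let A0 : ↥(vecStab B e) := ⟨A, hfixA.1⟩
  let B0 : ↥(vecStab B e) := ⟨A', hfixA'.1⟩
  set As := psi S hp A0 with hAs
  set Bs := psi S hp B0 with hBs
  let U0 : ↥(vecStab B e) := ⟨T B u, T_fix S hT.hv (S.symm0 eu)⟩
  have hA0 : A0 * A0 = U0 := Subtype.ext hAA
  have hB0 : B0 * B0 = U0 := Subtype.ext hBB
  have hAB0 : A0 * B0 = U0 * (B0 * A0) := Subtype.ext hAB
  have hU0 : psi S hp U0 ≠ 1 := by
    intro h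
    have h1 := (psi_eq_one_iff S hp U0).1 h u' eu' fu'
    change (T B u).1.1 u' = u' + B f ((T B u).1.1 u') • e at h1
    rw [hTu, hT.hvv', one_smul, map_add, fu', fu, add_zero, zero_smul, add_zero, add_eq_left] at h1
    exact hiu.1 h1
  have hU2 : psi S hp U0 * psi S hp U0 = 1 := by
    rw [← map_mul, show U0 * U0 = 1 from Subtype.ext (T_sq S hT.hv), map_one]
  have eA : As * As = psi S hp U0 := by rw [hAs, ← map_mul, hA0]
  have eB : Bs * Bs = psi S hp U0 := by rw [hBs, ← map_mul, hB0]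
  have eAB : As * Bs = psi S hp U0 * (Bs * As) := by rw [hAs, hBs, ← map_mul, ← map_mul, ← map_mul, hAB0]
  have hne : As * Bs ≠ Bs * As := fun h => hU0 (by
    rw [h] at eAB
    exact mul_eq_right.1 eAB.symm)
  have : Fact (Nat.Prime 2) := ⟨Nat.prime_two⟩
  have h4 : orderOf As = 4 := by
    refine orderOf_eq_prime_pow (p := 2) (n := 1) ?_ ?_
    · rw [pow_one, pow_two, eA]; exact hU0
    · rw [show 2 ^ (1 + 1) = 2 * 2 by norm_num, pow_mul, pow_two, pow_two, eA, hU2]
  have hBn : Bs * As * Bs⁻¹ = As⁻¹ := by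
    rw [← eA, mul_assoc As As] at eAB
    have e1 := mul_left_cancel eAB
    rw [mul_inv_eq_iff_eq_mul, eq_inv_mul_iff_mul_eq]
    exact e1.symm
  have hAsH : As ∈ H := ⟨A0, ⟨a, Subgroup.subset_closure (by simp), ha⟩, rfl⟩
  have hBsH : Bs ∈ H := ⟨B0, ⟨b', Subgroup.subset_closure (by simp), hb⟩, rfl⟩
  set K := Subgroup.zpowers As ⊔ Subgroup.zpowers Bs with hK
  have hKH : K ≤ H := sup_le (Subgroup.zpowers_le.2 hAsH) (Subgroup.zpowers_le.2 hBsH)
  have hp2 : ∀ y : isomGroup (restrictForm B (perp2 B e f)), y ^ 4 = 1 → IsPGroup 2 (Subgroup.zpowers y) := by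
    intro y hy x
    refine ⟨2, Subtype.ext ?_⟩
    obtain ⟨k, hk⟩ := Subgroup.mem_zpowers_iff.1 x.2
    rw [Subgroup.coe_pow, ← hk, ← zpow_natCast, ← zpow_mul, mul_comm, zpow_mul, zpow_natCast,
      show (2 ^ 2 : ℕ) = 4 by norm_num, hy, one_zpow]
    rfl
  have hAn : Subgroup.zpowers Bs ≤ Subgroup.normalizer (Subgroup.zpowers As : Set _) := by
    rw [Subgroup.zpowers_le]
    refine Subgroup.mem_set_normalizer_iff.2 fun x => ?_
    simp only [SetLike.mem_coe, Subgroup.mem_zpowers_iff]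
    constructor
    · rintro ⟨k, rfl⟩
      exact ⟨-k, by rw [← conj_zpow, hBn, inv_zpow']⟩
    · rintro ⟨k, hk⟩
      refine ⟨-k, ?_⟩
      have e1 : Bs * As ^ (-k) * Bs⁻¹ = Bs * x * Bs⁻¹ := by rw [← conj_zpow, hBn, inv_zpow', neg_neg, hk]
      exact mul_left_cancel (mul_right_cancel e1)
  have hKp : IsPGroup 2 K := (hp2 As (by rw [← h4]; exact pow_orderOf_eq_one As)).to_sup_of_normal_left'
    (hp2 Bs (by rw [show (4 : ℕ) = 2 * 2 by norm_num, pow_mul, pow_two, pow_two, eB, hU2])) hAn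
  have : Finite (perp2 B e f) := Module.finite_of_finite F
  have : Finite (isomGroup (restrictForm B (perp2 B e f))) :=
    Finite.of_injective (fun g => ((g.1 : perp2 B e f → perp2 B e f))) fun g g' h => Subtype.ext (DFunLike.coe_injective h)
  obtain ⟨k, hk⟩ := IsPGroup.iff_card.1 hKp
  have h8 : 8 ∣ Nat.card H := by
    refine Dvd.dvd.trans ?_ (Subgroup.card_dvd_of_le hKH)
    have h4K : 4 ∣ Nat.card K := by
      rw [← h4, ← Nat.card_zpowers]
      exact Subgroup.card_dvd_of_le le_sup_left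
    have hlt : 4 < Nat.card K := by
      rcases eq_or_lt_of_le (Nat.le_of_dvd Nat.card_pos h4K) with h | h
      · have e1 : Subgroup.zpowers As = K := Subgroup.eq_of_le_of_card_ge le_sup_left (by
          rw [Nat.card_zpowers, h4, h])
        have hBA : Bs ∈ Subgroup.zpowers As := e1 ▸ Subgroup.mem_sup_right (Subgroup.mem_zpowers Bs)
        obtain ⟨i, hi⟩ := Subgroup.mem_zpowers_iff.1 hBA
        exact absurd (by rw [← hi]; exact ((Commute.refl As).zpow_right i).eq) hne
      · exact h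
    rw [hk] at hlt ⊢
    rw [show (8 : ℕ) = 2 ^ 3 by norm_num]
    refine pow_dvd_pow 2 ?_
    by_contra h
    have : (2 : ℕ) ^ k ≤ 2 ^ 2 := Nat.pow_le_pow_right (by norm_num) (by omega)
    omega
  obtain ⟨hF, hσ⟩ := card_four S
  have : Fintype F := Fintype.ofFinite F
  have hcard : Nat.card (isomGroup (restrictForm B (perp2 B e f))) = 648 := by
    rw [card_isom_herm_closed (q := 2) (by rw [← Nat.card_eq_fintype_card, hF]; norm_num) hσ (S.herm.restrict _)
      (restrict_sep S hp)]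
    have h3 : finrank F (perp2 B e f) = 3 := by have := finrank_perp2 S hp; omega
    rw [h3]
    decide
  obtain ⟨m, hm⟩ := h8
  have e81 : m * H.index = 81 := by
    have := H.card_mul_index
    rw [hm, hcard, mul_assoc] at this
    omega
  exact Odd.of_dvd_nat (show Odd 81 by decide) ⟨m, by rw [← e81, mul_comm]⟩

omit X in
/-- The orthogonal part of a pair as a setting. -/
theorem restrict_setting {e f : V} (hp : Pair B e f) (h6 : 6 ≤ finrank F V) :
    Setting (restrictForm B (perp2 B e f)) := by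
  refine ⟨S.herm.restrict _, restrict_sep S hp, ?_, S.two, S.norm, S.fixed, S.trace⟩
  have := finrank_perp2 S hp
  omega

omit X in
/-- An element scaling the point and, by a cube root of unity, the orthogonal part. -/
theorem exists_scaler (h7 : finrank F V = 7) {w : F} (hw : w * w = w + 1) (hs : σ w = w + 1) {e f : V}
    (hp : Pair B e f) : ∃ g : ↥(sIsom B), g.1.1 e = (w + 1) • e ∧
      ∀ y, B e y = 0 → B f y = 0 → g.1.1 y = w • y := by
  classical
  obtain ⟨he, hf, hfe⟩ := hp.iso S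
  have S' := restrict_setting S hp (by omega)
  have h5 : finrank F (perp2 B e f) = 5 := by have := finrank_perp2 S hp; omega
  obtain ⟨⟨u, hu⟩, ⟨u', hu'⟩, hpu⟩ := exists_pair S'
  obtain ⟨⟨p, hp1⟩, ⟨p', hp2⟩, ⟨z, hz⟩, hT, up, u'p, up', u'p', uz, u'z⟩ :=
    exists_triad_perp S' (le_of_eq h5.symm) hpu
  have g1 : B u u = 0 := hpu.he
  have g2 : B u' u' = 0 := hpu.hf
  have g3 : B u u' = 1 := hpu.hef
  have t1 : B p p = 0 := hT.hv
  have t2 : B p' p' = 0 := hT.hv'
  have t3 : B p p' = 1 := hT.hvv'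
  have t4 : B p z = 0 := hT.hvz
  have t5 : B p' z = 0 := hT.hv'z
  have t6 : B z z = 1 := hT.hz
  change B u p = 0 at up
  change B u' p = 0 at u'p
  change B u p' = 0 at up'
  change B u' p' = 0 at u'p'
  change B u z = 0 at uz
  change B u' z = 0 at u'z
  set a := p + w • p' with ha
  set b := p + (w + 1) • p' with hb
  have h2 := two_zero S
  have t3' := symm1 S t3
  have haa : B a a = 1 := by simp [ha, t1, t2, t3, t3', hs]; grind
  have hbb : B b b = 1 := by simp [hb, t1, t2, t3, t3', hs]; grind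
  have hab : B a b = 0 := by simp [ha, hb, t1, t2, t3, t3', hs]; grind
  have hua : B u a = 0 := by simp [ha, up, up']
  have hu'a : B u' a = 0 := by simp [ha, u'p, u'p']
  have hub : B u b = 0 := by simp [hb, up, up']
  have hu'b : B u' b = 0 := by simp [hb, u'p, u'p']
  have hza : B z a = 0 := by simp [ha, S.symm0 t4, S.symm0 t5]
  have hzb : B z b = 0 := by simp [hb, S.symm0 t4, S.symm0 t5]
  obtain ⟨eu, fu⟩ := mem_perp2.1 hu
  obtain ⟨eu', fu'⟩ := mem_perp2.1 hu'
  obtain ⟨ep, fp⟩ := mem_perp2.1 hp1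
  obtain ⟨ep', fp'⟩ := mem_perp2.1 hp2
  obtain ⟨ez, fz⟩ := mem_perp2.1 hz
  have eam : B e a = 0 ∧ B f a = 0 := by simp [ha, ep, ep', fp, fp']
  have ebm : B e b = 0 ∧ B f b = 0 := by simp [hb, ep, ep', fp, fp']
  obtain ⟨-, r1, -, -, hr1, hr1e, -, -, -, -, -⟩ :=
    exists_rot S hw hs (v := e) (v' := f) (z := a) ⟨hp.he, hp.hf, hp.hef, eam.1, eam.2, haa⟩
  obtain ⟨-, r2, -, -, hr2, hr2u, hr2u', -, -, -, -⟩ :=
    exists_rot S hw hs (v := u) (v' := u') (z := z) ⟨g1, g2, g3, uz, u'z, t6⟩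
  have hc : B (a + b) (a + b) = 0 := by simp [haa, hbb, hab, S.symm0 hab]; grind
  have hd : B (a + (w + 1) • b) (a + (w + 1) • b) = 0 := by simp [haa, hbb, hab, S.symm0 hab, hs]; grind
  set P := T B (a + b) * T B (a + (w + 1) • b) with hP
  have hPf : ∀ x, B a x = 0 → B b x = 0 → P.1.1 x = x := fun x x1 x2 => by
    rw [hP, mul_apply_U, T_fix S hd (by simp [x1, x2]), T_fix S hc (by simp [x1, x2])]
  have hr1f : ∀ x, B e x = 0 → B f x = 0 → B a x = 0 → r1.1.1 x = x := fun x x1 x2 x3 => by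
    rw [hr1, x1, x2, x3]; simp
  have hr2f : ∀ x, B u x = 0 → B u' x = 0 → B z x = 0 → r2.1.1 x = x := fun x x1 x2 x3 => by
    rw [hr2, x1, x2, x3]; simp
  refine ⟨r1 * r1 * (r2 * P), ?_, fun y y1 y2 => ?_⟩
  · rw [mul_apply_U, mul_apply_U, mul_apply_U, hPf e (S.symm0 eam.1) (S.symm0 ebm.1),
      hr2f e (S.symm0 eu) (S.symm0 eu') (S.symm0 ez), hr1e, map_smul, hr1e, smul_smul, hw]
  have hy := frame_expand S' h5 (e := ⟨u, hu⟩) (f := ⟨u', hu'⟩) (a := ⟨z, hz⟩)
    (b := ⟨a, mem_perp2.2 eam⟩) (c := ⟨b, mem_perp2.2 ebm⟩) g1 g2 g3 t6 haa hbb uz hua hub u'z hu'a hu'b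
    hza hzb hab ⟨y, mem_perp2.2 ⟨y1, y2⟩⟩
  have hy' := congrArg Subtype.val hy
  simp only [Submodule.coe_add, Submodule.coe_smul, restrictForm_apply] at hy'
  have e1 : (r1 * r1 * (r2 * P)).1.1 u = w • u := by
    rw [mul_apply_U, mul_apply_U, mul_apply_U, hPf u (S.symm0 hua) (S.symm0 hub), hr2u, map_smul, map_smul,
      hr1f u eu fu (S.symm0 hua), hr1f u eu fu (S.symm0 hua)]
  have e2 : (r1 * r1 * (r2 * P)).1.1 u' = w • u' := by
    rw [mul_apply_U, mul_apply_U, mul_apply_U, hPf u' (S.symm0 hu'a) (S.symm0 hu'b), hr2u', map_smul, map_smul,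
      hr1f u' eu' fu' (S.symm0 hu'a), hr1f u' eu' fu' (S.symm0 hu'a)]
  have hr2z : r2.1.1 z = w • z := by
    rw [hr2, u'z, uz, t6]
    match_scalars <;> grind
  have e3 : (r1 * r1 * (r2 * P)).1.1 z = w • z := by
    rw [mul_apply_U, mul_apply_U, mul_apply_U, hPf z (S.symm0 hza) (S.symm0 hzb), hr2z, map_smul, map_smul,
      hr1f z ez fz (S.symm0 hza), hr1f z ez fz (S.symm0 hza)]
  have hPa : P.1.1 a = (w + 1) • a := by
    rw [hP, mul_apply_U, T_apply S hd, T_apply S hc]
    simp [haa, hbb, hab, S.symm0 hab, hs]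
    match_scalars <;> grind
  have hPb : P.1.1 b = w • b := by
    rw [hP, mul_apply_U, T_apply S hd, T_apply S hc]
    simp [haa, hbb, hab, S.symm0 hab, hs]
    match_scalars <;> grind
  have hr1a : r1.1.1 a = w • a := by
    rw [hr1, eam.1, eam.2, haa]
    match_scalars <;> grind
  have e4 : (r1 * r1 * (r2 * P)).1.1 a = w • a := by
    rw [mul_apply_U, mul_apply_U, mul_apply_U, hPa, map_smul, hr2f a hua hu'a hza, map_smul, hr1a, map_smul,
      map_smul, hr1a, smul_smul, smul_smul]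
    match_scalars <;> grind
  have e5 : (r1 * r1 * (r2 * P)).1.1 b = w • b := by
    rw [mul_apply_U, mul_apply_U, mul_apply_U, hPb, map_smul, hr2f b hub hu'b hzb, map_smul, map_smul,
      hr1f b ebm.1 ebm.2 hab, hr1f b ebm.1 ebm.2 hab]
  rw [hy']
  simp only [map_add, map_smul, e1, e2, e3, e4, e5]
  module

theorem injective_seven (h7 : finrank F V = 7) : Function.Injective X.π := by
  classical
  obtain ⟨w, hw, hs, hn, hw0, hw1, hw2⟩ := exists_omega S
  obtain ⟨e, f, hp⟩ := exists_pair S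
  obtain ⟨he, hfI, hfe⟩ := hp.iso S
  have S' := restrict_setting S hp (by omega)
  have h5 : finrank F (perp2 B e f) = 5 := by have := finrank_perp2 S hp; omega
  obtain ⟨g0, hg0e, hg0y⟩ := exists_scaler S h7 hw hs hp
  obtain ⟨g, hg⟩ := X.surj g0
  have hQ : ∀ x ∈ Qhat X e, X.π x = 1 → x = 1 := fun x hx hx1 =>
    Qhat_inj S X he hp.hef hp.hf hw hw2 (fun h => one_ne_zero (α := F) (by linear_combination h)) (g := g)
      (by rw [hg]; exact hg0e) (fun y y1 y2 => by rw [hg]; exact hg0y y y1 y2) hx hx1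
  set gens : Set E := {x | ∃ u, Iso B u ∧ B e u = 0 ∧ B f u = 0 ∧ x = X.L u} with hgens
  set M := Subgroup.closure gens with hM
  have hfix : ∀ x ∈ M, (X.π x).1.1 e = e ∧ (X.π x).1.1 f = f := by
    intro x hx
    induction hx using Subgroup.closure_induction with
    | mem y hy =>
      obtain ⟨u, hu, u1, u2, rfl⟩ := hy
      rw [X.proj u hu]
      exact ⟨T_fix S hu.2 (S.symm0 u1), T_fix S hu.2 (S.symm0 u2)⟩
    | one => rw [map_one]; exact ⟨rfl, rfl⟩
    | mul p q _ _ ihp ihq =>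
      exact ⟨by rw [map_mul, mul_apply_U, ihq.1, ihp.1], by rw [map_mul, mul_apply_U, ihq.2, ihp.2]⟩
    | inv p _ ihp =>
      refine ⟨?_, ?_⟩
      · conv_lhs => rw [← ihp.1, map_inv]
        exact inv_apply_U _ _
      · conv_lhs => rw [← ihp.2, map_inv]
        exact inv_apply_U _ _
  let ι : ↥M →* ↥(vecStab B e) := (X.π.comp M.subtype).codRestrict _ fun x => (hfix x.1 x.2).1
  let ρ : ↥M →* isomGroup (restrictForm B (perp2 B e f)) := (psi S hp).comp ι
  have hρ : ∀ (x : ↥M) (y : perp2 B e f), ((ρ x).1 y : V) = (X.π x.1).1.1 y.1 := fun x y => by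
    show ((psi S hp (ι x)).1 y : V) = _
    rw [psi_apply]
    show (X.π x.1).1.1 y.1 + B f ((X.π x.1).1.1 y.1) • e = _
    have h0 : B f ((X.π x.1).1.1 y.1) = 0 := by
      have := pres_U (X.π x.1) f y.1
      rw [(hfix x.1 x.2).2] at this
      rw [this]; exact (mem_perp2.1 y.2).2
    rw [h0, zero_smul, add_zero]
  have hρgen : ∀ (u : perp2 B e f), Iso (restrictForm B (perp2 B e f)) u → ∀ h : X.L u.1 ∈ M,
      IsUTv (ρ ⟨X.L u.1, h⟩) u 1 := by
    intro u hu h
    refine ⟨hu.2, by rw [map_one, S.two], fun y => Subtype.ext ?_⟩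
    have hu' : Iso B u.1 := ⟨fun e0 => hu.1 (Subtype.ext e0), hu.2⟩
    rw [hρ, X.proj _ hu', T_apply S hu'.2, one_mul]
    rfl
  have hLmem : ∀ u : perp2 B e f, Iso (restrictForm B (perp2 B e f)) u → X.L u.1 ∈ M := fun u hu =>
    Subgroup.subset_closure ⟨u.1, ⟨fun e0 => hu.1 (Subtype.ext e0), hu.2⟩, (mem_perp2.1 u.2).1, (mem_perp2.1 u.2).2, rfl⟩
  have hdet : ∀ x : ↥M, ρ x ∈ sIsom (restrictForm B (perp2 B e f)) := by
    rintro ⟨x, hx⟩
    induction hx using Subgroup.closure_induction with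
    | mem y hy =>
      obtain ⟨u, hu, u1, u2, rfl⟩ := hy
      have hu' : Iso (restrictForm B (perp2 B e f)) ⟨u, mem_perp2.2 ⟨u1, u2⟩⟩ :=
        ⟨fun e0 => hu.1 (congrArg Subtype.val e0), hu.2⟩
      exact MonoidHom.mem_ker.2 ((S.herm.restrict _).idet_uTv (hρgen _ hu' _))
    | one => exact (map_one ρ).symm ▸ one_mem _
    | mul p q hp' hq' ihp ihq =>
      rw [show (⟨p * q, mul_mem hp' hq'⟩ : ↥M) = ⟨p, hp'⟩ * ⟨q, hq'⟩ from rfl, map_mul]
      exact mul_mem ihp ihq
    | inv p hp' ihp =>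
      rw [show (⟨p⁻¹, inv_mem hp'⟩ : ↥M) = (⟨p, hp'⟩ : ↥M)⁻¹ from rfl, map_inv]
      exact inv_mem ihp
  let πW : ↥M →* ↥(sIsom (restrictForm B (perp2 B e f))) := ρ.codRestrict _ hdet
  have hπW : ∀ x : ↥M, πW x = 1 → X.π x.1 = 1 := by
    intro x hx
    refine ext_pair S hp ((hfix x.1 x.2).1.trans rfl) ((hfix x.1 x.2).2.trans rfl) fun y y1 y2 => ?_
    have h0 := hρ x ⟨y, mem_perp2.2 ⟨y1, y2⟩⟩
    rw [show ρ x = 1 from congrArg Subtype.val hx] at h0
    exact h0.symm
  let LW : perp2 B e f → ↥M := fun u =>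
    if h : Iso (restrictForm B (perp2 B e f)) u then ⟨X.L u.1, hLmem u h⟩ else 1
  have hLW : ∀ u, Iso (restrictForm B (perp2 B e f)) u → (LW u).1 = X.L u.1 := fun u hu => by
    simp [LW, hu]
  have hiV : ∀ u : perp2 B e f, Iso (restrictForm B (perp2 B e f)) u → Iso B u.1 := fun u hu =>
    ⟨fun e0 => hu.1 (Subtype.ext e0), hu.2⟩
  have hsurjW : Function.Surjective πW := by
    have htop : sIsom (restrictForm B (perp2 B e f)) ≤ ρ.range := by
      rw [(S.herm.restrict _).sIsom_eq_tGroup (restrict_sep S hp) (fun _ => Or.inr (by omega)), tGroup,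
        Subgroup.closure_le]
      rintro x ⟨v, c, hx⟩
      rcases eq_or_ne v 0 with rfl | hv
      · refine ⟨1, Subtype.ext (LinearEquiv.ext fun y => ?_)⟩
        rw [hx.2.2, smul_zero, add_zero, map_one]; rfl
      rcases S.fixed c (by have := hx.2.1; exact (S.eq_of_add this).symm) with rfl | rfl
      · refine ⟨1, Subtype.ext (LinearEquiv.ext fun y => ?_)⟩
        rw [hx.2.2, zero_mul, zero_smul, add_zero, map_one]; rfl
      · refine ⟨⟨X.L v.1, hLmem v ⟨hv, hx.1⟩⟩, Subtype.ext (LinearEquiv.ext fun y => ?_)⟩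
        rw [(hρgen v ⟨hv, hx.1⟩ _).2.2, hx.2.2]
    rintro ⟨x, hx⟩
    obtain ⟨m, hm⟩ := htop hx
    exact ⟨m, Subtype.ext hm⟩
  let XW : Ext (restrictForm B (perp2 B e f)) ↥M := {
    π := πW
    L := LW
    surj := hsurjW
    central := fun z hz g => Subtype.ext (X.central z.1 (hπW z hz) g.1)
    two := fun z hz => by
      obtain ⟨k, hk⟩ := X.two z.1 (hπW z hz)
      exact ⟨k, Subtype.ext hk⟩
    proj := fun v hv => Subtype.ext (Subtype.ext (LinearEquiv.ext fun y => Subtype.ext (by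
      show ((ρ (LW v)).1 y : V) = _
      rw [hρ, hLW v hv, X.proj _ (hiV v hv), T_apply S (hiV v hv).2, T_apply S' hv.2]
      rfl)))
    sq := fun v hv => Subtype.ext (by rw [Subgroup.coe_mul, hLW v hv]; exact X.sq _ (hiV v hv))
    smul := fun v c hv hc => Subtype.ext (by
      rw [hLW _ (hv.smul hc), hLW v hv]; exact X.smul _ c (hiV v hv) hc)
    conj := fun g v hv => Subtype.ext (by
      rw [hLW _ (hv.map _)]
      push_cast
      rw [hLW v hv, X.conj _ _ (hiV v hv)]
      congr 1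
      exact (hρ g v).symm)
    five := fun u v hu hv huv hne w' h1 h2 => Subtype.ext (by
      have hi : ∀ c : F, Iso (restrictForm B (perp2 B e f)) (u + c • v) :=
        fun c => hu.line hv huv (S'.symm0 huv) hne c
      have h1' := hi 1
      rw [one_smul] at h1'
      push_cast
      rw [hLW v hv, hLW u hu, hLW _ h1', hLW _ (hi w'), hLW _ (hi _)]
      refine X.five _ _ (hiV u hu) (hiV v hv) huv (fun c hc => hne c (Subtype.ext hc)) w' h1 h2)
    gen := by
      rw [eq_top_iff]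
      rintro ⟨x, hx⟩ -
      induction hx using Subgroup.closure_induction with
      | mem y hy =>
        obtain ⟨u, hu, u1, u2, rfl⟩ := hy
        have hu' : Iso (restrictForm B (perp2 B e f)) ⟨u, mem_perp2.2 ⟨u1, u2⟩⟩ :=
          ⟨fun e0 => hu.1 (congrArg Subtype.val e0), hu.2⟩
        exact Subgroup.subset_closure ⟨_, hu', Subtype.ext (hLW _ hu').symm⟩
      | one => exact one_mem _
      | mul p q hp' hq' ihp ihq => exact mul_mem ihp ihq
      | inv p hp' ihp => exact inv_mem ihp }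
  have hinjW := injective_five S' XW h5
  refine injective_of_local S X hp M (fun x hx => (hfix x hx).1) (fun x hx => (hfix x hx).2) ?_ hQ ?_
  · intro z hz hz1
    have hzM : z ∈ M := (Subgroup.commutator_le.2 fun a ha b hb => by
      rw [commutatorElement_def]; exact mul_mem (mul_mem (mul_mem ha hb) (inv_mem ha)) (inv_mem hb)) hz
    have h1 : πW ⟨z, hzM⟩ = 1 := by
      have h2 : ι ⟨z, hzM⟩ = 1 := Subtype.ext hz1
      exact Subtype.ext (show psi S hp (ι ⟨z, hzM⟩) = 1 by rw [h2, map_one])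
    exact congrArg Subtype.val (hinjW (a₁ := ⟨z, hzM⟩) (a₂ := 1) (h1.trans (map_one XW.π).symm))
  set H := ((M.map X.π).subgroupOf (vecStab B e)).map (psi S hp) with hH
  have hle : sIsom (restrictForm B (perp2 B e f)) ≤ H := by
    intro x hx
    obtain ⟨m, hm⟩ := hsurjW ⟨x, hx⟩
    exact ⟨ι m, ⟨m.1, m.2, rfl⟩, congrArg Subtype.val hm⟩
  refine Odd.of_dvd_nat (show Odd 3 by decide) ((Subgroup.index_dvd_of_le hle).trans ?_)
  let dh : isomGroup (restrictForm B (perp2 B e f)) →* Fˣ := MonoidHom.toHomUnits (idet _)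
  rw [show sIsom (restrictForm B (perp2 B e f)) = dh.ker from
    Subgroup.ext fun x => by simp [sIsom, dh, MonoidHom.mem_ker, Units.ext_iff]]
  rw [Subgroup.index_ker]
  exact units_dvd_three S _

end CfsgLib.ThreeTransp.UnitaryRadical
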