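import Cfsg.Agent.Lib.ThreeTransp.UnitaryRadical.Cases

/-!
# Fixed points of a scalar times a quasi-reflection

An elementary abelian 2-group acted on by the unitary group of degree five over the field with four
elements, such that a transvection fixes the commutators of the orthogonal ones and commutators of
non-orthogonal transvections meet trivially: if the group has no fixed points, neither does the
scalar times a quasi-reflection.
-/

set_option autoImplicit false
set_option linter.unusedSectionVars false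

namespace CfsgLib.ThreeTransp.UnitaryRadical

open Module CfsgLib.Classical
open CfsgLib.ThreeTransp.UnitarySix (Setting tv tv_apply)

variable {F : Type*} [Field F] [Finite F] {V : Type*} [AddCommGroup V] [Module F V]
  [FiniteDimensional F V] {σ : F →+* F} {B : V →ₛₗ[σ] V →ₗ[F] F}

/-- The element acting as a cube root of unity on the perp of a unit vector and as its conjugate on it. -/
structure Rho (B : V →ₛₗ[σ] V →ₗ[F] F) (w : F) (z : V) (ρ : ↥(sIsom B)) : Prop where
  hw : w * w = w + 1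
  hs : σ w = w + 1
  hz : B z z = 1
  form : ∀ x, ρ.1.1 x = w • x + B z x • z

/-- The second point attached to a vector. -/
def bpt (B : V →ₛₗ[σ] V →ₗ[F] F) (w : F) (z v : V) : V := (w + 1) • v + (w * B z v) • z

/-- An action on a radical. -/
structure RadAct {M : Type*} [AddCommGroup M] (a : ↥(sIsom B) →* AddMonoid.End M) : Prop where
  two : ∀ x : M, x + x = 0
  orth : ∀ u v, Iso B u → Iso B v → B u v = 0 → ∀ n, a (T B u) (a (T B v) n + n) = a (T B v) n + n
  inter : ∀ v w, Iso B v → Iso B w → B v w ≠ 0 → ∀ n m,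
    a (T B v) n + n = a (T B w) m + m → a (T B v) n + n = 0
  fixed : ∀ n, (∀ v, Iso B v → a (T B v) n = n) → n = 0

variable (S : Setting B)
include S

/-- A unit vector in the kernel of a split map. -/
theorem exists_unit_ker {w : F} (hs : σ w = w + 1) {W : Type*} [AddCommGroup W] [Module F W]
    [FiniteDimensional F W] (Φ : V →ₗ[F] W) (hlt : finrank F W < finrank F V) (sec : W → V)
    (hsec : ∀ c, Φ (sec c) = c) (hperp : ∀ x, Φ x = 0 → ∀ c, B x (sec c) = 0) :
    ∃ c, Φ c = 0 ∧ B c c = 1 := by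
  have hk : LinearMap.ker Φ ≠ ⊥ := by
    intro h
    have := LinearMap.finrank_le_finrank_of_injective (LinearMap.ker_eq_bot.1 h)
    omega
  obtain ⟨x, hx, hx0⟩ := Submodule.exists_mem_ne_zero_of_ne_bot hk
  rw [LinearMap.mem_ker] at hx
  rcases S.self_val x with hxx | hxx
  · obtain ⟨s, -, hs'⟩ := S.exists_dual (W := ⊥) (r := x) (by simpa using hx0)
    set t := s - sec (Φ s) with ht
    have t1 : Φ t = 0 := by rw [ht, map_sub, hsec, sub_self]
    have t2 : B x t = 1 := by rw [ht, map_sub, hperp x hx, hs', sub_zero]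
    rcases S.self_val t with htt | htt
    · refine ⟨x + w • t, by rw [map_add, map_smul, hx, t1, smul_zero, add_zero], ?_⟩
      rw [S.herm.add_self, hxx, S.herm.smul_self, htt, map_smul, t2, smul_eq_mul, mul_one, mul_zero, hs]
      linear_combination S.two w
    · exact ⟨t, t1, htt⟩
  · exact ⟨x, hx, hxx⟩

theorem exists_unit_perp3 (h5 : finrank F V = 5) {w : F} (hs : σ w = w + 1) {v v' z : V}
    (h : Triad B v v' z) : ∃ e, B v e = 0 ∧ B v' e = 0 ∧ B z e = 0 ∧ B e e = 1 := by
  obtain ⟨hvv, hzv, hzv', -, -⟩ := h.rev S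
  obtain ⟨e, he, he1⟩ := exists_unit_ker S hs ((B v).prod ((B v').prod (B z))) (by simp [h5])
    (fun c => c.2.1 • v + c.1 • v' + c.2.2 • z)
    (fun c => by simp [h.hv, h.hv', h.hvv', h.hvz, h.hv'z, h.hz, hvv, hzv, hzv'])
    (fun x hx c => by
      simp only [LinearMap.prod_apply, Function.prod_apply, Prod.mk_eq_zero] at hx
      simp [S.symm0 hx.1, S.symm0 hx.2.1, S.symm0 hx.2.2])
  simp only [LinearMap.prod_apply, Function.prod_apply, Prod.mk_eq_zero] at he
  exact ⟨e, he.1, he.2.1, he.2.2, he1⟩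

theorem exists_unit_perp4 (h5 : finrank F V = 5) {w : F} (hs : σ w = w + 1) {v v' z a : V}
    (h : Triad B v v' z) (ha : B a a = 1) (hva : B v a = 0) (hv'a : B v' a = 0) (hza : B z a = 0) :
    ∃ e, B v e = 0 ∧ B v' e = 0 ∧ B z e = 0 ∧ B a e = 0 ∧ B e e = 1 := by
  obtain ⟨hvv, hzv, hzv', -, -⟩ := h.rev S
  obtain ⟨e, he, he1⟩ := exists_unit_ker S hs ((B v).prod ((B v').prod ((B z).prod (B a)))) (by simp [h5])
    (fun c => c.2.1 • v + c.1 • v' + c.2.2.1 • z + c.2.2.2 • a)
    (fun c => by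
      simp [h.hv, h.hv', h.hvv', h.hvz, h.hv'z, h.hz, hvv, hzv, hzv', ha, hva, hv'a, hza, S.symm0 hva,
        S.symm0 hv'a, S.symm0 hza])
    (fun x hx c => by
      simp only [LinearMap.prod_apply, Function.prod_apply, Prod.mk_eq_zero] at hx
      simp [S.symm0 hx.1, S.symm0 hx.2.1, S.symm0 hx.2.2.1, S.symm0 hx.2.2.2])
  simp only [LinearMap.prod_apply, Function.prod_apply, Prod.mk_eq_zero] at he
  exact ⟨e, he.1, he.2.1, he.2.2.1, he.2.2.2, he1⟩

/-- A partner of an isotropic vector orthogonal to a unit vector. -/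
theorem exists_partner_perp {z v : V} (hz : B z z = 1) (hv : Iso B v) (hzv : B z v = 0) :
    ∃ v', Triad B v v' z := by
  obtain ⟨s, -, hs⟩ := S.exists_dual (W := ⊥) (r := v) (by simpa using hv.1)
  set t := s + B z s • z with ht
  have t1 : B z t = 0 := by rw [ht, map_add, map_smul, hz, smul_eq_mul, mul_one, S.two]
  have t2 : B v t = 1 := by rw [ht, map_add, map_smul, hs, S.symm0 hzv, smul_zero, add_zero]
  obtain ⟨a, ha⟩ := S.exists_iso hv.2 t2
  refine ⟨t + a • v, hv.2, ha, ?_, S.symm0 hzv, S.symm0 ?_, hz⟩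
  · rw [map_add, map_smul, hv.2, t2, smul_zero, add_zero]
  · rw [map_add, map_smul, t1, hzv, smul_zero, add_zero]

theorem exists_iso_perp (h5 : finrank F V = 5) {w : F} (hs : σ w = w + 1) {z : V} (hz : B z z = 1) :
    ∃ v, Iso B v ∧ B z v = 0 := by
  obtain ⟨e, he, he1⟩ := exists_unit_ker S hs (B z) (by simp [h5]) (fun c => c • z)
    (fun c => by simp [hz]) (fun x hx c => by simp [S.symm0 hx])
  obtain ⟨c, hc, hc1⟩ := exists_unit_ker S hs ((B z).prod (B e)) (by simp [h5])
    (fun c => c.1 • z + c.2 • e) (fun c => by simp [hz, he, he1, S.symm0 he]) (fun x hx c => by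
      simp only [LinearMap.prod_apply, Function.prod_apply, Prod.mk_eq_zero] at hx
      simp [S.symm0 hx.1, S.symm0 hx.2])
  simp only [LinearMap.prod_apply, Function.prod_apply, Prod.mk_eq_zero] at hc
  refine ⟨e + c, ⟨fun h => ?_, ?_⟩, by rw [map_add, he, hc.1, add_zero]⟩
  · have h2 : B e (e + c) = 0 := by rw [h, map_zero]
    rw [map_add, he1, hc.2, add_zero] at h2
    exact one_ne_zero h2
  · rw [S.herm.add_self, he1, hc1, hc.2, map_zero, add_zero, add_zero, S.two]

/-- The scalar times a quasi-reflection exists, as a product adapted to an orthogonal isotropic vector. -/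
theorem exists_rho_decomp (h5 : finrank F V = 5) {w : F} (hw : w * w = w + 1) (hs : σ w = w + 1) {z v : V}
    (hz : B z z = 1) (hv : Iso B v) (hzv : B z v = 0) :
    ∃ (v' e : V) (p q : V) (ρ r : ↥(sIsom B)), Triad B v v' e ∧ Rho B w z ρ ∧
      (∀ x, r.1.1 x = x + (w + 1) • (B v' x • v + B v x • v' + B e x • e)) ∧
      Iso B p ∧ Iso B q ∧ B p v = 0 ∧ B q v = 0 ∧ ρ = r * (T B p * T B q) := by
  obtain ⟨v', hT⟩ := exists_partner_perp S hz hv hzv
  obtain ⟨e, e1, e2, e3, e4⟩ := exists_unit_perp3 S h5 hs hT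
  obtain ⟨t, t1, t2, t3, t4, t5⟩ := exists_unit_perp4 S h5 hs hT e4 e1 e2 e3
  have hT' : Triad B v v' e := ⟨hT.hv, hT.hv', hT.hvv', e1, e2, e4⟩
  obtain ⟨b, r, -, -, hr, -, -, -, -, -, -⟩ := exists_rot S hw hs hT'
  obtain ⟨h1, h2, h3⟩ := rot_mul_pair S hw hs h5 hT' t5 hz t1 t2 t4 hT.hvz hT.hv'z (S.symm0 e3)
    (S.symm0 t3) r hr
  have hne : ∀ c : F, z + c • t ≠ 0 := fun c h => by
    have := congrArg (B z) h
    rw [map_add, map_smul, hz, t3, smul_zero, add_zero, map_zero] at this
    exact one_ne_zero this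
  refine ⟨v', e, z + t, z + (w + 1) • t, _, r, hT', ⟨hw, hs, hz, h3⟩, hr, ⟨by simpa using hne 1, h1⟩,
    ⟨hne _, h2⟩, S.symm0 ?_, S.symm0 ?_, rfl⟩
  · rw [map_add, hT.hvz, t1, add_zero]
  · rw [map_add, map_smul, hT.hvz, t1, smul_zero, add_zero]

theorem exists_rho (h5 : finrank F V = 5) {w : F} (hw : w * w = w + 1) (hs : σ w = w + 1) {z : V}
    (hz : B z z = 1) : ∃ ρ, Rho B w z ρ := by
  obtain ⟨v, hv, hzv⟩ := exists_iso_perp S h5 hs hz
  obtain ⟨-, -, -, -, ρ, -, -, hρ, -⟩ := exists_rho_decomp S h5 hw hs hz hv hzv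
  exact ⟨ρ, hρ⟩

variable {w : F} {z : V} {ρ : ↥(sIsom B)} (P : Rho B w z ρ)
include P

theorem rho_cube : ρ * (ρ * ρ) = 1 := by
  have h2 := two_zero S
  have := P.hw
  refine ext_U fun x => ?_
  simp only [mul_apply_U, one_apply_U, P.form, map_add, map_smul, P.hz, smul_eq_mul]
  match_scalars <;> grind

theorem rho_perp {v : V} (hzv : B z v = 0) : ρ.1.1 v = w • v := by
  rw [P.form, hzv, zero_smul, add_zero]

theorem rho_commute {v : V} (hv : Iso B v) (hzv : B z v = 0) : Commute ρ (T B v) :=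
  commute_T_of_fix S hv.2 ρ (c := w) (fun h => by simpa [h] using P.hw) (rho_perp S P hzv)

theorem bpt_spec {v : V} (hv : Iso B v) (hzv : B z v ≠ 0) :
    Iso B (bpt B w z v) ∧ B v (bpt B w z v) ≠ 0 := by
  have h2 := two_zero S
  have hw := P.hw
  have hn := S.norm _ hzv
  have hvz : B v z = σ (B z v) := (S.herm.symm z v).symm
  have e : B v (bpt B w z v) = w := by
    simp only [bpt, map_add, map_smul, hv.2, hvz, smul_eq_mul]
    grind
  have hne : B v (bpt B w z v) ≠ 0 := by
    rw [e]; intro h; simp [h] at hw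
  refine ⟨⟨fun h => hne (by rw [h, map_zero]), ?_⟩, hne⟩
  have hσ : σ (w + 1) = w := by rw [map_add, map_one, P.hs]; grind
  simp only [bpt, map_add, map_smul, map_smulₛₗ, LinearMap.add_apply, LinearMap.smul_apply, hv.2, hvz, P.hz,
    map_mul, P.hs, hσ, smul_eq_mul, map_one]
  grind

/-- Away from the perp: the decomposition along the plane of the vector and the distinguished one. -/
theorem rho_split (h5 : finrank F V = 5) {v : V} (hv : Iso B v) (hzv : B z v ≠ 0) :
    ∃ (u u' e : V) (r : ↥(sIsom B)), Triad B u u' e ∧ B u v = 0 ∧ B u' v = 0 ∧ B e v = 0 ∧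
      (∀ x, r.1.1 x = x + (w + 1) • (B u' x • u + B u x • u' + B e x • e)) ∧
      Commute r (T B v) ∧ Commute r (T B (bpt B w z v)) ∧ ρ = r * (T B v * T B (bpt B w z v)) := by
  have h2 := two_zero S
  have hw := P.hw
  have hw0 : w ≠ 0 := fun h => by simp [h] at hw
  have hn := S.norm _ hzv
  have hvz : B v z = σ (B z v) := (S.herm.symm z v).symm
  obtain ⟨hb, hvb⟩ := bpt_spec S P hv hzv
  set b := bpt B w z v with hbdef
  set c := (B v b)⁻¹ with hc
  have hp : Pair B v (c • b) := ⟨hv.2, (hb.smul (inv_ne_zero hvb)).2, by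
    rw [map_smul, smul_eq_mul, hc, inv_mul_cancel₀ hvb]⟩
  obtain ⟨u, u', e, hT, vu, bu, vu', bu', ve, be⟩ := exists_triad_perp S (le_of_eq h5.symm) hp
  have hz0 : ∀ x, B v x = 0 → B (c • b) x = 0 → B z x = 0 := by
    intro x x1 x2
    rw [map_smulₛₗ, LinearMap.smul_apply, smul_eq_mul, mul_eq_zero] at x2
    have x3 : B b x = 0 := x2.resolve_left fun h => inv_ne_zero hvb ((map_eq_zero σ).1 h)
    simp only [hbdef, bpt, map_add, map_smulₛₗ, LinearMap.add_apply, LinearMap.smul_apply, x1, smul_zero,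
      zero_add, smul_eq_mul, mul_zero] at x3
    rw [mul_eq_zero] at x3
    exact x3.resolve_left fun h => mul_ne_zero hw0 hzv ((map_eq_zero σ).1 h)
  have zu := hz0 u vu bu
  have zu' := hz0 u' vu' bu'
  have ze := hz0 e ve be
  obtain ⟨-, r, -, -, hr, -, -, -, -, -, -⟩ := exists_rot S hw P.hs hT
  have hfix : ∀ x, B u x = 0 → B u' x = 0 → B e x = 0 → r.1.1 x = x := fun x a1 a2 a3 => by
    rw [hr, a1, a2, a3]; simp
  have hrv : r.1.1 v = v := hfix v (S.symm0 vu) (S.symm0 vu') (S.symm0 ve)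
  have hrb : r.1.1 b = b := by
    refine hfix b ?_ ?_ ?_ <;>
      simp [hbdef, bpt, S.symm0 vu, S.symm0 vu', S.symm0 ve, S.symm0 zu, S.symm0 zu', S.symm0 ze]
  refine ⟨u, u', e, r, hT, S.symm0 vu, S.symm0 vu', S.symm0 ve, hr,
    commute_T_of_fix S hv.2 r one_ne_zero (by rw [one_smul]; exact hrv),
    commute_T_of_fix S hb.2 r one_ne_zero (by rw [one_smul]; exact hrb), ?_⟩
  obtain ⟨hu'u, heu, heu', -, -⟩ := hT.rev S
  have htt : B (v + B z v • z) (v + B z v • z) = 1 := by
    simp only [map_add, map_smul, map_smulₛₗ, LinearMap.add_apply, LinearMap.smul_apply, hv.2, hvz, P.hz,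
      smul_eq_mul]
    grind
  have hK : ∀ x, (T B v * T B b).1.1 x = x + B b x • b + B v (x + B b x • b) • v := fun x => by
    rw [mul_apply_U, T_apply S hb.2, T_apply S hv.2]
  have hσ : σ (w + 1) = w := by rw [map_add, map_one, P.hs]; grind
  have hBb : ∀ x, B b x = w * B v x + (w + 1) * σ (B z v) * B z x := fun x => by
    simp [hbdef, bpt, hσ, P.hs]
  refine ext_U fun x => ?_
  have hx := frame_expand S h5 hT.hv hT.hv' hT.hvv' hT.hz htt P.hz hT.hvz (by simp [S.symm0 vu, S.symm0 zu])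
    (S.symm0 zu) hT.hv'z (by simp [S.symm0 vu', S.symm0 zu']) (S.symm0 zu')
    (by simp [S.symm0 ve, S.symm0 ze]) (S.symm0 ze)
    (by simp [hvz, P.hz]; grind) x
  rw [mul_apply_U, hr, hK, P.form]
  conv_lhs => arg 1; rw [hx]
  conv_rhs => arg 1; arg 1; arg 1; rw [hx]
  simp only [hBb]
  simp only [hbdef, bpt, map_add, map_smul, map_smulₛₗ, LinearMap.add_apply, LinearMap.smul_apply, smul_eq_mul,
    hv.2, hvz, P.hz, vu, vu', ve, zu, zu', ze, S.symm0 vu, S.symm0 vu', S.symm0 ve, S.symm0 zu,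
    S.symm0 zu', S.symm0 ze, mul_zero, mul_one, add_zero, zero_add]
  match_scalars <;> grind

theorem bpt_commute (h5 : finrank F V = 5) {v : V} (hv : Iso B v) (hzv : B z v ≠ 0) :
    Commute ρ (T B v * T B (bpt B w z v)) := by
  obtain ⟨u, u', e, r, -, -, -, -, -, h1, h2, hρ⟩ := rho_split S P h5 hv hzv
  rw [hρ]
  exact (h1.mul_right h2).mul_left (Commute.refl _)

omit P
variable {M : Type*} [AddCommGroup M] {a : ↥(sIsom B) →* AddMonoid.End M} (A : RadAct a)
include A

omit S in
theorem act_mul (g h : ↥(sIsom B)) (x : M) : a (g * h) x = a g (a h x) := by rw [map_mul]; rfl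

omit S in
theorem act_one' (x : M) : a 1 x = x := by rw [map_one]; rfl

theorem act_sq {v : V} (hv : Iso B v) (x : M) : a (T B v) (a (T B v) x) = x := by
  rw [← act_mul A, T_sq S hv.2, act_one' A]

/-- The norm of a product of two non-orthogonal transvections kills the commutator of the first. -/
theorem rel {v u : V} (hv : Iso B v) (hu : Iso B u) (h : B v u ≠ 0) (n : M) :
    a (T B v) n + n + a (T B v * T B u) (a (T B v) n + n) +
      a (T B v * T B u) (a (T B v * T B u) (a (T B v) n + n)) = 0 := by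
  set x := a (T B v) n + n with hx
  have hax : a (T B v) x = x := by rw [hx, map_add, act_sq S A hv, add_comm]
  have hgrp : T B v * T B u * (T B v * T B u) = T B u * T B v := by
    rw [show T B v * T B u * (T B v * T B u) = T B v * T B u * T B v * T B u by group, T_braid S hv.2 hu.2 h,
      mul_assoc (T B u * T B v), T_sq S hu.2, mul_one]
  have ekk : a (T B v * T B u) (a (T B v * T B u) x) = a (T B u) x := by
    rw [← act_mul A, hgrp, act_mul A, hax]
  rw [ekk, act_mul A]
  set y := a (T B u) x with hy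
  have e1 : x + a (T B v) y + y = a (T B v) (n + y) + (n + y) := by rw [map_add, hx]; abel
  set q := a (T B v) (a (T B u) n) with hq
  have e2 : a (T B v) y = a (T B u) q + q := by
    rw [hy, hx, map_add, map_add, hq, ← act_mul A, ← act_mul A, T_braid S hv.2 hu.2 h, act_mul A,
      act_mul A]
  have e3 : x + a (T B v) y + y = a (T B u) (x + q) + (x + q) := by rw [e2, map_add, ← hy]; abel
  rw [e1]
  exact A.inter v u hv hu h _ _ (e1.symm.trans e3)

/-- The rotation of a three-space: it fixes the commutators orthogonal to it and is fixed-point-free on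
those of its points. -/
theorem fixed_rot {w : F} (hw : w * w = w + 1) (hs : σ w = w + 1) {v v' e : V} (h : Triad B v v' e) :
    ∃ r : ↥(sIsom B), (∀ x, r.1.1 x = x + (w + 1) • (B v' x • v + B v x • v' + B e x • e)) ∧
      (∀ u, Iso B u → B v u = 0 → B v' u = 0 → B e u = 0 → ∀ n, a r (a (T B u) n + n) = a (T B u) n + n) ∧
      (∀ n, a r (a (T B v) n + n) = a (T B v) n + n → a (T B v) n + n = 0) := by
  obtain ⟨b, r, hb, hvb, hr, rv, rv', rb, hcomm, hk3, hk4⟩ := exists_rot S hw hs h
  obtain ⟨-, -, -, hiv, hiv'⟩ := h.rev S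
  have hw0 : w ≠ 0 := fun h => by simp [h] at hw
  have hw1 : w + 1 ≠ 0 := fun h => hw0 (by rw [h, mul_self_eq_zero] at hw; exact hw)
  refine ⟨r, hr, fun u hu u1 u2 u3 n => ?_, fun n hn => ?_⟩
  · have hbu : B u b = 0 := by
      have h1 := congrArg (B u) (hr b)
      rw [rb] at h1
      simp only [map_add, map_smul, S.symm0 u1, S.symm0 u2, S.symm0 u3, smul_zero, add_zero,
        smul_eq_mul, mul_zero] at h1
      have h3 : (w + 1) * B u b = 0 := by linear_combination h1 + (B u b) * two_zero S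
      exact (mul_eq_zero.1 h3).resolve_left hw1
    have f1 := A.orth v u hiv hu u1 n
    have f2 := A.orth v' u hiv' hu u2 n
    have f3 := A.orth b u hb hu (S.symm0 hbu) n
    have h1 := congrArg (fun g => a g (a (T B u) n + n)) hcomm
    simp only [act_mul A, f1, f2, f3] at h1
    exact h1.symm
  set x := a (T B v) n + n with hx
  have hvv' : B v v' ≠ 0 := by rw [h.hvv']; exact one_ne_zero
  have hvb' : B v b ≠ 0 := by rw [hvb]; exact one_ne_zero
  set k1 := T B v * T B v' with hk1
  set k2 := T B v * T B b with hk2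
  have hcube : ∀ u, Iso B u → B v u ≠ 0 → T B v * T B u * (T B v * T B u) * (T B v * T B u) = 1 := by
    intro u hu hne
    rw [show T B v * T B u * (T B v * T B u) = T B v * T B u * T B v * T B u by group,
      T_braid S hiv.2 hu.2 hne, mul_assoc (T B u * T B v), T_sq S hu.2, mul_one,
      show T B u * T B v * (T B v * T B u) = T B u * (T B v * T B v) * T B u by group, T_sq S hiv.2, mul_one,
      T_sq S hu.2]
  have c1 : Commute r k1 := (commute_T_of_fix S hiv.2 r hw0 rv).mul_right (commute_T_of_fix S hiv'.2 r hw0 rv')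
  have c2 : Commute r k2 := (commute_T_of_fix S hiv.2 r hw0 rv).mul_right (commute_T_of_fix S hb.2 r hw0 rb)
  set fA := a k1 with hfA
  set fC := a k2 with hfC
  have invA : ∀ y, a r y = y → a r (fA y) = fA y := fun y hy => by
    rw [hfA, ← act_mul A, c1.eq, act_mul A, hy]
  have invC : ∀ y, a r y = y → a r (fC y) = fC y := fun y hy => by
    rw [hfC, ← act_mul A, c2.eq, act_mul A, hy]
  have hAC : ∀ y, a r y = y → fA (fC y) = fC (fA y) := fun y hy => by
    rw [hfA, hfC, ← act_mul A, hcomm, (c2.mul_right c1).eq, act_mul A, hy, act_mul A]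
  have hA3 : ∀ y, fA (fA (fA y)) = y := fun y => by
    rw [hfA, ← act_mul A, ← act_mul A, show k1 * k1 * k1 = 1 from hcube v' hiv' hvv', act_one' A]
  have hC3 : ∀ y, fC (fC (fC y)) = y := fun y => by
    rw [hfC, ← act_mul A, ← act_mul A, show k2 * k2 * k2 = 1 from hcube b hb hvb', act_one' A]
  have iv : (T B v)⁻¹ = T B v := T_inv S hiv.2
  have k1i : k1⁻¹ = k1 * k1 := inv_eq_of_mul_eq_one_left (by rw [hk1]; exact hcube v' hiv' hvv')
  have k2i : k2⁻¹ = k2 * k2 := inv_eq_of_mul_eq_one_left (by rw [hk2]; exact hcube b hb hvb')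
  have inv1 : T B v * k1 * T B v = k1⁻¹ := by
    rw [hk1, ← mul_assoc, T_sq S hiv.2, one_mul, mul_inv_rev, iv, T_inv S hiv'.2]
  have inv2 : T B v * k2 * T B v = k2⁻¹ := by
    rw [hk2, ← mul_assoc, T_sq S hiv.2, one_mul, mul_inv_rev, iv, T_inv S hb.2]
  have hk3' : ∀ y, a r y = y → a (T B v * T B ((k1 * k2).1.1 v)) y = fA (fC y) := fun y hy => by
    rw [← T_conj S hiv.2, ← mul_assoc, show T B v * (k1 * k2 * T B v) * (k1 * k2)⁻¹
        = (T B v * k1 * T B v) * ((T B v)⁻¹ * k2 * T B v) * (k2⁻¹ * k1⁻¹) by group, iv, inv1, inv2, k1i, k2i,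
      show k1 * k1 * (k2 * k2) * (k2 * k2 * (k1 * k1)) = k1 * (k1 * ((k2 * k2 * k2) * (k2 * (k1 * k1)))) by
        group, show k2 * k2 * k2 = 1 from hcube b hb hvb', one_mul]
    simp only [act_mul A, ← hfA, ← hfC]
    rw [← hAC _ (invA _ hy), hA3, ← hAC y hy]
  have hk4' : ∀ y, a r y = y → a (T B v * T B ((k1 * k2⁻¹).1.1 v)) y = fA (fC (fC y)) := fun y hy => by
    rw [← T_conj S hiv.2, ← mul_assoc, show T B v * (k1 * k2⁻¹ * T B v) * (k1 * k2⁻¹)⁻¹
        = (T B v * k1 * T B v) * ((T B v)⁻¹ * k2 * T B v)⁻¹ * (k2 * k1⁻¹) by group, iv, inv1, inv2, k1i,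
      inv_inv]
    simp only [act_mul A, ← hfA, ← hfC]
    rw [← hAC _ (invA _ hy), ← hAC _ (invC _ (invA _ hy)), hA3, ← hAC y hy,
      ← hAC _ (invC _ hy)]
  have i1 : Iso B ((k1 * k2).1.1 v) := hiv.map _
  have i2 : Iso B ((k1 * k2⁻¹).1.1 v) := hiv.map _
  have N1 := rel S A hiv hiv' hvv' n
  have N2 := rel S A hiv hb hvb' n
  have N3 := rel S A hiv i1 hk3 n
  have N4 := rel S A hiv i2 hk4 n
  rw [← hx, ← hk1, ← hfA] at N1
  rw [← hx, ← hk2, ← hfC] at N2
  rw [← hx, hk3' x hn, hk3' _ (invA _ (invC _ hn))] at N3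
  rw [← hx, hk4' x hn, hk4' _ (invA _ (invC _ (invC _ hn)))] at N4
  rw [← hAC _ (invC _ hn)] at N3
  rw [← hAC _ (invC _ (invC _ hn)), ← hAC _ (invC _ (invC _ (invC _ hn))), hC3] at N4
  have N5 := congrArg fA N2
  have N6 := congrArg fA N5
  simp only [map_add, map_zero] at N5 N6
  have t := A.two
  have e0 : fA x + fA (fA x) = 0 := by
    calc fA x + fA (fA x) = (x + x) + (fA (fC x) + fA (fC x)) + (fA (fA (fC (fC x))) + fA (fA (fC (fC x))))
          + (fA (fC (fC x)) + fA (fC (fC x))) + (fA (fA (fC x)) + fA (fA (fC x)))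
          + (fA x + fA (fA x)) := by simp only [t, zero_add]
      _ = (x + fA (fC x) + fA (fA (fC (fC x)))) + (x + fA (fC (fC x)) + fA (fA (fC x)))
          + (fA x + fA (fC x) + fA (fC (fC x))) + (fA (fA x) + fA (fA (fC x)) + fA (fA (fC (fC x)))) := by
        abel
      _ = 0 := by rw [N3, N4, N5, N6]; abel
  rwa [add_assoc, e0, add_zero] at N1

include P

/-- The norm kills every commutator of a transvection. -/
theorem norm_zero (h5 : finrank F V = 5) {v : V} (hv : Iso B v) (n : M) :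
    a (T B v) n + n + a ρ (a (T B v) n + n) + a ρ (a ρ (a (T B v) n + n)) = 0 := by
  by_cases hzv : B z v = 0
  · obtain ⟨v', e, p, q, ρ', r', hT, hρ', hr', hp, hq, hpv, hqv, hprod⟩ :=
      exists_rho_decomp S h5 P.hw P.hs P.hz hv hzv
    obtain rfl : ρ = ρ' := ext_U fun x => by rw [P.form, hρ'.form]
    obtain ⟨r, hr, -, hfix⟩ := fixed_rot S A P.hw P.hs hT
    obtain rfl : r' = r := ext_U fun x => by rw [hr', hr]
    set n' := n + a ρ n + a ρ (a ρ n) with hn'
    have hc : ∀ y, a ρ (a (T B v) y) = a (T B v) (a ρ y) := fun y => by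
      rw [← act_mul A, (rho_commute S P hv hzv).eq, act_mul A]
    have e1 : a (T B v) n + n + a ρ (a (T B v) n + n) + a ρ (a ρ (a (T B v) n + n))
        = a (T B v) n' + n' := by
      simp only [hn', map_add, hc]; abel
    rw [e1]
    refine hfix _ ?_
    have h3 : a ρ n' = n' := by
      rw [hn', map_add, map_add, ← act_mul A ρ ρ (a ρ n), ← act_mul A (ρ * ρ), mul_assoc, rho_cube S P,
        act_one' A]
      abel
    have h4 : a ρ (a (T B v) n' + n') = a (T B v) n' + n' := by rw [map_add, hc, h3]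
    conv_rhs => rw [← h4, hprod, act_mul A, act_mul A, A.orth q v hq hv hqv, A.orth p v hp hv hpv]
  · obtain ⟨u, u', e, r', hT, uv, u'v, ev, hr', c1, c2, hprod⟩ := rho_split S P h5 hv hzv
    obtain ⟨r, hr, hfix, -⟩ := fixed_rot S A P.hw P.hs hT
    obtain rfl : r' = r := ext_U fun x => by rw [hr', hr]
    obtain ⟨hb, hvb⟩ := bpt_spec S P hv hzv
    set K := T B v * T B (bpt B w z v) with hK
    set x := a (T B v) n + n with hx
    have hx0 : a r' x = x := hfix v hv uv u'v ev n
    have hsw : ∀ y, a r' y = y → a ρ y = a K y ∧ a r' (a K y) = a K y := fun y hy => by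
      have : a r' (a K y) = a K y := by rw [← act_mul A, (c1.mul_right c2).eq, act_mul A, hy]
      exact ⟨by rw [hprod, act_mul A, this], this⟩
    obtain ⟨e1, e2⟩ := hsw x hx0
    rw [e1, (hsw _ e2).1]
    exact rel S A hv hb hvb n

/-- There are no fixed points. -/
theorem rho_fixed (h5 : finrank F V = 5) {n : M} (hn : a ρ n = n) : n = 0 := by
  refine A.fixed n fun v hv => ?_
  suffices h : a (T B v) n + n = 0 by
    rw [← add_zero (a (T B v) n), ← A.two n, ← add_assoc, h, zero_add]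
  have three : ∀ y, y + a ρ y + a ρ (a ρ y) = 0 → a ρ y = y → y = 0 := fun y h1 h2 => by
    rwa [h2, h2, add_assoc, A.two, add_zero] at h1
  by_cases hzv : B z v = 0
  · refine three _ (norm_zero S P A h5 hv n) ?_
    rw [map_add, ← act_mul A, (rho_commute S P hv hzv).eq, act_mul A, hn]
  · obtain ⟨hb, hvb⟩ := bpt_spec S P hv hzv
    set b := bpt B w z v with hbdef
    have hK := bpt_commute S P h5 hv hzv
    rw [← hbdef] at hK
    set y := a (T B v * T B b) n + n with hy
    have hy0 : y = 0 := by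
      refine three y ?_ (by rw [hy, map_add, ← act_mul A, hK.eq, act_mul A, hn])
      have e : y = (a (T B ((T B v).1.1 b)) (a (T B v) n) + a (T B v) n) + (a (T B v) n + n) := by
        rw [← T_conj S hb.2, T_inv S hv.2, ← act_mul A, mul_assoc _ (T B v), T_sq S hv.2, mul_one, hy,
          add_assoc, ← add_assoc (a (T B v) n), A.two, zero_add]
      have h1 := norm_zero S P A h5 (hb.map (T B v)) (a (T B v) n)
      have h2 := norm_zero S P A h5 hv n
      rw [e]
      have key : ∀ p q : M, p + a ρ p + a ρ (a ρ p) = 0 → q + a ρ q + a ρ (a ρ q) = 0 →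
          p + q + a ρ (p + q) + a ρ (a ρ (p + q)) = 0 := fun p q hp hq => by
        rw [map_add, map_add, show p + q + (a ρ p + a ρ q) + (a ρ (a ρ p) + a ρ (a ρ q))
          = (p + a ρ p + a ρ (a ρ p)) + (q + a ρ q + a ρ (a ρ q)) by abel, hp, hq, add_zero]
      exact key _ _ h1 h2
    have hKn : a (T B v * T B b) n = n := by
      rw [← add_zero (a (T B v * T B b) n), ← A.two n, ← add_assoc, ← hy, hy0, zero_add]
    refine A.inter v b hv hb hvb n n ?_
    congr 1
    conv_lhs => rw [← hKn, act_mul A, act_sq S A hv]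

end CfsgLib.ThreeTransp.UnitaryRadical
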