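import Cfsg.Agent.Lib.ThreeTransp.UnitaryRadical.Radical
import Cfsg.Agent.Lib.ThreeTransp.UnitaryRadical.Module

/-!
# The complement in degree five

With a unit vector and a lift of the scalar times quasi-reflection attached to it, every transvection
has a canonical lift; these lifts form a set closed under its own conjugation, and the group they
generate is a complement of the radical.
-/

set_option autoImplicit false
set_option linter.unusedSectionVars false

namespace CfsgLib.ThreeTransp.UnitaryRadical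

open Module CfsgLib.Classical
open CfsgLib.ThreeTransp.UnitarySix (Setting tv tv_apply)

variable {F : Type*} [Field F] [Finite F] {V : Type*} [AddCommGroup V] [Module F V]
  [FiniteDimensional F V] {σ : F →+* F} {B : V →ₛₗ[σ] V →ₗ[F] F} {G : Type*} [Group G]

/-- The data fixing the complement. -/
structure Hat (R : Rad B G) (w : F) (z : V) (ρ : ↥(sIsom B)) (h : G) : Prop where
  five : finrank F V = 5
  rho : Rho B w z ρ
  proj : R.π h = ρ

/-- The canonical lift of a transvection. -/
def Rad.Can (R : Rad B G) (w : F) (z : V) (h : G) (v : V) (d : G) : Prop :=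
  R.Lift v d ∧ (B z v = 0 → Commute h d) ∧
    (B z v ≠ 0 → ∃ k, Commute h k ∧ R.π k = T B v * T B (bpt B w z v) ∧ d * k * d = k⁻¹)

variable (S : Setting B) (R : Rad B G) [Finite G]
include S

omit [Finite G] in
theorem ker_conj_mem (g : G) {n : G} (hn : R.π n = 1) : R.π (g * n * g⁻¹) = 1 := by
  rw [map_mul, map_mul, hn, mul_one, ← map_mul, mul_inv_cancel, map_one]

omit [Finite G] in
/-- The identity behind the braid relation. -/
theorem lift_five {v u : V} {d e : G} (hv : Iso B v) (hu : Iso B u) (hd : R.Lift v d) (he : R.Lift u e)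
    (h : B v u ≠ 0) : d * e * d * e * d = e := by
  have h3 := cube_lifts S R hv hu hd he h
  calc d * e * d * e * d = (d * e) ^ 3 * e⁻¹ := by simp only [pow_succ, pow_zero, one_mul]; group
    _ = e := by rw [h3, one_mul, lift_inv S R he]

omit [Finite G] in
/-- Two lifts of one transvection are conjugate under the kernel. -/
theorem exists_conj_ker {v : V} {d d' : G} (hv : Iso B v) (hd : R.Lift v d) (hd' : R.Lift v d') :
    ∃ n, R.π n = 1 ∧ d' = n * d * n⁻¹ := by
  obtain ⟨t, -, ht⟩ := S.exists_dual (W := ⊥) (r := v) (by simpa using hv.1)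
  obtain ⟨a, ha⟩ := S.exists_iso hv.2 ht
  have hvu : B v (t + a • v) = 1 := by rw [map_add, map_smul, hv.2, ht, smul_zero, add_zero]
  have hu : Iso B (t + a • v) := ⟨fun e => by rw [e, map_zero] at hvu; exact zero_ne_one hvu, ha⟩
  obtain ⟨e, he⟩ := exists_lift S R hu
  have hne : B v (t + a • v) ≠ 0 := by rw [hvu]; exact one_ne_zero
  have h1 := lift_five S R hv hu hd he hne
  have h2 := lift_five S R hu hv he hd' fun e0 => hne (S.symm0 e0)
  refine ⟨e * d' * d * e, ?_, ?_⟩
  · rw [map_mul, map_mul, map_mul, he.2, hd'.2, hd.2, mul_assoc (T B _) (T B v), T_sq S hv.2, mul_one, T_sq S hu.2]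
  · simp only [mul_inv_rev, lift_inv S R he, lift_inv S R hd, lift_inv S R hd']
    calc d' = e * d' * e * d' * e := h2.symm
      _ = e * d' * (d * e * d * e * d) * d' * e := by rw [h1]
      _ = _ := by group

variable {w : F} {z : V} {ρ : ↥(sIsom B)} {h : G} (H : Hat R w z ρ h)
include H

theorem ker_comm {n m : G} (hn : R.π n = 1) (hm : R.π m = 1) : Commute n m :=
  (ker_elementary S R (Or.inl H.five) hn hm).1

theorem ker_inv {n : G} (hn : R.π n = 1) : n⁻¹ = n :=
  inv_eq_of_mul_eq_one_right (ker_elementary S R (Or.inl H.five) hn hn).2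

theorem conj_eq {g g' n : G} (e : R.π g = R.π g') (hn : R.π n = 1) : g * n * g⁻¹ = g' * n * g'⁻¹ := by
  have hk : R.π (g'⁻¹ * g) = 1 := by rw [map_mul, map_inv, e, inv_mul_cancel]
  calc g * n * g⁻¹ = g' * ((g'⁻¹ * g) * n * (g'⁻¹ * g)⁻¹) * g'⁻¹ := by group
    _ = g' * n * g'⁻¹ := by rw [(ker_comm S R H hk hn).eq, mul_inv_cancel_right]

/-- No element of the kernel commutes with the lift. -/
theorem hat_fixed {n : G} (hn : R.π n = 1) (hc : Commute h n) : n = 1 := by
  have hel := @ker_elementary _ _ _ _ _ _ _ _ B G _ S R _ (Or.inl H.five)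
  letI : CommGroup ↥R.π.ker :=
    { (inferInstance : Group ↥R.π.ker) with mul_comm := fun a b => Subtype.ext (hel a.2 b.2).1.eq }
  choose s hs using R.surj
  let f : ↥(sIsom B) → (↥R.π.ker →* ↥R.π.ker) := fun u =>
    { toFun := fun m => ⟨s u * m * (s u)⁻¹, ker_conj_mem S R _ m.2⟩
      map_one' := Subtype.ext (by simp)
      map_mul' := fun p q => Subtype.ext (by simp [mul_assoc]) }
  let a : ↥(sIsom B) →* AddMonoid.End (Additive ↥R.π.ker) :=
    { toFun := fun u => MonoidHom.toAdditive (f u)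
      map_one' := AddMonoidHom.ext fun m => Subtype.ext (by
        show s 1 * (Additive.toMul m).1 * (s 1)⁻¹ = (Additive.toMul m).1
        rw [conj_eq S R H (g := s 1) (g' := 1) (by rw [hs, map_one]) (Additive.toMul m).2]
        simp)
      map_mul' := fun u u' => AddMonoidHom.ext fun m => Subtype.ext (by
        show s (u * u') * (Additive.toMul m).1 * (s (u * u'))⁻¹
          = s u * (s u' * (Additive.toMul m).1 * (s u')⁻¹) * (s u)⁻¹
        rw [conj_eq S R H (g := s (u * u')) (g' := s u * s u') (by rw [map_mul, hs, hs, hs])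
          (Additive.toMul m).2]
        simp [mul_assoc]) }
  have hval : ∀ (u : ↥(sIsom B)) (g : G), R.π g = u → ∀ m,
      (Additive.toMul (a u m)).1 = g * (Additive.toMul m).1 * g⁻¹ := fun u g hg m =>
    conj_eq S R H (by rw [hs, hg]) (Additive.toMul m).2
  have hW : ∀ (v : V) (d : G), Iso B v → R.Lift v d → ∀ m, ∃ d', R.Lift v d' ∧
      (Additive.toMul (a (T B v) m + m)).1 = d * d' := fun v d hv hd m => by
    refine ⟨(Additive.toMul m).1 * d * (Additive.toMul m).1⁻¹, ⟨?_, ?_⟩, ?_⟩
    · exact (Basic.class_isGroup R.cls).2.1 _ d hd.1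
    · rw [map_mul, map_mul, map_inv, show R.π (Additive.toMul m).1 = 1 from (Additive.toMul m).2, one_mul,
        inv_one, mul_one, hd.2]
    · rw [toMul_add, Subgroup.coe_mul, hval _ d hd.2, ker_inv S R H (Additive.toMul m).2, lift_inv S R hd]
      simp only [mul_assoc]
  have A : RadAct a := {
    two := fun x => Subtype.ext (hel x.toMul.2 x.toMul.2).2
    orth := fun u v hu hv huv m => by
      obtain ⟨c, hc⟩ := exists_lift S R hu
      obtain ⟨d, hd⟩ := exists_lift S R hv
      obtain ⟨d', hd', e⟩ := hW v d hv hd m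
      refine Subtype.ext ?_
      show (Additive.toMul (a (T B u) (a (T B v) m + m))).1 = (Additive.toMul (a (T B v) m + m)).1
      rw [hval _ c hc.2, e, ((commute_lifts S R hu hv hc hd huv).mul_right (commute_lifts S R hu hv hc hd' huv)).eq,
        mul_inv_cancel_right]
    inter := fun v u hv hu hne m m' heq => by
      obtain ⟨d, hd⟩ := exists_lift S R hv
      obtain ⟨d', hd', e⟩ := hW v d hv hd m
      obtain ⟨c, hc⟩ := exists_lift S R hu
      obtain ⟨c', hc', e'⟩ := hW u c hu hc m'
      refine Subtype.ext (eq_one_of_commute S R hv hu hne fun p g hp hor hg => ?_)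
      show Commute (Additive.toMul (a (T B v) m + m)).1 g
      rcases hor with h0 | h0
      · rw [e]; exact (commute_lifts S R hv hp hd hg h0).mul_left (commute_lifts S R hv hp hd' hg h0)
      · rw [heq, e']; exact (commute_lifts S R hu hp hc hg h0).mul_left (commute_lifts S R hu hp hc' hg h0)
    fixed := fun m hm => by
      refine Subtype.ext ?_
      show (Additive.toMul m).1 = 1
      have hmem : (Additive.toMul m).1 ∈ Subgroup.center G := by
        rw [Subgroup.mem_center_iff]
        intro g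
        have hg : g ∈ Subgroup.closure R.D := by rw [R.cls.2.2]; trivial
        induction hg using Subgroup.closure_induction with
        | mem d hd =>
          obtain ⟨v, hv, hdv⟩ := exists_tv S R hd
          have e := congrArg (fun q => (Additive.toMul q).1) (hm v hv)
          simp only [hval _ d hdv] at e
          exact mul_inv_eq_iff_eq_mul.1 e
        | one => rw [one_mul, mul_one]
        | mul p q _ _ ihp ihq => exact (Commute.mul_left ihp ihq).eq
        | inv p _ ihp => exact (Commute.inv_left ihp).eq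
      rwa [R.centre, Subgroup.mem_bot] at hmem }
  have key := rho_fixed S H.rho A H.five (n := Additive.ofMul (⟨n, hn⟩ : ↥R.π.ker))
    (Subtype.ext ((hval _ h H.proj _).trans (by rw [toMul_ofMul, hc.eq, mul_inv_cancel_right]; rfl)))
  exact congrArg Subtype.val key

/-- An element of the centralizer of the lift is determined by its image. -/
theorem cent_unique {g g' : G} (e : R.π g = R.π g') (hg : Commute h g) (hg' : Commute h g') : g = g' :=
  (inv_mul_eq_one.1 (hat_fixed S R H (by rw [map_mul, map_inv, e, inv_mul_cancel]) (hg.inv_right.mul_right hg')))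

theorem solve {m : G} (hm : R.π m = 1) : ∃ q, R.π q = 1 ∧ h * q * h⁻¹ * q = m := by
  let f : ↥R.π.ker → ↥R.π.ker := fun q => ⟨h * q * h⁻¹ * q, by
    show R.π _ = 1
    rw [map_mul, ker_conj_mem S R h q.2, one_mul]; exact q.2⟩
  have hinj : Function.Injective f := by
    intro p q hpq
    have e : h * p.1 * h⁻¹ * p = h * q * h⁻¹ * q := congrArg Subtype.val hpq
    refine Subtype.ext (inv_mul_eq_one.1 ?_).symm
    have hk : R.π (q.1⁻¹ * p) = 1 := by rw [map_mul, map_inv, p.2, q.2, inv_one, one_mul]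
    refine hat_fixed S R H hk (mul_inv_eq_iff_eq_mul.1 ?_)
    calc h * (q.1⁻¹ * p) * h⁻¹ = (h * q * h⁻¹)⁻¹ * (h * p * h⁻¹ * p) * p.1⁻¹ := by group
      _ = q.1 * p.1⁻¹ := by rw [e]; group
      _ = q.1⁻¹ * p := by rw [ker_inv S R H p.2, ker_inv S R H q.2]
  obtain ⟨q, hq⟩ := Finite.injective_iff_surjective.1 hinj ⟨m, hm⟩
  exact ⟨q.1, q.2, congrArg Subtype.val hq⟩

theorem cent_exists {g : G} (hg : Commute ρ (R.π g)) : ∃ g', R.π g' = R.π g ∧ Commute h g' := by
  have hm : R.π (g⁻¹ * (h * g * h⁻¹)) = 1 := by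
    rw [map_mul, map_mul, map_mul, map_inv, map_inv, H.proj, hg.eq, mul_inv_cancel_right, inv_mul_cancel]
  obtain ⟨q, hq, e⟩ := solve S R H hm
  refine ⟨g * q, by rw [map_mul, hq, mul_one], mul_inv_eq_iff_eq_mul.1 ?_⟩
  calc h * (g * q) * h⁻¹ = g * ((g⁻¹ * (h * g * h⁻¹)) * (h * q * h⁻¹)) := by group
    _ = g * ((h * q * h⁻¹ * q) * (h * q * h⁻¹)) := by rw [e]
    _ = g * q := by
      rw [mul_assoc (h * q * h⁻¹) q, (ker_comm S R H hq (ker_conj_mem S R h hq)).eq,
        ← mul_assoc (h * q * h⁻¹) (h * q * h⁻¹) q,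
        (ker_elementary S R (Or.inl H.five) (ker_conj_mem S R h hq) (ker_conj_mem S R h hq)).2, one_mul]

/-- Existence of canonical lifts. -/
theorem can_exists {v : V} (hv : Iso B v) : ∃ d, R.Can w z h v d := by
  obtain ⟨d, hd⟩ := exists_lift S R hv
  by_cases hzv : B z v = 0
  · have hg : R.Lift v (h * d * h⁻¹) := ⟨(Basic.class_isGroup R.cls).2.1 h d hd.1, by
      rw [map_mul, map_mul, map_inv, H.proj, hd.2, (rho_commute S H.rho hv hzv).eq, mul_inv_cancel_right]⟩
    obtain ⟨p, hp, ep⟩ := exists_conj_ker S R hv hd hg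
    obtain ⟨q, hq, eq⟩ := solve S R H hp
    refine ⟨q * d * q⁻¹, ⟨(Basic.class_isGroup R.cls).2.1 q d hd.1, by
      rw [map_mul, map_mul, map_inv, hq, one_mul, inv_one, mul_one, hd.2]⟩, fun _ => ?_, fun h0 => absurd hzv h0⟩
    have e1 : (h * q * h⁻¹) * p = q := by
      rw [← eq, ← mul_assoc, (ker_elementary S R (Or.inl H.five) (ker_conj_mem S R h hq) (ker_conj_mem S R h hq)).2,
        one_mul]
    refine mul_inv_eq_iff_eq_mul.1 ?_
    calc h * (q * d * q⁻¹) * h⁻¹ = (h * q * h⁻¹) * (h * d * h⁻¹) * (h * q * h⁻¹)⁻¹ := by group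
      _ = ((h * q * h⁻¹) * p) * d * ((h * q * h⁻¹) * p)⁻¹ := by rw [ep]; group
      _ = _ := by rw [e1]
  · obtain ⟨hb, hvb⟩ := bpt_spec S H.rho hv hzv
    obtain ⟨e, he⟩ := exists_lift S R hb
    set k0 := d * e with hk0
    have hk0π : R.π k0 = T B v * T B (bpt B w z v) := by rw [hk0, map_mul, hd.2, he.2]
    obtain ⟨k, hkπ, hk⟩ := cent_exists S R H (g := k0) (by rw [hk0π]; exact bpt_commute S H.rho H.five hv hzv)
    have h03 : k0 * k0 * k0 = 1 := by
      rw [← cube_lifts S R hv hb hd he hvb]; simp only [pow_succ, pow_zero, one_mul, hk0]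
    have hk3 : k * k * k = 1 :=
      hat_fixed S R H (by rw [map_mul, map_mul, hkπ, ← map_mul, ← map_mul, h03, map_one])
        ((hk.mul_right hk).mul_right hk)
    set m := k0⁻¹ * k with hm
    have hmπ : R.π m = 1 := by rw [hm, map_mul, map_inv, hkπ, inv_mul_cancel]
    set a := k0 * m * k0⁻¹ with ha
    set b := k0⁻¹ * m * k0 with hb'
    have hbπ : R.π b = 1 := by
      rw [hb', map_mul, map_mul, hmπ, mul_one, ← map_mul, inv_mul_cancel, map_one]
    have k0i : k0⁻¹ = k0 * k0 := inv_eq_of_mul_eq_one_left h03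
    have hab : a * b = m := by
      have e1 : a * b * m = 1 := by
        rw [← hk3, show k = k0 * m by rw [hm, mul_inv_cancel_left], ha, hb']
        rw [show k0 * m * (k0 * m) * (k0 * m)
          = k0 * m * k0⁻¹ * ((k0 * k0) * m * (k0 * k0)⁻¹) * ((k0 * k0 * k0) * m) by group, h03, one_mul,
          ← k0i, inv_inv]
      rw [eq_inv_of_mul_eq_one_left e1, ker_inv S R H hmπ]
    refine ⟨b * d * b⁻¹, ⟨(Basic.class_isGroup R.cls).2.1 b d hd.1, by
      rw [map_mul, map_mul, map_inv, hbπ, one_mul, inv_one, mul_one, hd.2]⟩, fun h0 => absurd h0 hzv,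
      fun _ => ⟨k, hk, hkπ.trans hk0π, ?_⟩⟩
    have hbk : b * k0 * b⁻¹ = k := by
      rw [ker_inv S R H hbπ]
      calc b * k0 * b = k0 * ((k0⁻¹ * k0⁻¹) * m * (k0 * k0)) * b := by rw [hb']; group
        _ = k0 * (a * b) := by
          rw [← mul_assoc k0 a b, ← k0i]
          rw [show k0⁻¹ * k0⁻¹ = k0 by rw [← mul_inv_rev, ← k0i, inv_inv], ← ha]
        _ = k := by rw [hab, hm, mul_inv_cancel_left]
    rw [← hbk]
    calc b * d * b⁻¹ * (b * k0 * b⁻¹) * (b * d * b⁻¹) = b * (d * k0 * d) * b⁻¹ := by group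
      _ = b * k0⁻¹ * b⁻¹ := by
        rw [show d * k0 * d = k0⁻¹ by
          rw [hk0, ← mul_assoc d d e, lift_sq S R hd, one_mul, mul_inv_rev, lift_inv S R he, lift_inv S R hd]]
      _ = (b * k0 * b⁻¹)⁻¹ := by group

/-- Uniqueness of canonical lifts. -/
theorem can_unique {v : V} {d d' : G} (hv : Iso B v) (hd : R.Can w z h v d) (hd' : R.Can w z h v d') :
    d = d' := by
  by_cases hzv : B z v = 0
  · exact cent_unique S R H (hd.1.2.trans hd'.1.2.symm) (hd.2.1 hzv) (hd'.2.1 hzv)
  obtain ⟨hb, hvb⟩ := bpt_spec S H.rho hv hzv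
  obtain ⟨k, hk, hkπ, hdk⟩ := hd.2.2 hzv
  obtain ⟨k', hk', hkπ', hdk'⟩ := hd'.2.2 hzv
  obtain rfl : k = k' := cent_unique S R H (hkπ.trans hkπ'.symm) hk hk'
  have hx : Commute (d * d') k := by
    have e : d' * k = k⁻¹ * d' := by rw [← hdk', mul_assoc (d' * k), lift_sq S R hd'.1, mul_one]
    have e' : d * k⁻¹ = k * d := by
      rw [← hdk, ← mul_assoc, ← mul_assoc, lift_sq S R hd.1, one_mul]
    show d * d' * k = k * (d * d')
    rw [mul_assoc, e, ← mul_assoc, e', mul_assoc]
  obtain ⟨e, he⟩ := exists_lift S R hb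
  have hde : Commute (d * d') (d * e) := by
    have hπm : R.π (k * (d * e)⁻¹) = 1 := by rw [map_mul, map_inv, hkπ, map_mul, hd.1.2, he.2, mul_inv_cancel]
    have h1 := ((ker_comm S R H (pair_ker S R hv hd.1 hd'.1).1 hπm).inv_right.mul_right hx)
    rwa [mul_inv_rev, inv_inv, mul_assoc, inv_mul_cancel, mul_one] at h1
  have hx1 : d * d' = 1 := by
    refine eq_one_of_commute S R hv hb hvb fun p g hp hor hg => ?_
    rcases hor with h0 | h0
    · exact (commute_lifts S R hv hp hd.1 hg h0).mul_left (commute_lifts S R hv hp hd'.1 hg h0)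
    · have e1 : d * d' = (d * e * d * (d * e)⁻¹) * ((d * e) * d' * (d * e)⁻¹) := by
        calc d * d' = (d * e) * (d * d') * (d * e)⁻¹ := by rw [← hde.eq, mul_inv_cancel_right]
          _ = _ := by group
      have e2 : d * e * d * (d * e)⁻¹ = e := by
        rw [mul_inv_rev, lift_inv S R he, lift_inv S R hd.1, ← mul_assoc, lift_five S R hv hb hd.1 he hvb]
      have e3 : R.Lift (bpt B w z v) (d * e * d' * (d * e)⁻¹) := ⟨(Basic.class_isGroup R.cls).2.1 _ d' hd'.1.1, by
        rw [map_mul, map_mul, hd'.1.2, ← hd.1.2, ← map_mul, ← map_mul, e2, he.2]⟩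
      rw [e1, e2]
      exact (commute_lifts S R hb hp he hg h0).mul_left (commute_lifts S R hb hp e3 hg h0)
  rw [eq_inv_of_mul_eq_one_left hx1, lift_inv S R hd'.1]

omit H [Finite G] in
theorem can_smul {v : V} {d : G} (hv : Iso B v) {c : F} (hc : c ≠ 0) (hd : R.Can w z h v d) :
    R.Can w z h (c • v) d := by
  have hb : bpt B w z (c • v) = c • bpt B w z v := by
    simp only [bpt, map_smul, smul_eq_mul, smul_add, smul_smul]
    congr 2 <;> ring
  refine ⟨⟨hd.1.1, hd.1.2.trans (T_smul S hv.2 hc).symm⟩, fun h0 => hd.2.1 ?_, fun h0 => ?_⟩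
  · simpa [hc] using h0
  · obtain ⟨k, hk, hkπ, hdk⟩ := hd.2.2 (fun e => h0 (by simp [e]))
    refine ⟨k, hk, ?_, hdk⟩
    rw [hkπ, hb, T_smul S hv.2 hc]
    congr 1
    refine ext_U fun x => ?_
    by_cases hb0 : B (bpt B w z v) (bpt B w z v) = 0
    · rw [T_smul S hb0 hc]
    · unfold T
      congr 4
      funext g
      simp only [S.tv_smul hc]

omit H [Finite G] in
theorem can_congr {v v' : V} {d : G} (hv : Iso B v) (hv' : Iso B v') (e : T B v = T B v')
    (hd : R.Can w z h v d) : R.Can w z h v' d := by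
  obtain ⟨c, hc, rfl⟩ := T_inj S hv hv' e
  exact can_smul S R hv hc hd

theorem can_conj {v : V} {d g : G} (hv : Iso B v) (hd : R.Can w z h v d) (hg : Commute h g)
    (hgz : (R.π g).1.1 z = z) : R.Can w z h ((R.π g).1.1 v) (g * d * g⁻¹) := by
  have hB : B z ((R.π g).1.1 v) = B z v := by
    conv_lhs => rw [← hgz]
    exact pres_U _ _ _
  refine ⟨lift_conj S R hv hd.1 g, fun h0 => (hg.mul_right (hd.2.1 (hB ▸ h0))).mul_right hg.inv_right, fun h0 => ?_⟩
  rw [hB] at h0
  obtain ⟨hb, -⟩ := bpt_spec S H.rho hv h0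
  obtain ⟨k, hk, hkπ, hdk⟩ := hd.2.2 h0
  refine ⟨g * k * g⁻¹, (hg.mul_right hk).mul_right hg.inv_right, ?_, ?_⟩
  · have e : bpt B w z ((R.π g).1.1 v) = (R.π g).1.1 (bpt B w z v) := by
      simp only [bpt, map_add, map_smul, hB, hgz]
    rw [map_mul, map_mul, map_inv, hkπ, e, ← T_conj S hv.2, ← T_conj S hb.2]
    group
  · calc g * d * g⁻¹ * (g * k * g⁻¹) * (g * d * g⁻¹) = g * (d * k * d) * g⁻¹ := by group
      _ = (g * k * g⁻¹)⁻¹ := by rw [hdk]; group

/-- Conjugation by a canonical lift orthogonal to the distinguished vector. -/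
theorem can_move {p q : V} {dp dq : G} (hp : Iso B p) (hq : Iso B q) (hzp : B z p = 0)
    (hdp : R.Can w z h p dp) (hdq : R.Can w z h q dq) : R.Can w z h ((T B p).1.1 q) (dp * dq * dp) := by
  have h1 := can_conj S R H hq hdq (hdp.2.1 hzp) (by rw [hdp.1.2]; exact T_fix S hp.2 (S.symm0 hzp))
  rwa [hdp.1.2, lift_inv S R hdp.1] at h1

theorem can_move' {p q : V} {dp dq : G} (hp : Iso B p) (hq : Iso B q) (hzq : B z q = 0)
    (hdp : R.Can w z h p dp) (hdq : R.Can w z h q dq) :
    ∃ u, Iso B u ∧ R.Can w z h u (dp * dq * dp) := by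
  by_cases hpq : B p q = 0
  · refine ⟨q, hq, ?_⟩
    rwa [(commute_lifts S R hp hq hdp.1 hdq.1 hpq).eq, mul_assoc, lift_sq S R hdp.1, mul_one]
  · refine ⟨_, hp.map (T B q), ?_⟩
    have e : dp * dq * dp = dq * dp * dq :=
      (Basic.braid_iff (lift_sq S R hdp.1) (lift_sq S R hdq.1)).2 (cube_lifts S R hp hq hdp.1 hdq.1 hpq)
    rw [e]
    exact can_move S R H hq hp hzq hdq hdp

theorem can_line {p q : V} {dp dq d0 : G} (hp : Iso B p) (hq : Iso B q) (hpq : B p q ≠ 0)
    (hzs : B z ((T B p).1.1 q) = 0) (hdp : R.Can w z h p dp) (hdq : R.Can w z h q dq)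
    (hd0 : R.Can w z h ((T B p).1.1 q) d0) : dp * dq * dp = d0 := by
  set s := (T B p).1.1 q with hs
  have his : Iso B s := hq.map _
  have hps : B p s ≠ 0 := by
    rw [hs, T_apply S hp.2, map_add, map_smul, hp.2, smul_zero, add_zero]; exact hpq
  have h1 := can_move S R H his hp hzs hd0 hdp
  have hT : T B ((T B s).1.1 p) = T B q := by
    rw [← T_conj S hp.2, T_inv S his.2, hs, ← T_conj S hq.2, T_inv S hp.2,
      show T B p * T B q * T B p * T B p * (T B p * T B q * T B p)
        = T B p * T B q * (T B p * T B p) * (T B p * T B q * T B p) by group, T_sq S hp.2, mul_one,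
      T_braid S hp.2 hq.2 hpq,
      show T B p * T B q * (T B q * T B p * T B q) = T B p * (T B q * T B q) * T B p * T B q by group,
      T_sq S hq.2, mul_one, T_sq S hp.2, one_mul]
  rw [← can_unique S R H hq (can_congr S R (hp.map _) hq hT h1) hdq, ← mul_assoc, ← mul_assoc]
  exact lift_five S R hp his hdp.1 hd0.1 hps

/-- The canonical lifts are closed under conjugation by one another. -/
theorem can_closed {p q : V} {dp dq : G} (hp : Iso B p) (hq : Iso B q) (hdp : R.Can w z h p dp)
    (hdq : R.Can w z h q dq) : ∃ u, Iso B u ∧ R.Can w z h u (dp * dq * dp) := by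
  by_cases hpq : B p q = 0
  · refine ⟨q, hq, ?_⟩
    rwa [(commute_lifts S R hp hq hdp.1 hdq.1 hpq).eq, mul_assoc, lift_sq S R hdp.1, mul_one]
  by_cases hzp : B z p = 0
  · exact ⟨_, hq.map _, can_move S R H hp hq hzp hdp hdq⟩
  by_cases hzq : B z q = 0
  · exact can_move' S R H hp hq hzq hdp hdq
  wlog hp1 : B z p = 1 generalizing p q
  · have hc := inv_ne_zero hzp
    exact this (hp.smul hc) hq (can_smul S R hp hc hdp) hdq (by simp [hpq, hzp]) (by simp [hzp])
      hzq (by simp [hzp])
  wlog hq1 : B z q = 1 generalizing p q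
  · have hc := inv_ne_zero hzq
    exact this hp (hq.smul hc) hdp (can_smul S R hq hc hdq) (by simp [hpq, hzq]) hzp (by simp [hzq]) hp1
      (by simp [hzq])
  by_cases hzs : B z ((T B p).1.1 q) = 0
  · obtain ⟨d0, hd0⟩ := can_exists S R H (hq.map (T B p))
    exact ⟨_, hq.map _, (can_line S R H hp hq hpq hzs hdp hdq hd0).symm ▸ hd0⟩
  have hz := H.rho.hz
  have hpz : B p z = 1 := symm1 S hp1
  have hqz : B q z = 1 := symm1 S hq1
  set g := B p q + 1 with hg
  have hg0 : g ≠ 0 := fun e => hzs (by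
    rw [T_apply S hp.2, map_add, map_smul, hp1, hq1, smul_eq_mul, mul_one, add_comm]; exact e)
  set a := p + z with ha
  set b := q + z with hb
  have haa : B a a = 1 := by
    rw [ha, S.herm.add_self, hp.2, hz, hpz, map_one, S.two, add_zero, zero_add]
  have hbb : B b b = 1 := by
    rw [hb, S.herm.add_self, hq.2, hz, hqz, map_one, S.two, add_zero, zero_add]
  have hza : B z a = 0 := by rw [ha, map_add, hp1, hz, S.two]
  have hzb : B z b = 0 := by rw [hb, map_add, hq1, hz, S.two]
  have hab : B a b = g := by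
    simp only [ha, hb, map_add, LinearMap.add_apply, hpz, hq1, hz, hg]
    linear_combination S.two 1
  set y := b + g • a with hy
  have hay : B a y = 0 := by rw [hy, map_add, map_smul, hab, haa, smul_eq_mul, mul_one, S.two]
  have hzy : B z y = 0 := by rw [hy, map_add, map_smul, hzb, hza, smul_zero, add_zero]
  have hba : B b a = σ g := by rw [← hab, S.herm.symm]
  have hyy : B y y = 0 := by
    rw [hy, S.herm.add_self, hbb, S.herm.smul_self, haa, map_smul, hba, smul_eq_mul, S.norm g hg0]
    simp [S.two]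
  obtain ⟨c, hzc, hac, hyc, hcc⟩ : ∃ c, B z c = 0 ∧ B a c = 0 ∧ B y c = 0 ∧ B c c = 1 := by
    rcases eq_or_ne y 0 with h0 | h0
    · obtain ⟨c, hc, hc1⟩ := exists_unit_ker S H.rho.hs ((B z).prod (B a)) (by simp [H.five])
        (fun c => c.1 • z + c.2 • a) (fun c => by simp [hz, haa, hza, S.symm0 hza]) (fun x hx c => by
          simp only [LinearMap.prod_apply, Function.prod_apply, Prod.mk_eq_zero] at hx
          simp [S.symm0 hx.1, S.symm0 hx.2])
      simp only [LinearMap.prod_apply, Function.prod_apply, Prod.mk_eq_zero] at hc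
      exact ⟨c, hc.1, hc.2, by simp [h0], hc1⟩
    · obtain ⟨s, -, hs⟩ := S.exists_dual (W := ⊥) (r := y) (by simpa using h0)
      set t := s + B z s • z + B a s • a with ht
      have t1 : B z t = 0 := by
        simp only [ht, map_add, map_smul, hz, hza, smul_eq_mul, mul_one, mul_zero, add_zero, S.two]
      have t2 : B a t = 0 := by
        simp only [ht, map_add, map_smul, haa, S.symm0 hza, smul_eq_mul, mul_one, mul_zero, add_zero, S.two]
      have t3 : B y t = 1 := by
        simp only [ht, map_add, map_smul, S.symm0 hzy, S.symm0 hay, smul_zero, add_zero, hs]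
      obtain ⟨r, hr⟩ := S.exists_iso hyy t3
      have hT : Triad B y (t + r • y) z := ⟨hyy, hr, by simp [hyy, t3], S.symm0 hzy,
        S.symm0 (by simp [t1, hzy]), hz⟩
      obtain ⟨c, c1, -, c3, c4, c5⟩ := exists_unit_perp4 S H.five H.rho.hs hT haa (S.symm0 hay)
        (S.symm0 (by simp [t2, hay])) hza
      exact ⟨c, c3, c4, c1, c5⟩
  have hpc : B c p = 0 := by
    rw [show p = a + z by rw [ha, add_assoc, S.vtwo, add_zero], map_add, S.symm0 hac, S.symm0 hzc, add_zero]
  have hqc : B c q = 0 := by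
    rw [show q = y + g • a + z by rw [hy, add_assoc b, S.vtwo, add_zero, hb, add_assoc, S.vtwo, add_zero],
      map_add, map_add, map_smul, S.symm0 hyc, S.symm0 hac, S.symm0 hzc, smul_zero, add_zero, add_zero]
  set x := z + c with hx
  have hzx : B z x = 1 := by rw [hx, map_add, hz, hzc, add_zero]
  have hix : Iso B x := ⟨fun e => by rw [e, map_zero] at hzx; exact zero_ne_one hzx, by
    rw [hx, S.herm.add_self, hz, hcc, hzc, map_zero, add_zero, add_zero, S.two]⟩
  obtain ⟨dx, hdx⟩ := can_exists S R H hix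
  have side : ∀ (r : V) (dr : G), Iso B r → B z r = 1 → B c r = 0 → R.Can w z h r dr →
      ∃ (s : V) (d0 : G), Iso B s ∧ B z s = 0 ∧ R.Can w z h s d0 ∧ dr = dx * d0 * dx := by
    intro r dr hr hr1 hrc hdr
    have hxr : B x r = 1 := by rw [hx, map_add, LinearMap.add_apply, hr1, hrc, add_zero]
    have hzs : B z ((T B x).1.1 r) = 0 := by
      rw [T_apply S hix.2, map_add, map_smul, hr1, hxr, hzx, smul_eq_mul, mul_one, S.two]
    obtain ⟨d0, hd0⟩ := can_exists S R H (hr.map (T B x))
    refine ⟨_, d0, hr.map _, hzs, hd0, ?_⟩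
    rw [← can_line S R H hix hr (by rw [hxr]; exact one_ne_zero) hzs hdx hdr hd0,
      ← mul_assoc, ← mul_assoc, lift_sq S R hdx.1, one_mul, mul_assoc, lift_sq S R hdx.1, mul_one]
  obtain ⟨s0, d0, hs0, hzs0, hd0, ep⟩ := side p dp hp hp1 hpc hdp
  obtain ⟨s1, d1, hs1, hzs1, hd1, eq⟩ := side q dq hq hq1 hqc hdq
  have h2 := can_move S R H hs0 hs1 hzs0 hd0 hd1
  have hz2 : B z ((T B s0).1.1 s1) = 0 := by
    rw [T_apply S hs0.2, map_add, map_smul, hzs0, hzs1, smul_zero, add_zero]
  obtain ⟨u, hu, hu2⟩ := can_move' S R H hix (hs1.map _) hz2 hdx h2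
  refine ⟨u, hu, ?_⟩
  convert hu2 using 1
  rw [ep, eq]
  calc _ = dx * d0 * (dx * dx) * d1 * (dx * dx) * d0 * dx := by group
    _ = _ := by rw [lift_sq S R hdx.1]; group

/-- The group of the canonical lifts is a complement. -/
theorem exists_complement_of : ∃ K : Subgroup G, R.π.ker.IsComplement' K := by
  set Δ := {d | ∃ v, Iso B v ∧ R.Can w z h v d} with hΔ
  set K := Subgroup.closure Δ with hK
  have hinv : ∀ g ∈ K, ∀ d ∈ Δ, g * d * g⁻¹ ∈ Δ ∧ g⁻¹ * d * g ∈ Δ := by
    intro g hg
    induction hg using Subgroup.closure_induction with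
    | mem e he =>
      rintro d ⟨q, hq, hdq⟩
      obtain ⟨p, hp, hdp⟩ := he
      rw [lift_inv S R hdp.1]
      exact ⟨can_closed S R H hp hq hdp hdq, can_closed S R H hp hq hdp hdq⟩
    | one => intro d hd; simp [hd]
    | mul p q _ _ ihp ihq =>
      intro d hd
      refine ⟨?_, ?_⟩
      · have := (ihp _ (ihq d hd).1).1
        simpa [mul_assoc] using this
      · have := (ihq _ (ihp d hd).2).2
        simpa [mul_assoc] using this
    | inv p _ ihp =>
      intro d hd
      simpa using And.intro (ihp d hd).2 (ihp d hd).1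
  have hmap : ∀ g : G, ∃ k ∈ K, R.π k = R.π g := by
    intro g
    have hg : g ∈ Subgroup.closure R.D := by rw [R.cls.2.2]; trivial
    induction hg using Subgroup.closure_induction with
    | mem d hd =>
      obtain ⟨v, hv, hdv⟩ := exists_tv S R hd
      obtain ⟨d', hd'⟩ := can_exists S R H hv
      exact ⟨d', Subgroup.subset_closure ⟨v, hv, hd'⟩, hd'.1.2.trans hdv.symm⟩
    | one => exact ⟨1, one_mem _, rfl⟩
    | mul p q _ _ ihp ihq =>
      obtain ⟨k, hk, ek⟩ := ihp
      obtain ⟨k', hk', ek'⟩ := ihq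
      exact ⟨k * k', mul_mem hk hk', by rw [map_mul, map_mul, ek, ek']⟩
    | inv p _ ihp =>
      obtain ⟨k, hk, ek⟩ := ihp
      exact ⟨k⁻¹, inv_mem hk, by rw [map_inv, map_inv, ek]⟩
  have htriv : ∀ k ∈ K, R.π k = 1 → k = 1 := by
    intro k hk hk1
    have hcΔ : ∀ d ∈ Δ, Commute k d := by
      intro d hd
      obtain ⟨v, hv, hdv⟩ := hd
      obtain ⟨u, hu, hdu⟩ := (hinv k hk d ⟨v, hv, hdv⟩).1
      have e : T B u = T B v := by
        rw [← hdu.1.2, map_mul, map_mul, map_inv, hk1, one_mul, inv_one, mul_one, hdv.1.2]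
      exact mul_inv_eq_iff_eq_mul.1 (can_unique S R H hv (can_congr S R hu hv e hdu) hdv)
    have hcK : ∀ g ∈ K, Commute k g := by
      intro g hg
      induction hg using Subgroup.closure_induction with
      | mem d hd => exact hcΔ d hd
      | one => exact Commute.one_right _
      | mul p q _ _ ihp ihq => exact ihp.mul_right ihq
      | inv p _ ihp => exact ihp.inv_right
    have hmem : k ∈ Subgroup.center G := Subgroup.mem_center_iff.2 fun g => by
      obtain ⟨g', hg', e⟩ := hmap g
      have hn : R.π (g * g'⁻¹) = 1 := by rw [map_mul, map_inv, e, mul_inv_cancel]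
      have h1 := (ker_comm S R H hk1 hn).mul_right (hcK g' hg')
      rw [inv_mul_cancel_right] at h1
      exact h1.eq.symm
    rwa [R.centre, Subgroup.mem_bot] at hmem
  refine ⟨K, Subgroup.isComplement'_of_disjoint_and_mul_eq_univ ?_ ?_⟩
  · rw [Subgroup.disjoint_def]
    exact fun {x} hx hx' => htriv x hx' hx
  · refine Set.eq_univ_of_forall fun g => ?_
    obtain ⟨k, hk, e⟩ := hmap g
    refine ⟨g * k⁻¹, ?_, k, hk, inv_mul_cancel_right g k⟩
    show R.π (g * k⁻¹) = 1
    rw [map_mul, map_inv, e, mul_inv_cancel]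

omit H in
/-- In degree five the radical has a complement. -/
theorem exists_complement (h5 : finrank F V = 5) : ∃ K : Subgroup G, R.π.ker.IsComplement' K := by
  obtain ⟨w, hw, hs, -⟩ := exists_omega S
  obtain ⟨e, f, hp⟩ := exists_pair S
  obtain ⟨u, u', z, hT, -⟩ := exists_triad_perp S (le_of_eq h5.symm) hp
  obtain ⟨ρ, hρ⟩ := exists_rho S h5 hw hs hT.hz
  obtain ⟨h, hh⟩ := R.surj ρ
  exact exists_complement_of S R (h := h) ⟨h5, hρ, hh⟩

end CfsgLib.ThreeTransp.UnitaryRadical
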