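import Cfsg.Agent.Lib.ThreeTransp.UnitaryRadical.Frame

/-!
# Central extensions with lifted transvections

A central extension by a 2-group in which every transvection has a distinguished lift, equivariantly
and with the relation of the five points of a line: the elementary group attached to a point meets
the kernel trivially.
-/

set_option autoImplicit false
set_option linter.unusedSectionVars false

namespace CfsgLib.ThreeTransp.UnitaryRadical

open Module CfsgLib.Classical
open CfsgLib.ThreeTransp.UnitarySix (Setting tv tv_apply)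

variable {F : Type*} [Field F] [Finite F] {V : Type*} [AddCommGroup V] [Module F V]
  [FiniteDimensional F V] {σ : F →+* F}

/-- Distinguished lifts of the transvections in a central extension by a 2-group. -/
structure Ext (B : V →ₛₗ[σ] V →ₗ[F] F) (E : Type*) [Group E] where
  π : E →* ↥(sIsom B)
  L : V → E
  surj : Function.Surjective π
  central : ∀ z, π z = 1 → ∀ g, Commute g z
  two : ∀ z, π z = 1 → ∃ k : ℕ, z ^ (2 ^ k) = 1
  proj : ∀ v, Iso B v → π (L v) = T B v
  sq : ∀ v, Iso B v → L v * L v = 1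
  smul : ∀ v (c : F), Iso B v → c ≠ 0 → L (c • v) = L v
  conj : ∀ g v, Iso B v → g * L v * g⁻¹ = L ((π g).1.1 v)
  five : ∀ u v, Iso B u → Iso B v → B u v = 0 → (∀ c : F, u ≠ c • v) →
    ∀ w : F, w * w = w + 1 → σ w = w + 1 →
      L v * (L u * (L (u + v) * (L (u + w • v) * L (u + (w + 1) • v)))) = 1
  gen : Subgroup.closure {x | ∃ v, Iso B v ∧ x = L v} = ⊤

variable {B : V →ₛₗ[σ] V →ₗ[F] F} {E : Type*} [Group E]

theorem Iso.line {u v : V} (hu : Iso B u) (hv : Iso B v) (h : B u v = 0) (h' : B v u = 0)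
    (hne : ∀ c : F, u ≠ c • v) (c : F) : Iso B (u + c • v) := by
  refine ⟨fun e => hne (-c) ?_, by simp [hu.2, hv.2, h, h']⟩
  rw [neg_smul]
  exact eq_neg_of_add_eq_zero_left e

/-- The elementary generators at a point. -/
def Qgen (X : Ext B E) (e : V) : Set E :=
  {X.L e} ∪ {x | ∃ (u : V) (c : F), Iso B u ∧ B e u = 0 ∧ (∀ k : F, u ≠ k • e) ∧
    x = X.L u * X.L (u + c • e)}

/-- The elementary group at a point. -/
def Qhat (X : Ext B E) (e : V) : Subgroup E := Subgroup.closure (Qgen X e)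

variable (S : Setting B) (X : Ext B E)
include S

theorem L_commute {a b : V} (ha : Iso B a) (hb : Iso B b) (h : B a b = 0) : Commute (X.L a) (X.L b) := by
  have e := X.conj (X.L a) b hb
  rw [X.proj a ha, T_fix S ha.2 h] at e
  exact mul_inv_eq_iff_eq_mul.1 e

theorem L_inv {a : V} (ha : Iso B a) : (X.L a)⁻¹ = X.L a :=
  inv_eq_of_mul_eq_one_right (X.sq a ha)

theorem T_pow_apply {p : V} (hp : B p p = 0) (n : ℕ) (x : V) :
    ((T B p) ^ n).1.1 x = x + ((n : F) * B p x) • p := by
  induction n with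
  | zero => simp
  | succ n ih =>
    rw [pow_succ', mul_apply_U, ih, T_apply S hp, map_add, map_smul, hp, smul_zero, add_zero, add_assoc,
      ← add_smul, Nat.cast_succ, add_mul, one_mul]

theorem pow_eq_one_of_cast {a : E} (ha : a * a = 1) {n : ℕ} (hn : (n : F) = 0) : a ^ n = 1 := by
  rcases Nat.even_or_odd n with ⟨m, rfl⟩ | ⟨m, rfl⟩
  · rw [← two_mul, pow_mul, pow_two, ha, one_pow]
  · rw [Nat.cast_add, Nat.cast_mul, Nat.cast_two, two_zero S, zero_mul, zero_add, Nat.cast_one] at hn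
    exact absurd hn one_ne_zero

/-- The subgroup on a line meets the kernel trivially. -/
theorem line_inj {u v : V} (hu : Iso B u) (hv : Iso B v) (h : B u v = 0) (hne : ∀ c : F, u ≠ c • v)
    {x : E} (hx : x ∈ Subgroup.closure ({X.L v} ∪ Set.range fun c : F => X.L (u + c • v)))
    (h1 : X.π x = 1) : x = 1 := by
  obtain ⟨w, hw, hs, hn, hw0, hw1, hw2⟩ := exists_omega S
  have h' := S.symm0 h
  have hi : ∀ c : F, Iso B (u + c • v) := fun c => hu.line hv h h' hne c
  have hcv : ∀ c : F, B v (u + c • v) = 0 := fun c => by simp [h', hv.2]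
  have hcc : ∀ c d : F, B (u + c • v) (u + d • v) = 0 := fun c d => by simp [hu.2, hv.2, h, h']
  set a0 := X.L (u + (0 : F) • v) with ha0
  set a1 := X.L (u + (1 : F) • v) with ha1
  set a2 := X.L (u + w • v) with ha2
  set a3 := X.L (u + (w + 1) • v) with ha3
  have hLv : X.L v = a0 * (a1 * (a2 * a3)) := by
    have e := X.five u v hu hv h hne w hw hs
    rw [ha0, ha1, zero_smul, add_zero, one_smul]
    exact (inv_eq_of_mul_eq_one_right e) ▸ (L_inv S X hv).symm
  have c01 : Commute a0 a1 := L_commute S X (hi _) (hi _) (hcc _ _)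
  have c02 : Commute a0 a2 := L_commute S X (hi _) (hi _) (hcc _ _)
  have c03 : Commute a0 a3 := L_commute S X (hi _) (hi _) (hcc _ _)
  have c12 : Commute a1 a2 := L_commute S X (hi _) (hi _) (hcc _ _)
  have c13 : Commute a1 a3 := L_commute S X (hi _) (hi _) (hcc _ _)
  have c23 : Commute a2 a3 := L_commute S X (hi _) (hi _) (hcc _ _)
  have key : ∀ i0 i1 i2 i3 n0 n1 n2 n3 : ℕ,
      a0 ^ i0 * a1 ^ i1 * a2 ^ i2 * a3 ^ i3 * (a0 ^ n0 * a1 ^ n1 * a2 ^ n2 * a3 ^ n3) =
        a0 ^ (i0 + n0) * a1 ^ (i1 + n1) * a2 ^ (i2 + n2) * a3 ^ (i3 + n3) := by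
    intro i0 i1 i2 i3 n0 n1 n2 n3
    have d1 : Commute (a0 ^ n0) (a1 ^ i1 * a2 ^ i2 * a3 ^ i3) :=
      ((c01.pow_pow n0 i1).mul_right (c02.pow_pow n0 i2)).mul_right (c03.pow_pow n0 i3)
    have d2 : Commute (a1 ^ n1) (a2 ^ i2 * a3 ^ i3) := (c12.pow_pow n1 i2).mul_right (c13.pow_pow n1 i3)
    have d3 : Commute (a2 ^ n2) (a3 ^ i3) := c23.pow_pow n2 i3
    calc a0 ^ i0 * a1 ^ i1 * a2 ^ i2 * a3 ^ i3 * (a0 ^ n0 * a1 ^ n1 * a2 ^ n2 * a3 ^ n3)
        = a0 ^ i0 * ((a1 ^ i1 * a2 ^ i2 * a3 ^ i3) * a0 ^ n0) * (a1 ^ n1 * a2 ^ n2 * a3 ^ n3) := by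
          simp only [mul_assoc]
      _ = a0 ^ (i0 + n0) * a1 ^ i1 * ((a2 ^ i2 * a3 ^ i3) * a1 ^ n1) * (a2 ^ n2 * a3 ^ n3) := by
          rw [← d1.eq, pow_add]; simp only [mul_assoc]
      _ = a0 ^ (i0 + n0) * a1 ^ (i1 + n1) * a2 ^ i2 * (a3 ^ i3 * a2 ^ n2) * a3 ^ n3 := by
          rw [← d2.eq, pow_add a1]; simp only [mul_assoc]
      _ = a0 ^ (i0 + n0) * a1 ^ (i1 + n1) * a2 ^ (i2 + n2) * a3 ^ (i3 + n3) := by
          rw [← d3.eq, pow_add a2, pow_add a3]; simp only [mul_assoc]
  have hgen : ∀ y ∈ ({X.L v} ∪ Set.range fun c : F => X.L (u + c • v) : Set E), y⁻¹ = y ∧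
      ∃ i0 i1 i2 i3 : ℕ, y = a0 ^ i0 * a1 ^ i1 * a2 ^ i2 * a3 ^ i3 := by
    rintro y (hy | ⟨c, rfl⟩)
    · rw [Set.mem_singleton_iff] at hy
      refine ⟨by rw [hy, L_inv S X hv], 1, 1, 1, 1, ?_⟩
      rw [hy, hLv]
      simp only [pow_one, mul_assoc]
    · refine ⟨L_inv S X (hi c), ?_⟩
      rcases eq_or_ne c 0 with rfl | hc
      · exact ⟨1, 0, 0, 0, by simp [ha0]⟩
      rcases S.field_three (show w + σ w = 1 by rw [hs, ← add_assoc, S.two, zero_add]) hc with rfl | rfl | rfl
      · exact ⟨0, 1, 0, 0, by simp [ha1]⟩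
      · exact ⟨0, 0, 1, 0, by simp [ha2]⟩
      · exact ⟨0, 0, 0, 1, by simp [ha3]⟩
  obtain ⟨n0, n1, n2, n3, hxe⟩ : ∃ n0 n1 n2 n3 : ℕ, x = a0 ^ n0 * a1 ^ n1 * a2 ^ n2 * a3 ^ n3 := by
    clear h1
    induction hx using Subgroup.closure_induction_left with
    | one => exact ⟨0, 0, 0, 0, by simp⟩
    | mul_left y hy z _ ih =>
      obtain ⟨n0, n1, n2, n3, rfl⟩ := ih
      obtain ⟨-, i0, i1, i2, i3, rfl⟩ := hgen y hy
      exact ⟨_, _, _, _, key ..⟩
    | inv_mul_cancel y hy z _ ih =>
      obtain ⟨n0, n1, n2, n3, rfl⟩ := ih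
      obtain ⟨hyy, i0, i1, i2, i3, rfl⟩ := hgen y hy
      rw [hyy]
      exact ⟨_, _, _, _, key ..⟩
  have hstep : ∀ (c d t : F) (y : V), B (u + c • v) (y + t • (u + d • v)) = B (u + c • v) y := fun c d t y => by
    rw [map_add (B _), map_smul (B _), hcc, smul_zero, add_zero]
  have himg : ∀ y, ((n0 : F) * B (u + (0 : F) • v) y) • (u + (0 : F) • v) +
      (((n1 : F) * B (u + (1 : F) • v) y) • (u + (1 : F) • v) +
      (((n2 : F) * B (u + w • v) y) • (u + w • v) +
      ((n3 : F) * B (u + (w + 1) • v) y) • (u + (w + 1) • v))) = 0 := by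
    intro y
    have e := congrArg (fun g : ↥(sIsom B) => g.1.1 y) h1
    rw [hxe] at e
    simp only [map_mul, map_pow, ha0, ha1, ha2, ha3, X.proj _ (hi _), mul_apply_U, one_apply_U] at e
    simp only [T_pow_apply S (hi _).2, hstep] at e
    refine (add_eq_left (a := y)).1 ?_
    conv_rhs => rw [← e]
    abel
  obtain ⟨y1, hy1, hy1'⟩ := S.exists_dual (W := Submodule.span F {v}) (r := u) (by
    rw [Submodule.mem_span_singleton]; rintro ⟨c, hc⟩; exact hne c hc.symm)
  have hvy1 := hy1 v (Submodule.mem_span_singleton_self v)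
  obtain ⟨y2, hy2, hy2'⟩ := S.exists_dual (W := Submodule.span F {u}) (r := v) (by
    rw [Submodule.mem_span_singleton]; rintro ⟨c, hc⟩
    have hc0 : c ≠ 0 := fun h => hv.1 (by rw [← hc, h, zero_smul])
    exact hne c⁻¹ (by rw [← hc, smul_smul, inv_mul_cancel₀ hc0, one_smul]))
  have huy2 := hy2 u (Submodule.mem_span_singleton_self u)
  have ind : ∀ a b : F, a • u + b • v = 0 → a = 0 ∧ b = 0 := fun a b e => by
    have e1 := congrArg (B y1) e
    have e2 := congrArg (B y2) e
    simp [symm1 S hy1', S.symm0 hvy1, symm1 S hy2', S.symm0 huy2] at e1 e2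
    exact ⟨e1, e2⟩
  have E1 := ind ((n0 : F) + n1 + n2 + n3) ((n1 : F) + n2 * w + n3 * (w + 1)) (by
    rw [← himg y1]
    simp only [map_add, map_smulₛₗ, LinearMap.add_apply, LinearMap.smul_apply, hy1', hvy1, smul_zero, add_zero,
      mul_one]
    match_scalars <;> ring)
  have E2 := ind ((n1 : F) + n2 * (w + 1) + n3 * w) ((n1 : F) + n2 + n3) (by
    rw [← himg y2]
    simp only [map_add, map_smulₛₗ, LinearMap.add_apply, LinearMap.smul_apply, hy2', huy2, map_one, map_zero,
      hs, smul_eq_mul, zero_add, mul_one, add_zero]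
    match_scalars <;> grind)
  have z0 : (n0 : F) = 0 := by linear_combination E1.1 - E2.2
  obtain ⟨e11, e12⟩ := E1
  obtain ⟨e21, e22⟩ := E2
  have z2 : (n2 : F) = 0 := by grind
  have z3 : (n3 : F) = 0 := by grind
  have z1 : (n1 : F) = 0 := by grind
  rw [hxe, pow_eq_one_of_cast S (X.sq _ (hi _)) z0, pow_eq_one_of_cast S (X.sq _ (hi _)) z1,
    pow_eq_one_of_cast S (X.sq _ (hi _)) z2, pow_eq_one_of_cast S (X.sq _ (hi _)) z3]
  simp

/-- Shifting a generator along the line changes it by the lift at the point only. -/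
theorem q_shift {e u : V} (he : Iso B e) (hu : Iso B u) (h : B e u = 0) (hne : ∀ k : F, u ≠ k • e) (c t : F) :
    (X.L u * X.L (u + c • e))⁻¹ * (X.L (u + t • e) * X.L (u + (t + c) • e)) ∈ Subgroup.zpowers (X.L e) := by
  have h' := S.symm0 h
  have hi : ∀ c : F, Iso B (u + c • e) := fun c => hu.line he h' h hne c
  have hcc : ∀ c d : F, B (u + c • e) (u + d • e) = 0 := fun c d => by simp [hu.2, he.2, h, h']
  have hue : ∀ d : F, B u (u + d • e) = 0 := fun d => by simp [hu.2, h']
  have hmem : ∀ c : F, X.L (u + c • e) ∈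
      Subgroup.closure ({X.L e} ∪ Set.range fun c : F => X.L (u + c • e)) :=
    fun c => Subgroup.subset_closure (Or.inr ⟨c, rfl⟩)
  have hu0 := hmem 0
  rw [zero_smul, add_zero] at hu0
  set x := (X.L u * X.L (u + c • e))⁻¹ * (X.L (u + t • e) * X.L (u + (t + c) • e)) with hxdef
  have hxm : x ∈ Subgroup.closure ({X.L e} ∪ Set.range fun c : F => X.L (u + c • e)) :=
    mul_mem (inv_mem (mul_mem hu0 (hmem c))) (mul_mem (hmem _) (hmem _))
  set ε := t * σ t + (t + c) * σ (t + c) + c * σ c with hε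
  have himg : ∀ y, (X.π x).1.1 y = y + (ε * B e y) • e := by
    intro y
    rw [hxdef, map_mul, map_inv, map_mul, map_mul, X.proj u hu, X.proj _ (hi c), X.proj _ (hi t),
      X.proj _ (hi (t + c)), mul_inv_rev, T_inv S hu.2, T_inv S (hi c).2, mul_apply_U, mul_apply_U,
      mul_apply_U, T_apply S (hi _).2 y, T_apply S (hi t).2, T_apply S hu.2, T_apply S (hi c).2]
    simp only [map_add (B _), map_smul (B _), hcc, hue, hu.2, h', h, S.symm0 (hue _), smul_eq_mul,
      mul_zero, add_zero]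
    simp only [map_add, map_smulₛₗ, LinearMap.add_apply, LinearMap.smul_apply, smul_eq_mul, hε, hu.2, he.2,
      h, h', mul_zero, add_zero, zero_add]
    have h2 := two_zero S
    match_scalars <;> grind
  have hfix : σ ε = ε := by
    rw [hε]
    simp only [map_add, map_mul, S.herm.conj.invol]
    ring
  rcases S.fixed ε hfix with h0 | h0
  · have : X.π x = 1 := ext_U fun y => by rw [himg, h0, zero_mul, zero_smul, add_zero]; rfl
    rw [line_inj S X hu he h' hne hxm this]
    exact one_mem _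
  · have : X.π (X.L e * x) = 1 := ext_U fun y => by
      rw [map_mul, X.proj e he, mul_apply_U, himg, h0, one_mul, T_apply S he.2, map_add, map_smul, he.2,
        smul_zero, add_zero, add_assoc, S.vtwo, add_zero]
      rfl
    have h1 := line_inj S X hu he h' hne (mul_mem (Subgroup.subset_closure (Or.inl rfl)) hxm) this
    rw [show x = X.L e from (inv_eq_of_mul_eq_one_right h1) ▸ L_inv S X he]
    exact Subgroup.mem_zpowers _

/-- Conjugation by an element moving the point to a multiple of itself preserves the generators. -/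
theorem Qgen_conj {e : V} (he : Iso B e) {g : E} {μ : F} (hμ : μ ≠ 0) (hg : (X.π g).1.1 e = μ • e)
    {x : E} (hx : x ∈ Qgen X e) : g * x * g⁻¹ ∈ Qgen X e := by
  rcases hx with hx | ⟨u, c, hu, h, hne, rfl⟩
  · rw [Set.mem_singleton_iff] at hx
    left
    rw [Set.mem_singleton_iff, hx, X.conj g e he, hg, X.smul e μ he hμ]
  · right
    refine ⟨(X.π g).1.1 u, c * μ, hu.map _, ?_, fun k hk => hne (k * μ⁻¹) ?_, ?_⟩
    · have := pres_U (X.π g) e u
      rw [hg, h, map_smulₛₗ, LinearMap.smul_apply, smul_eq_mul, mul_eq_zero] at this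
      exact this.resolve_left (by simpa using hμ)
    · apply (X.π g).1.1.injective
      rw [map_smul, hg, smul_smul, mul_assoc, inv_mul_cancel₀ hμ, mul_one, hk]
    · rw [← conj_mul, X.conj g u hu, X.conj g _ (hu.line he (S.symm0 h) h hne c), map_add, map_smul, hg,
        smul_smul]

theorem Qhat_conj {e : V} (he : Iso B e) {g : E} {μ : F} (hμ : μ ≠ 0) (hg : (X.π g).1.1 e = μ • e)
    {x : E} (hx : x ∈ Qhat X e) : g * x * g⁻¹ ∈ Qhat X e := by
  induction hx using Subgroup.closure_induction with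
  | mem y hy => exact Subgroup.subset_closure (Qgen_conj S X he hμ hg hy)
  | one => simp
  | mul a b _ _ iha ihb => rw [← conj_mul]; exact mul_mem iha ihb
  | inv a _ iha => rw [← conj_inv]; exact inv_mem iha

theorem Qgen_inv {e : V} (he : Iso B e) {x : E} (hx : x ∈ Qgen X e) : x⁻¹ = x := by
  rcases hx with hx | ⟨u, c, hu, h, hne, rfl⟩
  · rw [Set.mem_singleton_iff] at hx
    rw [hx, L_inv S X he]
  · have hi := hu.line he (S.symm0 h) h hne c
    rw [mul_inv_rev, L_inv S X hu, L_inv S X hi]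
    exact (L_commute S X hi hu (by simp [hu.2, h, S.symm0 h])).eq

theorem Qhat_fix {e : V} (he : Iso B e) {x : E} (hx : x ∈ Qhat X e) : (X.π x).1.1 e = e := by
  induction hx using Subgroup.closure_induction with
  | mem y hy =>
    rcases hy with hy | ⟨u, c, hu, h, hne, rfl⟩
    · rw [Set.mem_singleton_iff] at hy
      rw [hy, X.proj e he, T_fix S he.2 he.2]
    · have hi := hu.line he (S.symm0 h) h hne c
      rw [map_mul, X.proj u hu, X.proj _ hi, mul_apply_U, T_fix S hi.2 (by simp [he.2, S.symm0 h]),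
        T_fix S hu.2 (S.symm0 h)]
  | one => rw [map_one]; rfl
  | mul a b _ _ iha ihb => rw [map_mul, mul_apply_U, ihb, iha]
  | inv a _ iha =>
    conv_lhs => rw [← iha, map_inv]
    exact inv_apply_U _ _

theorem Qhat_Le {e : V} (he : Iso B e) {x : E} (hx : x ∈ Qhat X e) : Commute x (X.L e) := by
  have := X.conj x e he
  rw [Qhat_fix S X he hx] at this
  exact mul_inv_eq_iff_eq_mul.1 this

/-- The group of the lift at the point inside the elementary group. -/
def Qcen (X : Ext B E) (e : V) : Subgroup ↥(Qhat X e) := (Subgroup.zpowers (X.L e)).subgroupOf (Qhat X e)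

theorem Qcen_normal {e : V} (he : Iso B e) : (Qcen X e).Normal := by
  refine ⟨fun n hn g => ?_⟩
  have hc : Commute (g : E) (n : E) := by
    obtain ⟨k, hk⟩ := Subgroup.mem_zpowers_iff.1 (Subgroup.mem_subgroupOf.1 hn)
    rw [← hk]
    exact (Qhat_Le S X he g.2).zpow_right k
  rw [show g * n * g⁻¹ = n from Subtype.ext (by
    push_cast
    rw [hc.eq, mul_inv_cancel_right])]
  exact hn

theorem q_mk_eq {e u : V} (he : Iso B e) (hu : Iso B u) (h : B e u = 0) (hne : ∀ k : F, u ≠ k • e) (c t : F)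
    [(Qcen X e).Normal] (a b : ↥(Qhat X e)) (ha : (a : E) = X.L u * X.L (u + c • e))
    (hb : (b : E) = X.L (u + t • e) * X.L (u + (t + c) • e)) :
    QuotientGroup.mk' (Qcen X e) a = QuotientGroup.mk' (Qcen X e) b := by
  refine QuotientGroup.eq.2 (Subgroup.mem_subgroupOf.2 ?_)
  push_cast
  rw [ha, hb]
  exact q_shift S X he hu h hne c t

/-- The elementary group is commutative modulo the lift at the point. -/
theorem Qquot_comm {e : V} (he : Iso B e) [(Qcen X e).Normal] (a b : ↥(Qhat X e) ⧸ Qcen X e) : a * b = b * a := by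
  set mk := QuotientGroup.mk' (Qcen X e)
  have hgen : ∀ a b : ↥(Qhat X e), (a : E) ∈ Qgen X e → (b : E) ∈ Qgen X e → Commute (mk a) (mk b) := by
    intro a b ha hb
    rcases id ha with ha' | ⟨u, c, hu, h, hne, ha'⟩
    · rw [Set.mem_singleton_iff] at ha'
      rw [show mk a = 1 from (QuotientGroup.eq_one_iff a).2 (Subgroup.mem_subgroupOf.2 (by
        rw [ha']; exact Subgroup.mem_zpowers _))]
      exact Commute.one_left _
    rcases id hb with hb' | ⟨v, d, hv, h', hne', hb'⟩
    · rw [Set.mem_singleton_iff] at hb'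
      rw [show mk b = 1 from (QuotientGroup.eq_one_iff b).2 (Subgroup.mem_subgroupOf.2 (by
        rw [hb']; exact Subgroup.mem_zpowers _))]
      exact Commute.one_right _
    have hi := hv.line he (S.symm0 h') h' hne' d
    have hj := hu.line he (S.symm0 h) h hne c
    obtain ⟨t, ht⟩ : ∃ t : F, (X.π (b : E)).1.1 u = u + t • e := by
      refine ⟨d * B v u, ?_⟩
      have e1 : (B (v + d • e)) u = B v u := by
        simp [h]
      rw [hb', map_mul, X.proj v hv, X.proj _ hi, mul_apply_U, T_apply S hi.2, e1, T_apply S hv.2, map_add,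
        map_smul, map_add, map_smul, hv.2, S.symm0 h', smul_zero, add_zero, smul_zero, add_zero]
      have h2 := two_zero S
      match_scalars <;> grind
    have hval : ((b * a * b⁻¹ : ↥(Qhat X e)) : E) = X.L (u + t • e) * X.L (u + (t + c) • e) := by
      push_cast
      rw [ha', ← conj_mul, X.conj _ u hu, X.conj _ _ hj, map_add, map_smul, Qhat_fix S X he b.2, ht,
        add_assoc, ← add_smul]
    have := q_mk_eq S X he hu h hne c t a (b * a * b⁻¹) ha' hval
    rw [map_mul, map_mul, map_inv] at this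
    exact (mul_inv_eq_iff_eq_mul.1 this.symm).symm
  obtain ⟨⟨x, hx⟩, rfl⟩ := QuotientGroup.mk'_surjective (Qcen X e) a
  obtain ⟨⟨y, hy⟩, rfl⟩ := QuotientGroup.mk'_surjective (Qcen X e) b
  induction hx using Subgroup.closure_induction generalizing y with
  | mem x hx =>
    induction hy using Subgroup.closure_induction with
    | mem y hy => exact hgen _ _ hx hy
    | one => exact (Commute.one_right _).eq
    | mul p q hp hq ihp ihq => exact (Commute.mul_right (b := mk ⟨p, hp⟩) (c := mk ⟨q, hq⟩) ihp ihq).eq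
    | inv p hp ihp => exact (Commute.inv_right (b := mk ⟨p, hp⟩) ihp).eq
  | one => exact (Commute.one_left _).eq
  | mul p q hp hq ihp ihq => exact (Commute.mul_left (a := mk ⟨p, hp⟩) (b := mk ⟨q, hq⟩) (ihp y hy) (ihq y hy)).eq
  | inv p hp ihp => exact (Commute.inv_left (a := mk ⟨p, hp⟩) (ihp y hy)).eq

/-- With an element scaling the orthogonal part of a hyperbolic pair, the elementary group meets the
kernel trivially. -/
theorem Qhat_inj {e f : V} (he : Iso B e) (hef : B e f = 1) (hf : B f f = 0) {g : E} {μ w : F}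
    (hw : w * w = w + 1) (hμ : μ ≠ 0) (hμw : μ ≠ w) (hge : (X.π g).1.1 e = μ • e)
    (hgY : ∀ y, B e y = 0 → B f y = 0 → (X.π g).1.1 y = w • y) {z : E} (hz : z ∈ Qhat X e)
    (hz1 : X.π z = 1) : z = 1 := by
  have := Qcen_normal S X he
  have h2 := two_zero S
  set mk := QuotientGroup.mk' (Qcen X e)
  let φ : ↥(Qhat X e) → ↥(Qhat X e) := fun x => ⟨g * (x : E) * g⁻¹, Qhat_conj S X he hμ hge x.2⟩
  have hφ : ∀ a b, φ (a * b) = φ a * φ b := fun a b => Subtype.ext (by
    show g * ((a : E) * b) * g⁻¹ = g * a * g⁻¹ * (g * b * g⁻¹); rw [conj_mul])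
  have comm4 : ∀ p q r s : ↥(Qhat X e) ⧸ Qcen X e, p * q * (r * s) = p * r * (q * s) := fun p q r s => by
    rw [mul_assoc, ← mul_assoc q, Qquot_comm S X he q r, mul_assoc, ← mul_assoc]
  let N : ↥(Qhat X e) → ↥(Qhat X e) ⧸ Qcen X e := fun x => mk x * mk (φ x) * mk (φ (φ x))
  have hN : ∀ a b, N (a * b) = N a * N b := fun a b => by
    simp only [N, hφ, map_mul]
    rw [comm4 (mk a) (mk b), comm4 (mk a * mk (φ a)) (mk b * mk (φ b))]
  set ν := μ * (w + 1) with hν
  have hν0 : ν ≠ 0 := mul_ne_zero hμ fun h => by rw [← hw, mul_self_eq_zero] at h; simp [h] at hw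
  have hν1 : ν ≠ 1 := fun h => hμw (by grind)
  have hνq : ν * ν + ν + 1 = 0 := by
    rcases S.fixed (ν + σ ν) (by rw [map_add, S.herm.conj.invol, add_comm]) with h3 | h3
    · rcases S.fixed ν (S.eq_of_add h3).symm with h4 | h4
      · exact absurd h4 hν0
      · exact absurd h4 hν1
    · linear_combination ν * h3 - S.norm ν hν0 + ν * S.two 1
  have hstep : ∀ (u : V) (c : F), Iso B u → B e u = 0 → (∀ k : F, u ≠ k • e) →
      ∀ a b : ↥(Qhat X e), (a : E) = X.L u * X.L (u + c • e) →
        (b : E) = X.L u * X.L (u + (ν * c) • e) → mk (φ a) = mk b := by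
    intro u c hu h hne a b ha hb
    have hgu : (X.π g).1.1 u = w • (u + ((ν + 1) * B f u) • e) := by
      have hd : u = (u + B f u • e) + B f u • e := by rw [add_assoc, S.vtwo, add_zero]
      have h3 : (X.π g).1.1 (u + B f u • e) = w • (u + B f u • e) :=
        hgY _ (by simp [h, he.2]) (by simp [symm1 S hef, S.two])
      conv_lhs => rw [hd, map_add, map_smul, hge, h3]
      match_scalars <;> grind
    refine (q_mk_eq S X he hu h hne (ν * c) ((ν + 1) * B f u) b (φ a) hb ?_).symm
    have hj := hu.line he (S.symm0 h) h hne c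
    show g * (a : E) * g⁻¹ = _
    rw [ha, ← conj_mul, X.conj _ u hu, X.conj _ _ hj, map_add, map_smul, hge, hgu,
      X.smul _ _ (hu.line he (S.symm0 h) h hne _) (left_ne_zero_of_mul (a := w) (b := w + 1) (by
        intro h4; rw [mul_add, mul_one, hw] at h4; grind))]
    congr 1
    rw [show w • (u + ((ν + 1) * B f u) • e) + c • μ • e = w • (u + ((ν + 1) * B f u + ν * c) • e) by
      match_scalars <;> grind]
    exact X.smul _ _ (hu.line he (S.symm0 h) h hne _) (left_ne_zero_of_mul (a := w) (b := w + 1) (by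
        intro h4; rw [mul_add, mul_one, hw] at h4; grind))
  have hφmk : ∀ a b, mk a = mk b → mk (φ a) = mk (φ b) := by
    intro a b hab
    refine QuotientGroup.eq.2 ?_
    rw [show (φ a)⁻¹ * φ b = φ (a⁻¹ * b) from Subtype.ext (by
      show (g * a * g⁻¹)⁻¹ * (g * b * g⁻¹) = g * ((a : E)⁻¹ * b) * g⁻¹; rw [conj_inv, conj_mul])]
    obtain ⟨k, hk⟩ := Subgroup.mem_zpowers_iff.1 (Subgroup.mem_subgroupOf.1 (QuotientGroup.eq.1 hab))
    refine Subgroup.mem_subgroupOf.2 (Subgroup.mem_zpowers_iff.2 ⟨k, ?_⟩)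
    show _ = g * _ * g⁻¹
    rw [← hk, ← conj_zpow, X.conj g e he, hge, X.smul e μ he hμ]
  have hkill : ∀ x hx, (x ∈ Qgen X e) → N ⟨x, hx⟩ = 1 := by
    intro x hx hx'
    rcases id hx' with hx'' | ⟨u, c, hu, h, hne, hx''⟩
    · rw [Set.mem_singleton_iff] at hx''
      have h0 : mk ⟨x, hx⟩ = 1 := (QuotientGroup.eq_one_iff (N := Qcen X e) _).2
        (Subgroup.mem_subgroupOf.2 (by simp only [hx'']; exact Subgroup.mem_zpowers _))
      have h1 := hφmk _ 1 (by rw [h0, map_one])
      rw [show φ 1 = 1 from Subtype.ext (by show g * 1 * g⁻¹ = 1; rw [mul_one, mul_inv_cancel]), map_one] at h1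
      have h3 := hφmk _ 1 (by rw [h1, map_one])
      rw [show φ 1 = 1 from Subtype.ext (by show g * 1 * g⁻¹ = 1; rw [mul_one, mul_inv_cancel]), map_one] at h3
      simp only [N, h0, h1, h3, mul_one]
    have mem : ∀ d : F, X.L u * X.L (u + d • e) ∈ Qhat X e :=
      fun d => Subgroup.subset_closure (Or.inr ⟨u, d, hu, h, hne, rfl⟩)
    have e1 := hstep u c hu h hne ⟨x, hx⟩ ⟨_, mem (ν * c)⟩ hx'' rfl
    have e2 : mk (φ (φ ⟨x, hx⟩)) = mk ⟨_, mem (ν * (ν * c))⟩ :=
      (hφmk _ _ e1).trans (hstep u _ hu h hne _ _ rfl rfl)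
    show mk _ * mk (φ _) * mk (φ (φ _)) = 1
    rw [e1, e2, show (⟨x, hx⟩ : ↥(Qhat X e)) = ⟨_, mem c⟩ from Subtype.ext hx'', ← map_mul, ← map_mul]
    refine (QuotientGroup.eq_one_iff _).2 (Subgroup.mem_subgroupOf.2 ?_)
    push_cast
    set y := X.L u * X.L (u + c • e) * (X.L u * X.L (u + (ν * c) • e)) *
      (X.L u * X.L (u + (ν * (ν * c)) • e)) with hy
    have hmem : ∀ c : F, X.L (u + c • e) ∈
        Subgroup.closure ({X.L e} ∪ Set.range fun c : F => X.L (u + c • e)) :=
      fun c => Subgroup.subset_closure (Or.inr ⟨c, rfl⟩)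
    have hu0 := hmem 0
    rw [zero_smul, add_zero] at hu0
    have hym : y ∈ Subgroup.closure ({X.L e} ∪ Set.range fun c : F => X.L (u + c • e)) :=
      mul_mem (mul_mem (mul_mem hu0 (hmem _)) (mul_mem hu0 (hmem _))) (mul_mem hu0 (hmem _))
    have hi : ∀ c : F, Iso B (u + c • e) := fun c => hu.line he (S.symm0 h) h hne c
    have hcc : ∀ c d : F, B (u + c • e) (u + d • e) = 0 := fun c d => by
      simp [hu.2, he.2, h, S.symm0 h]
    have hue : ∀ d : F, B u (u + d • e) = 0 := fun d => by simp [hu.2, S.symm0 h]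
    have himg : ∀ x, (X.π y).1.1 x = x + ((c * σ c) * B e x) • e := by
      intro x
      have s1 : ∀ (d t : F) (x : V), B u (x + t • (u + d • e)) = B u x := fun d t x => by
        rw [map_add (B _), map_smul (B _), hue, smul_zero, add_zero]
      have s2 : ∀ (d t : F) (x : V), B (u + d • e) (x + t • u) = B (u + d • e) x := fun d t x => by
        rw [map_add (B _), map_smul (B _), S.symm0 (hue d), smul_zero, add_zero]
      have s3 : ∀ (d d' t : F) (x : V), B (u + d • e) (x + t • (u + d' • e)) = B (u + d • e) x := fun d d' t x => by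
        rw [map_add (B _), map_smul (B _), hcc, smul_zero, add_zero]
      have s4 : ∀ (t : F) (x : V), B u (x + t • u) = B u x := fun t x => by
        rw [map_add (B _), map_smul (B _), hu.2, smul_zero, add_zero]
      simp only [hy, map_mul, X.proj u hu, X.proj _ (hi _), mul_apply_U, T_apply S hu.2,
        T_apply S (hi _).2, s1, s2, s3, s4]
      simp only [map_add, map_smulₛₗ, LinearMap.add_apply, LinearMap.smul_apply, smul_eq_mul, map_mul]
      have hsν : σ ν * ν = 1 := by rw [mul_comm]; exact S.norm ν hν0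
      match_scalars <;> grind
    rcases S.fixed (c * σ c) (S.herm.conj.norm_fixed c) with h0 | h0
    · have hy1 : y = 1 := line_inj S X hu he (S.symm0 h) hne hym
        (ext_U fun x => by rw [himg, h0, zero_mul, zero_smul, add_zero]; rfl)
      rw [hy1]; exact one_mem _
    · have : X.π (X.L e * y) = 1 := ext_U fun x => by
        rw [map_mul, X.proj e he, mul_apply_U, himg, h0, one_mul, T_apply S he.2, map_add, map_smul, he.2,
          smul_zero, add_zero, add_assoc, S.vtwo, add_zero]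
        rfl
      have h1 := line_inj S X hu he (S.symm0 h) hne (mul_mem (Subgroup.subset_closure (Or.inl rfl)) hym) this
      rw [show y = X.L e from (inv_eq_of_mul_eq_one_right h1) ▸ L_inv S X he]
      exact Subgroup.mem_zpowers _
  have hall : ∀ x hx, N ⟨x, hx⟩ = 1 := by
    intro x hx
    induction hx using Subgroup.closure_induction with
    | mem y hy => exact hkill y _ hy
    | one =>
      have : φ (1 : ↥(Qhat X e)) = 1 := Subtype.ext (by show g * 1 * g⁻¹ = 1; rw [mul_one, mul_inv_cancel])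
      show mk 1 * mk (φ 1) * mk (φ (φ 1)) = 1
      rw [this, this, map_one, mul_one, mul_one]
    | mul a b ha hb iha ihb =>
      have := hN ⟨a, ha⟩ ⟨b, hb⟩
      rw [iha, ihb, mul_one] at this
      exact this
    | inv a ha iha =>
      have := hN ⟨a, ha⟩ ⟨a, ha⟩⁻¹
      rw [mul_inv_cancel, iha, one_mul] at this
      rw [show (⟨a⁻¹, _⟩ : ↥(Qhat X e)) = (⟨a, ha⟩ : ↥(Qhat X e))⁻¹ from rfl, ← this]
      have : φ (1 : ↥(Qhat X e)) = 1 := Subtype.ext (by show g * 1 * g⁻¹ = 1; rw [mul_one, mul_inv_cancel])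
      show mk 1 * mk (φ 1) * mk (φ (φ 1)) = 1
      rw [this, this, map_one, mul_one, mul_one]
  have hgz : g * z * g⁻¹ = z := mul_inv_eq_iff_eq_mul.2 (X.central z hz1 g).eq
  have h3 := hall z hz
  have hφz : φ ⟨z, hz⟩ = ⟨z, hz⟩ := Subtype.ext hgz
  simp only [N, hφz, ← map_mul] at h3
  have h4 := Subgroup.mem_subgroupOf.1 ((QuotientGroup.eq_one_iff (N := Qcen X e) _).1 h3)
  push_cast at h4
  have h5 : z * z * z = 1 := by
    obtain ⟨k, hk⟩ := Subgroup.mem_zpowers_iff.1 h4
    have h6 : X.π (X.L e) ^ k = 1 := by rw [← map_zpow, hk, map_mul, map_mul, hz1, mul_one, mul_one]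
    rw [X.proj e he] at h6
    rcases Int.even_or_odd k with ⟨m, rfl⟩ | ⟨m, rfl⟩
    · rw [← hk, ← two_mul, zpow_mul, zpow_two, X.sq e he, one_zpow]
    · rw [zpow_add_one, zpow_mul, zpow_two, T_sq S he.2, one_zpow, one_mul] at h6
      exact absurd h6 (T_ne_one S he)
  obtain ⟨k, hk⟩ := X.two z hz1
  have hord : orderOf z ∣ Nat.gcd (2 ^ k) 3 :=
    Nat.dvd_gcd (orderOf_dvd_of_pow_eq_one hk) (orderOf_dvd_of_pow_eq_one (by rw [pow_succ, pow_two, h5]))
  rw [Nat.Coprime.pow_left k (show Nat.Coprime 2 3 by norm_num), Nat.dvd_one, orderOf_eq_one_iff] at hord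
  exact hord

end CfsgLib.ThreeTransp.UnitaryRadical
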