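import Cfsg.Agent.Lib.ThreeTransp.UnitaryRadical.Geometry

/-!
# Explicit identities in a frame

In a non-degenerate three-space, two products of pairs of transvections have as commutator the
element acting as a cube root of unity there and trivially on the perp; with a further pair this
gives the scalar times a quasi-reflection.
-/

set_option autoImplicit false
set_option linter.unusedSectionVars false

namespace CfsgLib.ThreeTransp.UnitaryRadical

open Module CfsgLib.Classical
open CfsgLib.ThreeTransp.UnitarySix (Setting tv tv_apply)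

variable {F : Type*} [Field F] [Finite F] {V : Type*} [AddCommGroup V] [Module F V]
  [FiniteDimensional F V] {σ : F →+* F} {B : V →ₛₗ[σ] V →ₗ[F] F}

/-- A hyperbolic pair and a unit vector, pairwise orthogonal. -/
structure Triad (B : V →ₛₗ[σ] V →ₗ[F] F) (v v' z : V) : Prop where
  hv : B v v = 0
  hv' : B v' v' = 0
  hvv' : B v v' = 1
  hvz : B v z = 0
  hv'z : B v' z = 0
  hz : B z z = 1

variable (S : Setting B)
include S

theorem Triad.rev {v v' z : V} (h : Triad B v v' z) :
    B v' v = 1 ∧ B z v = 0 ∧ B z v' = 0 ∧ Iso B v ∧ Iso B v' :=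
  ⟨symm1 S h.hvv', S.symm0 h.hvz, S.symm0 h.hv'z,
    ⟨fun e => zero_ne_one (α := F) (by rw [← h.hvv', e, map_zero, LinearMap.zero_apply]), h.hv⟩,
    ⟨fun e => zero_ne_one (α := F) (by rw [← h.hvv', e, map_zero]), h.hv'⟩⟩

/-- Every vector is expanded in a frame of five. -/
theorem frame_expand (h5 : finrank F V = 5) {e f a b c : V} (he : B e e = 0) (hf : B f f = 0)
    (hef : B e f = 1) (ha : B a a = 1) (hb : B b b = 1) (hc : B c c = 1)
    (hea : B e a = 0) (heb : B e b = 0) (hec : B e c = 0) (hfa : B f a = 0) (hfb : B f b = 0)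
    (hfc : B f c = 0) (hab : B a b = 0) (hac : B a c = 0) (hbc : B b c = 0) (x : V) :
    x = B f x • e + B e x • f + B a x • a + B b x • b + B c x • c := by
  let Φ : V →ₗ[F] F × F × F × F × F := (B f).prod ((B e).prod ((B a).prod ((B b).prod (B c))))
  have hsurj : Function.Surjective Φ := by
    rintro ⟨p, q, r, s, t⟩
    refine ⟨p • e + q • f + r • a + s • b + t • c, ?_⟩
    simp [Φ, he, hf, hef, symm1 S hef, ha, hb, hc, hea, heb, hec, hfa, hfb, hfc, hab, hac, hbc,
      S.symm0 hea, S.symm0 heb, S.symm0 hec, S.symm0 hfa, S.symm0 hfb, S.symm0 hfc, S.symm0 hab,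
      S.symm0 hac, S.symm0 hbc]
  have hinj : Function.Injective Φ :=
    (LinearMap.injective_iff_surjective_of_finrank_eq_finrank (by simp [h5])).2 hsurj
  refine hinj ?_
  simp [Φ, he, hf, hef, symm1 S hef, ha, hb, hc, hea, heb, hec, hfa, hfb, hfc, hab, hac, hbc,
    S.symm0 hea, S.symm0 heb, S.symm0 hec, S.symm0 hfa, S.symm0 hfb, S.symm0 hfc, S.symm0 hab,
    S.symm0 hac, S.symm0 hbc]

/-- The rotation of a three-space as a commutator, with the points used by the fixed-point lemma. -/
theorem exists_rot {w : F} (hw : w * w = w + 1) (hs : σ w = w + 1) {v v' z : V} (h : Triad B v v' z) :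
    ∃ (b : V) (r : ↥(sIsom B)), Iso B b ∧ B v b = 1 ∧
      (∀ x, r.1.1 x = x + (w + 1) • (B v' x • v + B v x • v' + B z x • z)) ∧
      r.1.1 v = w • v ∧ r.1.1 v' = w • v' ∧ r.1.1 b = w • b ∧
      T B v * T B v' * (T B v * T B b) = r * (T B v * T B b * (T B v * T B v')) ∧
      B v ((T B v * T B v' * (T B v * T B b)).1.1 v) ≠ 0 ∧
      B v ((T B v * T B v' * (T B v * T B b)⁻¹).1.1 v) ≠ 0 := by
  obtain ⟨hvv, hzv, hzv', hiv, hiv'⟩ := h.rev S
  have h2 := two_zero S
  obtain ⟨b, hbdef⟩ : ∃ b, b = w • v + v' + z := ⟨_, rfl⟩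
  have hvb : B v b = 1 := by simp [hbdef, h.hv, h.hvv', h.hvz]
  have hbb : B b b = 0 := by
    simp only [hbdef, map_add, map_smul, map_smulₛₗ, LinearMap.add_apply, LinearMap.smul_apply, h.hv,
      h.hv', h.hvv', h.hvz, h.hv'z, h.hz, hvv, hzv, hzv', hs, smul_eq_mul]
    linear_combination (w + 1) * h2
  have hib : Iso B b := ⟨fun e => by rw [e, map_zero] at hvb; exact zero_ne_one hvb, hbb⟩
  set k1 := T B v * T B v'
  set k2 := T B v * T B b
  have hBb : ∀ x, B b x = (w + 1) * B v x + B v' x + B z x := fun x => by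
    simp [hbdef, hs]
  have hk1 : ∀ x, k1.1.1 x = x + B v' x • v' + (B v x + B v' x) • v := fun x => by
    rw [mul_apply_U, T_apply S h.hv', T_apply S h.hv, map_add, map_smul, h.hvv', smul_eq_mul, mul_one]
  have hk2 : ∀ x, k2.1.1 x = x + B b x • b + (B v x + B b x) • v := fun x => by
    rw [mul_apply_U, T_apply S hbb, T_apply S h.hv, map_add, map_smul, hvb, smul_eq_mul, mul_one]
  set r := k1 * k2 * (k2 * k1)⁻¹ with hrdef
  have hR0 : ∀ x, (k1 * k2).1.1 x = (k2 * k1).1.1 x +
      (w + 1) • (B v' ((k2 * k1).1.1 x) • v + B v ((k2 * k1).1.1 x) • v' + B z ((k2 * k1).1.1 x) • z) := by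
    intro x
    simp only [mul_apply_U, hk1, hk2, hBb, map_add, map_smul, smul_eq_mul]
    simp only [hbdef, map_add, map_smul, smul_eq_mul, h.hv, h.hv', h.hvv',
      h.hvz, h.hv'z, h.hz, hvv, hzv, hzv', mul_zero, mul_one, add_zero, zero_add]
    match_scalars <;> grind
  have hr : ∀ x, r.1.1 x = x + (w + 1) • (B v' x • v + B v x • v' + B z x • z) := fun x => by
    have e := hR0 ((k2 * k1)⁻¹.1.1 x)
    rw [apply_inv_U, ← mul_apply_U] at e
    exact e
  refine ⟨b, r, hib, hvb, hr, ?_, ?_, ?_, ?_, ?_, ?_⟩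
  · rw [hr, hvv, h.hv, hzv]
    match_scalars <;> grind
  · rw [hr, h.hv', h.hvv', hzv']
    match_scalars <;> grind
  · rw [hr, hbdef]
    simp only [map_add, map_smul, smul_eq_mul, h.hv, h.hv', h.hvv', h.hvz, h.hv'z, h.hz, hvv, hzv, hzv']
    match_scalars <;> grind
  · exact (inv_mul_cancel_right (k1 * k2) (k2 * k1)).symm
  · have : B v ((k1 * k2).1.1 v) = w + 1 := by
      simp only [mul_apply_U, hk1, hk2, hBb, map_add, map_smul, smul_eq_mul]
      simp only [hbdef, map_add, map_smul, smul_eq_mul, h.hv, h.hv', h.hvv',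
        h.hvz, h.hv'z, h.hz, hvv, hzv, hzv', mul_zero, mul_one, add_zero, zero_add]
      grind
    rw [this]
    intro e
    rw [e, mul_eq_zero] at hw
    grind
  · have e : k2⁻¹ = T B b * T B v := by rw [mul_inv_rev, T_inv S h.hv, T_inv S hbb]
    have : B v ((k1 * k2⁻¹).1.1 v) = w := by
      rw [e]
      simp only [mul_apply_U, hk1, T_apply S hbb, T_apply S h.hv, hBb, map_add, map_smul, smul_eq_mul]
      simp only [hbdef, map_add, map_smul, smul_eq_mul, h.hv, h.hv', h.hvv', h.hvz, h.hv'z, h.hz, hvv,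
        hzv, hzv', mul_zero, mul_one, add_zero, zero_add]
      grind
    rw [this]
    grind

/-- Scalar times quasi-reflection as the rotation of a three-space times a pair of transvections. -/
theorem rot_mul_pair {w : F} (hw : w * w = w + 1) (hs : σ w = w + 1) (h5 : finrank F V = 5)
    {v v' e t z : V} (h : Triad B v v' e) (ht : B t t = 1) (hz : B z z = 1)
    (hvt : B v t = 0) (hv't : B v' t = 0) (het : B e t = 0) (hvz : B v z = 0) (hv'z : B v' z = 0)
    (hez : B e z = 0) (htz : B t z = 0) (r : ↥(sIsom B))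
    (hr : ∀ x, r.1.1 x = x + (w + 1) • (B v' x • v + B v x • v' + B e x • e)) :
    B (z + t) (z + t) = 0 ∧ B (z + (w + 1) • t) (z + (w + 1) • t) = 0 ∧
    ∀ x, (r * (T B (z + t) * T B (z + (w + 1) • t))).1.1 x = w • x + B z x • z := by
  have h2 := two_zero S
  have hzt := S.symm0 htz
  have h1 : B (z + t) (z + t) = 0 := by
    simp only [map_add, LinearMap.add_apply, hz, ht, htz, hzt]
    grind
  have h3 : B (z + (w + 1) • t) (z + (w + 1) • t) = 0 := by
    simp only [map_add, map_smul, map_smulₛₗ, LinearMap.add_apply, LinearMap.smul_apply, hz, ht, htz, hzt,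
      map_one, hs, smul_eq_mul]
    grind
  refine ⟨h1, h3, fun x => ?_⟩
  have hx := frame_expand S h5 h.hv h.hv' h.hvv' h.hz ht hz h.hvz hvt hvz h.hv'z hv't hv'z het hez htz x
  rw [mul_apply_U, mul_apply_U, hr, T_apply S h1, T_apply S h3]
  conv_rhs => arg 1; rw [hx]
  conv_lhs => arg 1; arg 1; arg 1; rw [hx]
  simp only [map_add, map_smul, map_smulₛₗ, LinearMap.add_apply, LinearMap.smul_apply, smul_eq_mul,
    map_one, hs, hz, ht, htz, hzt, hvt, hv't, het, hvz, hv'z, hez, S.symm0 hvt, S.symm0 hv't,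
    S.symm0 het, S.symm0 hvz, S.symm0 hv'z, S.symm0 hez, mul_zero, mul_one, add_zero, zero_add]
  match_scalars <;> grind

end CfsgLib.ThreeTransp.UnitaryRadical
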