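import Cfsg.Agent.Lib.ThreeTransp.UnitarySix.Bad
import Cfsg.Agent.Lib.ThreeTransp.UnitarySix.Rel
import Cfsg.Agent.Lib.Classical.HermGen

/-!
# Geometry of transvections over the field with four elements

The transvection of an isotropic vector as an element of the special unitary group, the closure
property of the isotropic vectors orthogonal to one of two non-orthogonal ones, and the explicit
identities in a frame.
-/

set_option autoImplicit false
set_option linter.unusedSectionVars false

namespace CfsgLib.ThreeTransp.UnitaryRadical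

open Module CfsgLib.Classical
open CfsgLib.ThreeTransp.UnitarySix (Setting tv tv_apply)

variable {F : Type*} [Field F] [Finite F] {V : Type*} [AddCommGroup V] [Module F V]
  [FiniteDimensional F V] {σ : F →+* F} {B : V →ₛₗ[σ] V →ₗ[F] F}

/-- A non-zero isotropic vector. -/
def Iso (B : V →ₛₗ[σ] V →ₗ[F] F) (v : V) : Prop := v ≠ 0 ∧ B v v = 0

/-- The transvection of a vector, as an element of the special group. -/
noncomputable def T (B : V →ₛₗ[σ] V →ₗ[F] F) (v : V) : ↥(sIsom B) :=
  Classical.epsilon fun g : ↥(sIsom B) => ∀ x, g.1.1 x = tv B v x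

theorem ext_U {g h : ↥(sIsom B)} (e : ∀ x, g.1.1 x = h.1.1 x) : g = h :=
  Subtype.ext (Subtype.ext (LinearEquiv.ext e))

theorem one_apply_U (x : V) : (1 : ↥(sIsom B)).1.1 x = x := rfl

theorem mul_apply_U (g h : ↥(sIsom B)) (x : V) : (g * h).1.1 x = g.1.1 (h.1.1 x) := rfl

theorem pres_U (g : ↥(sIsom B)) (x y : V) : B (g.1.1 x) (g.1.1 y) = B x y := g.1.2 x y

theorem inv_apply_U (g : ↥(sIsom B)) (x : V) : g⁻¹.1.1 (g.1.1 x) = x := by
  rw [← mul_apply_U, inv_mul_cancel]; rfl

theorem apply_inv_U (g : ↥(sIsom B)) (x : V) : g.1.1 (g⁻¹.1.1 x) = x := by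
  rw [← mul_apply_U, mul_inv_cancel]; rfl

theorem Iso.map {v : V} (hv : Iso B v) (g : ↥(sIsom B)) : Iso B (g.1.1 v) :=
  ⟨fun e => hv.1 (g.1.1.injective (e.trans (map_zero _).symm)), by rw [pres_U]; exact hv.2⟩

theorem Iso.smul {v : V} (hv : Iso B v) {c : F} (hc : c ≠ 0) : Iso B (c • v) :=
  ⟨smul_ne_zero hc hv.1, by simp [hv.2]⟩

theorem Iso.not_mem {v w : V} (hv : Iso B v) (h : B v w ≠ 0) (c : F) : w ≠ c • v := fun e => h (by
  rw [e, map_smul, hv.2, smul_zero])

variable (S : Setting B)
include S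

/-- A cube root of unity, with its properties. -/
theorem exists_omega : ∃ w : F, w * w = w + 1 ∧ σ w = w + 1 ∧ w * (w + 1) = 1 ∧ w ≠ 0 ∧ w ≠ 1 ∧
    w + 1 ≠ 0 := by
  obtain ⟨w, hw⟩ := S.trace
  have hs : σ w = w + 1 := by linear_combination hw - S.two w
  have hw0 : w ≠ 0 := fun e => by simp [e] at hw
  have hn : w * (w + 1) = 1 := by rw [← hs]; exact S.norm w hw0
  refine ⟨w, ?_, hs, hn, hw0, fun e => ?_, fun e => ?_⟩
  · linear_combination hn - S.two w
  · rw [e, S.two, mul_zero] at hn; exact zero_ne_one hn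
  · rw [e, mul_zero] at hn; exact zero_ne_one hn

theorem two_zero : (2 : F) = 0 := by rw [← one_add_one_eq_two]; exact S.two 1

theorem iso_add {u v : V} (hu : B u u = 0) (hv : B v v = 0) (h : B u v = 0) : B (u + v) (u + v) = 0 := by
  rw [S.herm.add_self, hu, hv, h, map_zero]; simp

theorem symm1 {x y : V} (h : B x y = 1) : B y x = 1 := by rw [← S.herm.symm, h, map_one]

theorem T_apply {v : V} (hv : B v v = 0) (x : V) : (T B v).1.1 x = x + B v x • v := by
  have h : ∃ g : ↥(sIsom B), ∀ x, g.1.1 x = tv B v x := by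
    obtain ⟨g, hg⟩ := S.herm.exists_uTv S.sep hv (c := 1) (by rw [map_one, S.two])
    exact ⟨⟨g, MonoidHom.mem_ker.2 (S.herm.idet_uTv hg)⟩, fun x => by
      rw [tv_apply]; exact (hg.2.2 x).trans (by rw [one_mul])⟩
  rw [T, Classical.epsilon_spec h x, tv_apply]

theorem T_fix {v x : V} (hv : B v v = 0) (h : B v x = 0) : (T B v).1.1 x = x := by
  rw [T_apply S hv, h, zero_smul, add_zero]

theorem T_smul {v : V} (hv : B v v = 0) {c : F} (hc : c ≠ 0) : T B (c • v) = T B v := by
  refine ext_U fun x => ?_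
  rw [T_apply S (by simp [hv]), T_apply S hv, ← tv_apply, ← tv_apply, S.tv_smul hc]

theorem T_sq {v : V} (hv : B v v = 0) : T B v * T B v = 1 := by
  refine ext_U fun x => ?_
  rw [mul_apply_U, T_apply S hv, T_apply S hv, ← tv_apply, ← tv_apply, S.tv_tv hv]
  rfl

theorem T_inv {v : V} (hv : B v v = 0) : (T B v)⁻¹ = T B v :=
  inv_eq_of_mul_eq_one_right (T_sq S hv)

theorem T_conj {v : V} (hv : B v v = 0) (g : ↥(sIsom B)) : g * T B v * g⁻¹ = T B (g.1.1 v) := by
  refine ext_U fun x => ?_
  rw [mul_apply_U, mul_apply_U, T_apply S hv, T_apply S (by rw [pres_U]; exact hv), map_add, map_smul,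
    apply_inv_U, ← pres_U g v, apply_inv_U]

theorem T_ne_one {v : V} (hv : Iso B v) : T B v ≠ 1 := by
  obtain ⟨x, hx⟩ := S.tv_ne_one hv.1 hv.2
  intro e
  apply hx
  rw [tv_apply, ← T_apply S hv.2, e]
  rfl

theorem T_inj {v w : V} (hv : Iso B v) (hw : Iso B w) (h : T B v = T B w) : ∃ c : F, c ≠ 0 ∧ w = c • v :=
  S.tv_inj hw.1 fun x => by rw [tv_apply, tv_apply, ← T_apply S hv.2, ← T_apply S hw.2, h]

theorem T_commute_iff {v w : V} (hv : B v v = 0) (hw : B w w = 0) :
    Commute (T B v) (T B w) ↔ B v w = 0 := by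
  constructor
  · intro h
    refine S.orth_of_commute hv hw (l := 1) fun x => ?_
    have e : (T B v * T B w).1.1 x = (T B w * T B v).1.1 x := by rw [h.eq]
    rw [mul_apply_U, mul_apply_U, T_apply S hv, T_apply S hw, T_apply S hw, T_apply S hv] at e
    simpa only [tv_apply, one_smul] using e
  · intro h
    refine ext_U fun x => ?_
    rw [mul_apply_U, mul_apply_U, T_apply S hv, T_apply S hw, T_apply S hw, T_apply S hv]
    simpa only [tv_apply] using S.commute_of_orth h x

theorem commute_T_of_fix {v : V} (hv : B v v = 0) (g : ↥(sIsom B)) {c : F} (hc : c ≠ 0)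
    (h : g.1.1 v = c • v) : Commute g (T B v) := by
  have e := T_conj S hv g
  rw [h, T_smul S hv hc] at e
  exact mul_inv_eq_iff_eq_mul.1 e

/-- For non-orthogonal isotropic vectors: the third point of their hyperbolic line, both ways. -/
theorem braid_point {v w : V} (hv : B v v = 0) (hw : B w w = 0) (h : B v w ≠ 0) :
    ∃ c : F, c ≠ 0 ∧ (T B v).1.1 w = c • (T B w).1.1 v := by
  obtain ⟨c, hc, e⟩ := S.braid_move hw hv (fun e => h (S.symm0 e))
  refine ⟨c, hc, ?_⟩
  have h2 : tv B w (tv B w (tv B v w)) = tv B w (c • v) := by rw [e]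
  rw [S.tv_tv hw, map_smul] at h2
  rw [T_apply S hv, T_apply S hw, ← tv_apply, ← tv_apply]
  exact h2

theorem T_braid {v w : V} (hv : B v v = 0) (hw : B w w = 0) (h : B v w ≠ 0) :
    T B v * T B w * T B v = T B w * T B v * T B w := by
  obtain ⟨c, hc, e⟩ := braid_point S hv hw h
  have h1 := T_conj S hw (T B v)
  have h2 := T_conj S hv (T B w)
  rw [T_inv S hv, e, T_smul S (by rw [pres_U]; exact hv) hc] at h1
  rw [T_inv S hw] at h2
  rw [h1, h2]

/-- An isotropic vector pairing to one with a given vector inside the perp of a hyperbolic pair. -/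
theorem exists_iso_partner {v w y : V} (hv : B v v = 0) (hw : B w w = 0) (hvw : B v w = 1)
    (hy0 : y ≠ 0) (hvy : B v y = 0) (hwy : B w y = 0) :
    ∃ u, Iso B u ∧ B v u = 0 ∧ B w u = 0 ∧ B y u = 1 := by
  have hwv := symm1 S hvw
  obtain ⟨s, -, hs⟩ := S.exists_dual (W := ⊥) (r := y) (by simpa using hy0)
  set proj : V → V := fun x => x + B w x • v + B v x • w with hproj
  have hp : ∀ x, B v (proj x) = 0 ∧ B w (proj x) = 0 := fun x => by
    simp only [hproj, map_add, map_smul, hv, hw, hvw, hwv, smul_eq_mul, mul_zero, mul_one, add_zero]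
    exact ⟨S.two _, S.two _⟩
  have hyp : ∀ x, B y (proj x) = B y x := fun x => by
    simp only [hproj, map_add, map_smul, S.symm0 hvy, S.symm0 hwy, smul_zero, add_zero]
  rcases S.self_val y with hyy | hyy
  · obtain ⟨a, ha⟩ := S.exists_iso hyy (show B y (proj s) = 1 by rw [hyp, hs])
    have e : B y (proj s + a • y) = 1 := by rw [map_add, map_smul, hyy, hyp, hs, smul_zero, add_zero]
    refine ⟨_, ⟨fun h => by rw [h, map_zero] at e; exact zero_ne_one e, ha⟩, ?_, ?_, e⟩
    · rw [map_add, map_smul, (hp s).1, hvy, smul_zero, add_zero]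
    · rw [map_add, map_smul, (hp s).2, hwy, smul_zero, add_zero]
  · obtain ⟨z0, hz0, h1, h2, h3⟩ := S.exists_perp v w y
    obtain ⟨e, he1, he2, he3, he4⟩ : ∃ e, B v e = 0 ∧ B w e = 0 ∧ B y e = 0 ∧ B e e = 1 := by
      rcases S.self_val z0 with hz | hz
      · obtain ⟨t, -, ht⟩ := S.exists_dual (W := ⊥) (r := z0) (by simpa using hz0)
        set t' := proj t + B y t • y with ht'
        have e0 : B z0 t' = 1 := by
          simp only [ht', hproj, map_add, map_smul, S.symm0 h1, S.symm0 h2, S.symm0 h3, smul_zero, add_zero, ht]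
        have e1 : B v t' = 0 := by rw [ht', map_add, map_smul, (hp t).1, hvy, smul_zero, add_zero]
        have e2 : B w t' = 0 := by rw [ht', map_add, map_smul, (hp t).2, hwy, smul_zero, add_zero]
        have e3 : B y t' = 0 := by
          rw [ht', map_add, map_smul, hyp, hyy, smul_eq_mul, mul_one, S.two]
        rcases S.self_val t' with ht'' | ht''
        · obtain ⟨c, hc⟩ := S.trace
          refine ⟨t' + c • z0, ?_, ?_, ?_, ?_⟩
          · rw [map_add, map_smul, e1, h1, smul_zero, add_zero]
          · rw [map_add, map_smul, e2, h2, smul_zero, add_zero]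
          · rw [map_add, map_smul, e3, h3, smul_zero, add_zero]
          · rw [S.herm.add_self, ht'', S.herm.smul_self, hz, map_smul, symm1 S e0, smul_eq_mul,
              mul_one, hc, mul_zero]
            simp
        · exact ⟨t', e1, e2, e3, ht''⟩
      · exact ⟨z0, h1, h2, h3, hz⟩
    have e' : B y (y + e) = 1 := by rw [map_add, hyy, he3, add_zero]
    refine ⟨y + e, ⟨fun h => by rw [h, map_zero] at e'; exact zero_ne_one e', ?_⟩, ?_, ?_, e'⟩
    · rw [S.herm.add_self, hyy, he4, he3, map_zero, add_zero, add_zero, S.two]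
    · rw [map_add, hvy, he1, add_zero]
    · rw [map_add, hwy, he2, add_zero]

/-- A property of isotropic vectors, closed under the hyperbolic lines, holds everywhere as soon as it
holds for the vectors orthogonal to one of two non-orthogonal ones. -/
theorem closed_all {v w : V} (hv : Iso B v) (hw : Iso B w) (hvw : B v w ≠ 0) (P : V → Prop)
    (hperp : ∀ x, Iso B x → (B v x = 0 ∨ B w x = 0) → P x)
    (hcl : ∀ a b, Iso B a → Iso B b → P a → P b → B a b ≠ 0 → P ((T B a).1.1 b)) :
    ∀ x, Iso B x → P x := by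
  suffices H : ∀ w, Iso B w → B v w = 1 → (∀ x, Iso B x → (B v x = 0 ∨ B w x = 0) → P x) →
      ∀ x, Iso B x → P x by
    refine H ((B v w)⁻¹ • w) (hw.smul (inv_ne_zero hvw)) (by rw [map_smul, smul_eq_mul, inv_mul_cancel₀ hvw])
      fun x hx h => hperp x hx (h.imp_right fun h => ?_)
    simpa [hvw] using h
  clear hw hvw hperp w
  intro w hw hvw hperp x hx
  have hwv := symm1 S hvw
  by_cases ha : B w x = 0
  · exact hperp x hx (Or.inr ha)
  by_cases hb : B v x = 0
  · exact hperp x hx (Or.inl hb)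
  set α := B w x with hα
  set β := B v x with hβ
  set y := x + α • v + β • w with hy
  have hvy : B v y = 0 := by
    simp only [hy, map_add, map_smul, hv.2, hvw, smul_zero, add_zero, smul_eq_mul, mul_one, ← hβ]
    linear_combination S.two β
  have hwy : B w y = 0 := by
    simp only [hy, map_add, map_smul, hw.2, hwv, smul_zero, add_zero, smul_eq_mul, mul_one, ← hα]
    linear_combination S.two α
  have hxd : x = α • v + β • w + y := by
    rw [hy, show α • v + β • w + (x + α • v + β • w) = x + (α • v + α • v) + (β • w + β • w) by abel,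
      S.vtwo, S.vtwo, add_zero, add_zero]
  obtain ⟨g, u, hg, hu, hvu, hwu, hval⟩ : ∃ (g : F) (u : V), g ≠ 0 ∧ B u u = 0 ∧ B v u = 0 ∧
      B w u = 0 ∧ g * B u y = α + β := by
    by_cases hab : α + β = 0
    · exact ⟨1, 0, one_ne_zero, by simp, by simp, by simp, by simp [hab]⟩
    have hy0 : y ≠ 0 := by
      intro h0
      have h := hx.2
      rw [hxd, h0, add_zero, S.herm.add_self, S.herm.smul_self, S.herm.smul_self, hv.2, hw.2, mul_zero,
        mul_zero, zero_add, zero_add] at h
      simp only [map_smulₛₗ, LinearMap.smul_apply, map_smul, hvw, smul_eq_mul, mul_one,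
        RingHom.id_apply] at h
      rcases S.fixed (β * σ α) (S.eq_of_add h).symm with h | h
      · exact mul_ne_zero hb (by simpa using ha) h
      · refine hab ?_
        have : α = β := by linear_combination β * S.norm α ha - α * h
        rw [this, S.two]
    obtain ⟨u, hu, h1, h2, h3⟩ := exists_iso_partner S hv.2 hw.2 hvw hy0 hvy hwy
    exact ⟨α + β, u, hab, hu.2, h1, h2, by rw [symm1 S h3, mul_one]⟩
  set a := g • v + u with ha'
  have hva : B v a = 0 := by rw [ha', map_add, map_smul, hv.2, hvu, smul_zero, add_zero]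
  have hwa : B w a = g := by rw [ha', map_add, map_smul, hwv, hwu, add_zero, smul_eq_mul, mul_one]
  have hiso : Iso B a := ⟨fun h => hg (by rw [← hwa, h, map_zero]),
    iso_add S (by simp [hv.2]) hu (by simp [hvu])⟩
  have hax : B a x = σ g * β + B u y := by
    conv_lhs => rw [ha', hxd]
    simp only [map_add, LinearMap.add_apply, map_smulₛₗ, LinearMap.smul_apply, hv.2, hvy, hvw,
      S.symm0 hvu, S.symm0 hwu, smul_eq_mul, map_smul, RingHom.id_apply]
    ring
  have hga : B a x * g = α := by
    rw [hax]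
    linear_combination β * S.norm g hg + hval + S.two β
  have hane : B a x ≠ 0 := fun h => ha (by rw [← hga, h, zero_mul])
  set b := (T B a).1.1 x with hbdef
  have hwb : B w b = 0 := by
    rw [hbdef, T_apply S hiso.2, map_add, map_smul, hwa, smul_eq_mul, hga, ← hα, S.two]
  have hxe : x = (T B a).1.1 b := by
    rw [hbdef, ← mul_apply_U, T_sq S hiso.2]; rfl
  rw [hxe]
  refine hcl a b hiso (hx.map _) (hperp a hiso (Or.inl hva)) (hperp b (hx.map _) (Or.inr hwb)) ?_
  rw [hbdef, T_apply S hiso.2, map_add, map_smul, hiso.2, smul_zero, add_zero]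
  exact hane

end CfsgLib.ThreeTransp.UnitaryRadical
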