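import Cfsg.Agent.Lib.ThreeTransp.UnitaryRadical.Stab

/-!
# Odd index and transfer

A subgroup of the vector stabiliser containing the kernel on the orthogonal part and of odd index
there has odd index in the special group; with the transfer this gives the triviality of the
extension from a local condition.
-/

set_option autoImplicit false
set_option linter.unusedSectionVars false

namespace CfsgLib.ThreeTransp.UnitaryRadical

open Module CfsgLib.Classical
open CfsgLib.ThreeTransp.UnitarySix (Setting tv tv_apply)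
open scoped commutatorElement

/-- An involution of a finite set preserves the parity up to fixed points. -/
theorem ncard_parity {α : Type*} [Finite α] (s : Set α) (f : α → α)
    (hf : ∀ x ∈ s, f x ∈ s ∧ f (f x) = x) : s.ncard % 2 = {x ∈ s | f x = x}.ncard % 2 := by
  classical
  have : Fact (Nat.Prime 2) := ⟨Nat.prime_two⟩
  have : Fintype s := Fintype.ofFinite _
  let φ : Function.End s := fun x => ⟨f x.1, (hf x.1 x.2).1⟩
  have h1 : φ ^ 2 ^ 1 = 1 := funext fun x => Subtype.ext (hf x.1 x.2).2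
  have h := Equiv.Perm.card_fixedPoints_modEq h1
  rw [← Nat.card_eq_fintype_card, ← Nat.card_eq_fintype_card] at h
  rw [← Nat.card_coe_set_eq, ← Nat.card_coe_set_eq, h, Nat.card_congr (β := {x ∈ s | f x = x})]
  exact {
    toFun := fun x => ⟨x.1.1, x.1.2, congrArg Subtype.val x.2⟩
    invFun := fun x => ⟨⟨x.1, x.2.1⟩, Subtype.ext x.2.2⟩
    left_inv := fun x => rfl
    right_inv := fun x => rfl }

theorem dvd_three_odd {n : ℕ} (h : n ∣ 3) : n % 2 = 1 := by
  have h3 := Nat.le_of_dvd (by norm_num) h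
  interval_cases n <;> omega

variable {F : Type*} [Field F] [Finite F] {V : Type*} [AddCommGroup V] [Module F V]
  [FiniteDimensional F V] {σ : F →+* F} {B : V →ₛₗ[σ] V →ₗ[F] F}
  (S : Setting B)
include S

theorem units_dvd_three (H : Subgroup Fˣ) : Nat.card H ∣ 3 := by
  obtain ⟨w, hw, hs, -, hw0, hw1, hw2⟩ := exists_omega S
  have : Fintype F := Fintype.ofFinite F
  have hu : Nat.card Fˣ = 3 := by
    classical
    have e : (Finset.univ : Finset Fˣ) = {1, Units.mk0 w hw0, Units.mk0 (w + 1) hw2} := by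
      refine (Finset.eq_univ_iff_forall.2 fun l => ?_).symm
      rcases S.field_three (show w + σ w = 1 by rw [hs, ← add_assoc, S.two, zero_add]) l.ne_zero with h | h | h
      · simp [show l = 1 from Units.ext h]
      · simp [show l = Units.mk0 w hw0 from Units.ext h]
      · simp [show l = Units.mk0 (w + 1) hw2 from Units.ext h]
    rw [Nat.card_eq_fintype_card, ← Finset.card_univ, e]
    refine Finset.card_eq_three.2 ⟨1, Units.mk0 w hw0, Units.mk0 (w + 1) hw2, ?_, ?_, ?_, rfl⟩
    all_goals intro h; have := congrArg Units.val h; simp at this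
    all_goals grind
  exact hu ▸ H.card_subgroup_dvd_card

/-- The stabiliser of an isotropic vector has odd index. -/
theorem vecStab_index_odd {e f : V} (hp : Pair B e f) : Odd (vecStab B e).index := by
  classical
  obtain ⟨he, -, hfe⟩ := hp.iso S
  have : Finite V := Module.finite_of_finite F
  have hst : vecStab B e = MulAction.stabilizer ↥(sIsom B) e := Subgroup.ext fun g => Iff.rfl
  rw [hst, MulAction.index_stabilizer, Nat.odd_iff]
  set O := MulAction.orbit ↥(sIsom B) e
  have hmem : ∀ (g : ↥(sIsom B)) x, x ∈ O → g.1.1 x ∈ O := fun g x hx => MulAction.mem_orbit_of_mem_orbit g hx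
  have hiso : ∀ x ∈ O, Iso B x := by
    rintro _ ⟨g, rfl⟩
    exact he.map g
  have h1 := ncard_parity O (fun x => (T B e).1.1 x) fun x hx =>
    ⟨hmem _ x hx, by rw [← mul_apply_U, T_sq S hp.he]; rfl⟩
  rw [h1]
  have h2 : {x ∈ O | (T B e).1.1 x = x} = {x ∈ O | B e x = 0} := Set.ext fun x => by
    simp only [Set.mem_setOf_eq, and_congr_right_iff]
    intro _
    rw [T_apply S hp.he, add_eq_left, smul_eq_zero]
    simp [he.1]
  rw [h2]
  have hshift : ∀ x ∈ O, B e x = 0 → (∀ k : F, x ≠ k • e) → x + e ∈ O := by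
    intro x hx hex hne
    have hy := mem_perp2.1 (proj_mem S hp x)
    set y := x + B f x • e + B e x • f with hydef
    have hy0 : y ≠ 0 := by
      intro h0
      refine hne (B f x) ?_
      rw [hydef, hex, zero_smul, add_zero] at h0
      exact S.veq_of_add h0
    obtain ⟨u, hu, hu1, hu2, hu3⟩ := exists_iso_partner S hp.he hp.hf hp.hef hy0 hy.1 hy.2
    have hne' : ∀ k : F, u ≠ k • e := fun k hk => by
      have h3 := hu2
      rw [hk, map_smul, hfe, smul_eq_mul, mul_one] at h3
      exact hu.1 (by rw [hk, h3, zero_smul])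
    have hux : B u x = 1 := by
      have h3 := symm1 S hu3
      simp only [hydef, map_add, map_smul, S.symm0 hu1, S.symm0 hu2, smul_zero, add_zero] at h3
      exact h3
    have hi := hu.line he (S.symm0 hu1) hu1 hne' 1
    have : (T B u * T B (u + (1 : F) • e)).1.1 x = x + e := by
      rw [mul_apply_U, T_apply S hi.2, T_apply S hu.2]
      simp [hux, hex, hu.2, S.symm0 hu1]
      rw [show x + (u + e) + u = x + e + (u + u) by abel, S.vtwo, add_zero]
    rw [← this]
    exact hmem _ x hx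
  have h3 := ncard_parity {x ∈ O | B e x = 0} (fun x => if ∀ k : F, x ≠ k • e then x + e else x) (by
    rintro x ⟨hx, hex⟩
    by_cases hne : ∀ k : F, x ≠ k • e
    · have hne' : ∀ k : F, x + e ≠ k • e := fun k hk => hne (k + 1) (by
        rw [add_smul, one_smul, ← hk, add_assoc, S.vtwo, add_zero])
      simp only [if_pos hne, if_pos hne']
      exact ⟨⟨hshift x hx hex hne, by rw [map_add, hex, hp.he, add_zero]⟩, by rw [add_assoc, S.vtwo, add_zero]⟩
    · simp only [if_neg hne]
      exact ⟨⟨hx, hex⟩, trivial⟩)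
  rw [h3]
  have h4 : {x ∈ {x ∈ O | B e x = 0} | (if ∀ k : F, x ≠ k • e then x + e else x) = x}
      = {x ∈ O | ∃ k : F, x = k • e} := Set.ext fun x => by
    simp only [Set.mem_setOf_eq]
    constructor
    · rintro ⟨⟨hx, -⟩, h⟩
      refine ⟨hx, ?_⟩
      by_contra hcon
      push Not at hcon
      rw [if_pos hcon, add_eq_left] at h
      exact he.1 h
    · rintro ⟨hx, k, rfl⟩
      refine ⟨⟨hx, by simp [hp.he]⟩, ?_⟩
      rw [if_neg (fun h => h k rfl)]
  rw [h4]
  let H : Subgroup Fˣ := {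
    carrier := {l | ∃ g : ↥(sIsom B), g.1.1 e = (l : F) • e}
    one_mem' := ⟨1, by simp [one_apply_U]⟩
    mul_mem' := by
      rintro a b ⟨g, hg⟩ ⟨g', hg'⟩
      exact ⟨g * g', by rw [mul_apply_U, hg', map_smul, hg, smul_smul, Units.val_mul, mul_comm]⟩
    inv_mem' := by
      rintro a ⟨g, hg⟩
      refine ⟨g⁻¹, ?_⟩
      have e1 := inv_apply_U g e
      rw [hg, map_smul] at e1
      conv_rhs => rw [← e1, smul_smul, Units.inv_mul, one_smul] }
  have hnz : ∀ l : Fˣ, l ∈ H → (l : F) • e ∈ O := fun l ⟨g, hg⟩ => hg ▸ ⟨g, rfl⟩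
  have e5 : Nat.card H = {x ∈ O | ∃ k : F, x = k • e}.ncard := by
    rw [← Nat.card_coe_set_eq]
    refine Nat.card_congr (Equiv.ofBijective (fun l => ⟨((l : Fˣ) : F) • e, hnz _ l.2, _, rfl⟩) ⟨?_, ?_⟩)
    · intro a b hab
      exact Subtype.ext (Units.ext (smul_left_injective F he.1 (congrArg Subtype.val hab)))
    · rintro ⟨x, hx, k, rfl⟩
      have hk : k ≠ 0 := fun h => (hiso _ hx).1 (by rw [h, zero_smul])
      obtain ⟨g, hg⟩ := hx
      exact ⟨⟨Units.mk0 k hk, g, hg⟩, rfl⟩
  rw [← e5]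
  exact dvd_three_odd (units_dvd_three S H)

theorem index_odd {e f : V} (hp : Pair B e f) {K : Subgroup ↥(sIsom B)} (hle : K ≤ vecStab B e)
    (hker : ∀ g : ↥(vecStab B e), psi S hp g = 1 → g.1 ∈ K)
    (hodd : Odd ((K.subgroupOf (vecStab B e)).map (psi S hp)).index) : Odd K.index := by
  rw [← Subgroup.relIndex_mul_index hle]
  refine Odd.mul (Odd.of_dvd_nat hodd ?_) (vecStab_index_odd S hp)
  show (K.subgroupOf (vecStab B e)).index ∣ _
  rw [Subgroup.index_map, sup_of_le_left (fun g hg => Subgroup.mem_subgroupOf.2 (hker g (MonoidHom.mem_ker.1 hg)))]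
  exact dvd_mul_right _ _

variable {E : Type*} [Group E] (X : Ext B E)

include X in
/-- The group is perfect. -/
theorem ext_perfect : commutator E = ⊤ := by
  have hab : ∀ v w, Iso B v → Iso B w → B v w ≠ 0 →
      Abelianization.of (X.L v) = Abelianization.of (X.L w) := by
    intro v w hv hw h
    obtain ⟨c, hc, e⟩ := braid_point S hv.2 hw.2 h
    have h1 := X.conj (X.L v) w hw
    have h2 := X.conj (X.L w) v hv
    rw [X.proj v hv, e, X.smul _ c (hv.map _) hc] at h1
    rw [X.proj w hw] at h2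
    have h3 := congrArg Abelianization.of (h1.trans h2.symm)
    simp only [map_mul, map_inv, mul_inv_cancel_comm] at h3
    exact h3.symm
  have hall : ∀ v w, Iso B v → Iso B w → Abelianization.of (X.L v) = Abelianization.of (X.L w) := by
    intro v w hv hw
    by_cases h : B v w = 0
    · obtain ⟨z, hz, h1, h2⟩ := S.exists_both hv.2 hw.2 h hv.1 hw.1
      have hzi : Iso B z := ⟨fun e => h1 (by rw [e, map_zero]), hz⟩
      exact (hab v z hv hzi h1).trans (hab w z hw hzi h2).symm
    · exact hab v w hv hw h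
  obtain ⟨w, hw, hs, -, -, -, -⟩ := exists_omega S
  have hone : ∀ v, Iso B v → Abelianization.of (X.L v) = 1 := by
    intro v hv
    obtain ⟨t, -, hvt⟩ := S.exists_dual (W := ⊥) (r := v) (by simpa using hv.1)
    obtain ⟨a, ha⟩ := S.exists_iso hv.2 hvt
    have hvf : B v (t + a • v) = 1 := by rw [map_add, map_smul, hv.2, hvt, smul_zero, add_zero]
    have hp : Pair B v (t + a • v) := ⟨hv.2, ha, hvf⟩
    obtain ⟨z, hz, hz1, hz2, -⟩ := S.exists_perp v (t + a • v) v
    obtain ⟨u, hu, hu1, hu2, -⟩ := exists_iso_partner S hp.he hp.hf hp.hef hz hz1 hz2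
    have hne : ∀ c : F, u ≠ c • v := fun c hc => by
      have h3 := hu2
      rw [hc, map_smul, (hp.iso S).2.2, smul_eq_mul, mul_one] at h3
      exact hu.1 (by rw [hc, h3, zero_smul])
    have hi := fun c => hu.line hv (S.symm0 hu1) hu1 hne c
    have hi1 := hi 1
    rw [one_smul] at hi1
    have h5 := congrArg Abelianization.of (X.five u v hu hv (S.symm0 hu1) hne w hw hs)
    simp only [map_mul, map_one, hall u v hu hv, hall _ v hi1 hv, hall _ v (hi w) hv, hall _ v (hi (w + 1)) hv] at h5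
    have h2 : Abelianization.of (X.L v) * Abelianization.of (X.L v) = 1 := by
      rw [← map_mul, X.sq v hv, map_one]
    rwa [h2, mul_one, h2, mul_one] at h5
  rw [eq_top_iff, ← X.gen, Subgroup.closure_le]
  rintro _ ⟨v, hv, rfl⟩
  rw [SetLike.mem_coe, ← Abelianization.ker_of, MonoidHom.mem_ker]
  exact hone v hv

/-- Transfer: a subgroup of odd index whose commutators miss the kernel forces injectivity. -/
theorem injective_of_odd [Finite E] (P : Subgroup E) (hodd : Odd P.index)
    (h : ∀ z, z ∈ ⁅P, P⁆ → X.π z = 1 → z = 1) : Function.Injective X.π := by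
  rw [injective_iff_map_eq_one]
  intro z hz
  set V' := MonoidHom.transfer (Abelianization.of (G := ↥P))
  have hkey : ∀ (k : ℕ) (g₀ : E), g₀⁻¹ * z ^ k * g₀ ∈ P → g₀⁻¹ * z ^ k * g₀ = z ^ k := fun k g₀ _ => by
    rw [mul_assoc, ((X.central z hz g₀).symm.pow_left k).eq, inv_mul_cancel_left]
  have h1 : V' z = 1 := by
    have hm : z ∈ commutator E := by rw [ext_perfect S X]; trivial
    exact MonoidHom.mem_ker.1 (Abelianization.commutator_subset_ker V' hm)
  rw [MonoidHom.transfer_eq_pow _ z hkey, ← MonoidHom.mem_ker, Abelianization.ker_of] at h1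
  have h2 : z ^ P.index ∈ ⁅P, P⁆ := by
    have := Subgroup.mem_map_of_mem P.subtype h1
    rwa [commutator_def, Subgroup.map_commutator, ← MonoidHom.range_eq_map, Subgroup.range_subtype] at this
  have h3 := h _ h2 (by rw [map_pow, hz, one_pow])
  obtain ⟨k, hk⟩ := X.two z hz
  have hord : orderOf z ∣ Nat.gcd (2 ^ k) P.index :=
    Nat.dvd_gcd (orderOf_dvd_of_pow_eq_one hk) (orderOf_dvd_of_pow_eq_one h3)
  rw [Nat.Coprime.pow_left k (Nat.coprime_two_left.2 hodd), Nat.dvd_one, orderOf_eq_one_iff] at hord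
  exact hord

/-- The criterion: a subgroup fixing the hyperbolic pair, with commutators missing the kernel, and of
odd index in the isometries of the orthogonal part. -/
theorem injective_of_local [Finite E] {e f : V} (hp : Pair B e f) (M : Subgroup E)
    (hMe : ∀ x ∈ M, (X.π x).1.1 e = e) (hMf : ∀ x ∈ M, (X.π x).1.1 f = f)
    (hMc : ∀ z ∈ ⁅M, M⁆, X.π z = 1 → z = 1)
    (hQ : ∀ z ∈ Qhat X e, X.π z = 1 → z = 1)
    (hodd : Odd (((M.map X.π).subgroupOf (vecStab B e)).map (psi S hp)).index) :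
    Function.Injective X.π := by
  obtain ⟨he, -, -⟩ := hp.iso S
  set Q := Qhat X e
  set K := Q.map X.π ⊔ M.map X.π with hK
  have hKle : K ≤ vecStab B e := sup_le
    (Subgroup.map_le_iff_le_comap.2 fun x hx => Qhat_fix S X he hx)
    (Subgroup.map_le_iff_le_comap.2 fun x hx => hMe x hx)
  have hKodd : Odd K.index := by
    refine index_odd S hp hKle (fun g hg => Subgroup.mem_sup_left (ker_psi_le S X hp g hg)) (Odd.of_dvd_nat hodd ?_)
    exact Subgroup.index_dvd_of_le (Subgroup.map_mono (Subgroup.comap_mono le_sup_right))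
  refine injective_of_odd S X (K.comap X.π) (by rwa [Subgroup.index_comap_of_surjective _ X.surj]) ?_
  have hnorm : ∀ m ∈ M, ∀ q ∈ Q, m * q * m⁻¹ ∈ Q := fun m hm q hq =>
    Qhat_conj S X he one_ne_zero (by rw [one_smul]; exact hMe m hm) hq
  have hMn : M ≤ Subgroup.normalizer (Q : Set E) := fun m hm => by
    refine Subgroup.mem_set_normalizer_iff.2 fun x => ⟨fun hx => hnorm m hm x hx, fun hx => ?_⟩
    have h4 := hnorm m⁻¹ (inv_mem hm) _ hx
    rw [show m⁻¹ * (m * x * m⁻¹) * m⁻¹⁻¹ = x by group] at h4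
    exact h4
  have hdec : ∀ a ∈ K.comap X.π, ∃ c, X.π c = 1 ∧ ∃ q ∈ Q, ∃ m ∈ M, a = c * (q * m) := by
    intro a ha
    rw [Subgroup.mem_comap, hK, ← Subgroup.map_sup] at ha
    obtain ⟨b, hb, hb'⟩ := ha
    have hb2 : b ∈ ((Q ⊔ M : Subgroup E) : Set E) := hb
    rw [Subgroup.coe_mul_of_right_le_normalizer_left Q M hMn] at hb2
    obtain ⟨q, hq, m, hm, hqm⟩ := hb2
    refine ⟨a * b⁻¹, by rw [map_mul, map_inv, hb', mul_inv_cancel], q, hq, m, hm, ?_⟩
    rw [show q * m = b from hqm, inv_mul_cancel_right]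
  let P : Subgroup E := Q ⊔ ⁅M, M⁆
  have hCle : ⁅M, M⁆ ≤ M := Subgroup.commutator_le.2 fun a ha b hb => by
    rw [commutatorElement_def]; exact mul_mem (mul_mem (mul_mem ha hb) (inv_mem ha)) (inv_mem hb)
  intro z hz hz1
  have hle : ⁅K.comap X.π, K.comap X.π⁆ ≤ P := by
    refine Subgroup.commutator_le.2 fun a ha b hb => ?_
    obtain ⟨c, hc, q, hq, m, hm, rfl⟩ := hdec a ha
    obtain ⟨c', hc', q', hq', m', hm', rfl⟩ := hdec b hb
    have e1 : ⁅c * (q * m), c' * (q' * m')⁆ = ⁅q * m, q' * m'⁆ := by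
      rw [commutatorElement_def, commutatorElement_def, mul_inv_rev c, mul_inv_rev c']
      calc c * (q * m) * (c' * (q' * m')) * ((q * m)⁻¹ * c⁻¹) * ((q' * m')⁻¹ * c'⁻¹)
          = c * ((q * m) * c') * (q' * m') * (q * m)⁻¹ * (c⁻¹ * (q' * m')⁻¹) * c'⁻¹ := by group
        _ = c * (c' * (q * m)) * (q' * m') * (q * m)⁻¹ * ((q' * m')⁻¹ * c⁻¹) * c'⁻¹ := by
            rw [(X.central c' hc' (q * m)).eq, ((X.central c hc (q' * m')⁻¹).inv_right).eq]
        _ = (c * c') * ((q * m) * (q' * m') * (q * m)⁻¹ * (q' * m')⁻¹) * (c⁻¹ * c'⁻¹) := by group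
        _ = ((q * m) * (q' * m') * (q * m)⁻¹ * (q' * m')⁻¹) * ((c * c') * (c⁻¹ * c'⁻¹)) := by
            rw [← (X.central (c * c') (by rw [map_mul, hc, hc', mul_one]) _).eq, mul_assoc]
        _ = _ := by
            rw [show c⁻¹ * c'⁻¹ = (c' * c)⁻¹ from (mul_inv_rev c' c).symm, (X.central c hc c').eq,
              mul_inv_cancel, mul_one]
    rw [e1, show ⁅q * m, q' * m'⁆ = q * (m * q' * m⁻¹) * ((m * m' * m⁻¹) * q⁻¹ * (m * m' * m⁻¹)⁻¹) *
      (⁅m, m'⁆ * q'⁻¹ * ⁅m, m'⁆⁻¹) * ⁅m, m'⁆ by simp only [commutatorElement_def]; group]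
    have hmm : ⁅m, m'⁆ ∈ ⁅M, M⁆ := Subgroup.commutator_mem_commutator hm hm'
    refine mul_mem (mul_mem (mul_mem (mul_mem (Subgroup.mem_sup_left hq) ?_) ?_) ?_) (Subgroup.mem_sup_right hmm)
    · exact Subgroup.mem_sup_left (hnorm m hm q' hq')
    · exact Subgroup.mem_sup_left (hnorm _ (mul_mem (mul_mem hm hm') (inv_mem hm)) _ (inv_mem hq))
    · exact Subgroup.mem_sup_left (hnorm _ (hCle hmm) _ (inv_mem hq'))
  have hzP : z ∈ ((Q ⊔ ⁅M, M⁆ : Subgroup E) : Set E) := hle hz
  rw [Subgroup.coe_mul_of_right_le_normalizer_left Q ⁅M, M⁆ (hCle.trans hMn)] at hzP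
  obtain ⟨q, hq, x, hx, rfl⟩ := hzP
  change X.π (q * x) = 1 at hz1
  rw [map_mul, mul_eq_one_iff_eq_inv] at hz1
  have hqf : (X.π q).1.1 f = f := by
    rw [hz1, ← map_inv]; exact hMf _ (inv_mem (hCle hx))
  have hq1 : X.π q = 1 := by
    obtain ⟨y0, a, h1, h2, hgf, hgy⟩ := psi_one_apply S hp _ (Qhat_psi S X hp hq)
    refine ext_pair S hp ((Qhat_fix S X he hq).trans rfl) (hqf.trans rfl) fun y i1 i2 => ?_
    have e0 := pres_U (X.π q) f y
    have e3 := hgy y i1 i2
    change (X.π q).1.1 y = _ at e3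
    rw [hqf, e3, map_add, i2, map_smul, (hp.iso S).2.2, zero_add, smul_eq_mul, mul_one] at e0
    rw [e3, e0, zero_smul, add_zero]
    rfl
  have hqe : q = 1 := hQ q hq hq1
  subst hqe
  have hx1 : x = 1 := hMc x hx (by rw [← inv_eq_one, ← hz1, map_one])
  show 1 * x = 1
  rw [hx1, one_mul]

end CfsgLib.ThreeTransp.UnitaryRadical
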