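import Cfsg.Agent.Lib.ThreeTransp.UnitaryRadical.Cases
import Cfsg.Agent.Lib.ThreeTransp.Basic

/-!
# The radical is elementary abelian

A group generated by a class of 3-transpositions, with trivial centre, mapping onto a unitary group of
degree five or seven over the field with four elements with kernel a 2-group: the kernel is elementary
abelian.
-/

set_option autoImplicit false
set_option linter.unusedSectionVars false

namespace CfsgLib.ThreeTransp.UnitaryRadical

open Module CfsgLib.Classical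
open CfsgLib.ThreeTransp.UnitarySix (Setting tv tv_apply)
open scoped commutatorElement

variable {F : Type*} [Field F] [Finite F] {V : Type*} [AddCommGroup V] [Module F V]
  [FiniteDimensional F V] {σ : F →+* F}

/-- The data of a two-radical extension. -/
structure Rad (B : V →ₛₗ[σ] V →ₗ[F] F) (G : Type*) [Group G] where
  π : G →* ↥(sIsom B)
  D : Set G
  surj : Function.Surjective π
  cls : Cfsg.IsThreeTranspositionClass D
  centre : Subgroup.center G = ⊥
  two : IsPGroup 2 π.ker

variable {B : V →ₛₗ[σ] V →ₗ[F] F} {G : Type*} [Group G]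

/-- A member over the transvection of a vector. -/
def Rad.Lift (R : Rad B G) (v : V) (d : G) : Prop := d ∈ R.D ∧ R.π d = T B v

/-- The products of two lifts of one transvection. -/
def Rad.pairs (R : Rad B G) : Set G := {x | ∃ v d d', Iso B v ∧ R.Lift v d ∧ R.Lift v d' ∧ x = d * d'}

/-- The subgroup generated by the products of two lifts. -/
def Rad.span (R : Rad B G) : Subgroup G := Subgroup.closure R.pairs

/-- The part of the kernel centralising the span. -/
noncomputable def Rad.inner (R : Rad B G) : Subgroup G := R.π.ker ⊓ Subgroup.centralizer (R.span : Set G)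

variable (S : Setting B) (R : Rad B G)
include S

theorem iso_of_lift_eq {v w : V} (hv : Iso B v) (hw : Iso B w) (h : T B v = T B w) :
    ∀ x, B v x = 0 ↔ B w x = 0 := by
  obtain ⟨c, hc, rfl⟩ := T_inj S hv hw h
  intro x
  simp [hc]

theorem lift_sq {v : V} {d : G} (hd : R.Lift v d) : d * d = 1 := Basic.sq_one (R.cls.1.1 d hd.1)

theorem lift_inv {v : V} {d : G} (hd : R.Lift v d) : d⁻¹ = d := Basic.inv_self (R.cls.1.1 d hd.1)

theorem exists_tv {d : G} (hd : d ∈ R.D) : ∃ v, Iso B v ∧ R.π d = T B v := by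
  have hd2 : R.π d * R.π d = 1 := by rw [← map_mul, Basic.sq_one (R.cls.1.1 d hd), map_one]
  have hd1 : R.π d ≠ 1 := by
    intro h
    obtain ⟨e, f, hp⟩ := exists_pair S
    obtain ⟨g, hg⟩ := R.surj (T B e)
    have htop : ∀ g, R.π g = 1 := by
      intro g
      have hg : g ∈ Subgroup.closure R.D := by rw [R.cls.2.2]; trivial
      induction hg using Subgroup.closure_induction with
      | mem x hx =>
        obtain ⟨k, rfl⟩ := Basic.class_conj R.cls hd hx
        rw [map_mul, map_mul, h, mul_one, ← map_mul, mul_inv_cancel, map_one]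
      | one => exact map_one _
      | mul p q _ _ ihp ihq => rw [map_mul, ihp, ihq, mul_one]
      | inv p _ ihp => rw [map_inv, ihp, inv_one]
    exact T_ne_one S (hp.iso S).1 (by rw [← hg]; exact htop g)
  rcases S.involution_cases (R.π d).1.1.toLinearMap (fun x y => pres_U (R.π d) x y)
    (fun x => by show (R.π d * R.π d).1.1 x = x; rw [hd2]; rfl) with h | ⟨v, hv0, hv, h⟩ | ⟨z, w, hz, hw, hzw, hbad⟩
  · exact absurd (ext_U h) hd1
  · exact ⟨v, ⟨hv0, hv⟩, ext_U fun x => (h x).trans (by rw [tv_apply, T_apply S hv])⟩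
  obtain ⟨k, hk⟩ := R.surj (T B z * T B w)
  have hkinv : (T B z * T B w)⁻¹ = T B z * T B w := by
    rw [mul_inv_rev, T_inv S hz, T_inv S hw]
    exact ((T_commute_iff S hz hw).2 hzw).eq.symm
  have hprod : R.π (d * (k * d * k⁻¹)) = (R.π d * (T B z * T B w)) ^ 2 := by
    rw [map_mul, map_mul, map_mul, map_inv, hk, hkinv, pow_two]
    simp only [mul_assoc]
  have happly : ∀ x, (R.π d * (T B z * T B w)).1.1 x = (R.π d).1.1 (tv B z (tv B w x)) := fun x => by
    rw [mul_apply_U, mul_apply_U, T_apply S hw, T_apply S hz, tv_apply, tv_apply]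
  have hiter : ∀ (g : ↥(sIsom B)) (n : ℕ) x, (g ^ n).1.1 x = (fun y => g.1.1 y)^[n] x := by
    intro g n
    induction n with
    | zero => intro x; rfl
    | succ n ih =>
      intro x
      rw [pow_succ', Function.iterate_succ_apply', ← ih]
      rfl
  have hd' := (Basic.class_isGroup R.cls).2.1 k d hd
  rcases R.cls.1.2 d hd _ hd' with h | h <;>
    [obtain ⟨x, hx⟩ := (hbad 1).1; obtain ⟨x, hx⟩ := (hbad 1).2] <;>
    refine absurd ?_ hx <;>
    have h1 := congrArg (fun g => (R.π g).1.1 x) h <;>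
    simp only [map_pow, hprod, ← pow_mul, map_one, one_apply_U, hiter, happly] at h1 <;>
    rw [one_smul] <;> exact h1

theorem lift_conj {v : V} {d : G} (hv : Iso B v) (hd : R.Lift v d) (g : G) :
    R.Lift ((R.π g).1.1 v) (g * d * g⁻¹) :=
  ⟨(Basic.class_isGroup R.cls).2.1 g d hd.1, by rw [map_mul, map_mul, map_inv, hd.2, T_conj S hv.2]⟩

theorem exists_lift {v : V} (hv : Iso B v) : ∃ d, R.Lift v d := by
  obtain ⟨d0, hd0, -⟩ := R.cls.2.1
  obtain ⟨u, hu, hdu⟩ := exists_tv S R hd0
  have hmove : ∀ {v w : V} {d : G}, Iso B v → R.Lift v d → Iso B w → B v w ≠ 0 → ∃ d', R.Lift w d' := by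
    intro v w d hv hd hw hvw
    obtain ⟨g, hg⟩ := R.surj (T B v * T B w)
    obtain ⟨c, hc, e⟩ := S.braid_move hv.2 hw.2 hvw
    have h1 := lift_conj S R hv hd g
    rw [hg, mul_apply_U, T_apply S hw.2, T_apply S hv.2, ← tv_apply, ← tv_apply, e] at h1
    exact ⟨_, h1.1, h1.2.trans (T_smul S hw.2 hc)⟩
  by_cases h : B u v = 0
  · obtain ⟨z, hz, h1, h2⟩ := S.exists_both hu.2 hv.2 h hu.1 hv.1
    have hzi : Iso B z := ⟨fun e => h1 (by rw [e, map_zero]), hz⟩
    obtain ⟨d1, hd1⟩ := hmove hu ⟨hd0, hdu⟩ hzi h1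
    exact hmove hzi hd1 hv fun e => h2 (S.symm0 e)
  · exact hmove hu ⟨hd0, hdu⟩ hv h

theorem commute_lifts {v w : V} {d e : G} (hv : Iso B v) (hw : Iso B w) (hd : R.Lift v d) (he : R.Lift w e)
    (h : B v w = 0) : Commute d e := by
  rcases Basic.mul_cases R.cls.1 hd.1 he.1 with hc | h3
  · exact hc
  have h3' : (d * e) ^ 3 = 1 := by rw [← h3]; exact pow_orderOf_eq_one _
  have h1 : (T B v * T B w) ^ 3 = 1 := by rw [← hd.2, ← he.2, ← map_mul, ← map_pow, h3', map_one]
  have h2 : (T B v * T B w) * (T B v * T B w) = 1 := by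
    rw [mul_assoc, ← mul_assoc (T B w), ((T_commute_iff S hw.2 hv.2).2 (S.symm0 h)).eq, mul_assoc, T_sq S hw.2,
      mul_one, T_sq S hv.2]
  have hker : d * e ∈ R.π.ker := by
    rw [MonoidHom.mem_ker, map_mul, hd.2, he.2]
    rwa [pow_succ, pow_two, h2, one_mul] at h1
  obtain ⟨k, hk⟩ := R.two ⟨_, hker⟩
  have hk' : (d * e) ^ (2 ^ k) = 1 := congrArg Subtype.val hk
  have := Nat.dvd_gcd (orderOf_dvd_of_pow_eq_one hk') (h3 ▸ dvd_rfl : orderOf (d * e) ∣ 3)
  rw [Nat.Coprime.pow_left k (show Nat.Coprime 2 3 by norm_num), h3] at this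
  norm_num at this

theorem cube_lifts {v w : V} {d e : G} (hv : Iso B v) (hw : Iso B w) (hd : R.Lift v d) (he : R.Lift w e)
    (h : B v w ≠ 0) : (d * e) ^ 3 = 1 := by
  rcases Basic.mul_cases R.cls.1 hd.1 he.1 with hc | h3
  · exact absurd ((T_commute_iff S hv.2 hw.2).1 (by rw [← hd.2, ← he.2]; exact hc.map R.π)) h
  · rw [← h3]; exact pow_orderOf_eq_one _

/-- An element commuting with the lifts orthogonal to one of two non-orthogonal vectors is trivial. -/
theorem eq_one_of_commute {x : G} {v w : V} (hv : Iso B v) (hw : Iso B w) (h : B v w ≠ 0)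
    (hperp : ∀ u c, Iso B u → (B v u = 0 ∨ B w u = 0) → R.Lift u c → Commute x c) : x = 1 := by
  have hall := closed_all S hv hw h (fun u => ∀ c, R.Lift u c → Commute x c)
    (fun u hu h c hc => hperp u c hu h hc) (fun a b ha hb pa pb _ c hc => by
      obtain ⟨da, hda⟩ := exists_lift S R ha
      have h1 := lift_conj S R (hb.map _) hc da
      rw [hda.2, ← mul_apply_U, T_sq S ha.2, one_apply_U] at h1
      have h2 := pb _ h1
      have h3 := ((pa da hda).inv_right.mul_right h2).mul_right (pa da hda)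
      rwa [mul_assoc da c, inv_mul_cancel_left, inv_mul_cancel_right] at h3)
  have hmem : x ∈ Subgroup.center G := by
    rw [Subgroup.mem_center_iff]
    intro g
    have hg : g ∈ Subgroup.closure R.D := by rw [R.cls.2.2]; trivial
    induction hg using Subgroup.closure_induction with
    | mem y hy =>
      obtain ⟨u, hu, hyu⟩ := exists_tv S R hy
      exact (hall u hu y ⟨hy, hyu⟩).eq.symm
    | one => rw [one_mul, mul_one]
    | mul p q _ _ ihp ihq => exact ((Commute.mul_right (a := x) (b := p) (c := q) ihp.symm ihq.symm).eq).symm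
    | inv p _ ihp => exact ((Commute.inv_right (a := x) (b := p) ihp.symm).eq).symm
  rw [R.centre, Subgroup.mem_bot] at hmem
  exact hmem

theorem pair_ker {v : V} {d d' : G} (hv : Iso B v) (hd : R.Lift v d) (hd' : R.Lift v d') :
    R.π (d * d') = 1 ∧ d * d' * (d * d') = 1 := by
  refine ⟨by rw [map_mul, hd.2, hd'.2, T_sq S hv.2], ?_⟩
  rw [mul_assoc, ← mul_assoc d', (commute_lifts S R hv hv hd' hd hv.2).eq, mul_assoc, lift_sq S R hd', mul_one,
    lift_sq S R hd]

/-- The products of two lifts commute. -/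
theorem pairs_commute : ∀ a ∈ R.pairs, ∀ b ∈ R.pairs, Commute a b := by
  rintro a ⟨v, d, d', hv, hd, hd', rfl⟩ b ⟨w, e, e', hw, he, he', rfl⟩
  by_cases h : B v w = 0
  · exact ((commute_lifts S R hv hw hd he h).mul_left (commute_lifts S R hv hw hd' he h)).mul_right
      ((commute_lifts S R hv hw hd he' h).mul_left (commute_lifts S R hv hw hd' he' h))
  set a := d * d' with ha
  set b := e * e' with hb
  obtain ⟨ha1, ha2⟩ := pair_ker S R hv hd hd'
  obtain ⟨hb1, hb2⟩ := pair_ker S R hw he he'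
  have hai : a⁻¹ = a := inv_eq_of_mul_eq_one_right ha2
  have hbi : b⁻¹ = b := inv_eq_of_mul_eq_one_right hb2
  have key : ∀ {v : V} {d d' : G} (b : G) (u : V) (c : G), Iso B v → R.Lift v d → R.Lift v d' → Iso B u →
      B v u = 0 → R.Lift u c → R.π b = 1 → b⁻¹ = b →
      c * (d * d') * c⁻¹ = d * d' ∧ ∃ w0, c * b * c⁻¹ = b * w0 ∧ Commute (d * d') w0 := by
    intro v d d' b u c hv hd hd' hu hvu hc hb1 hbi
    refine ⟨?_, b * c * b⁻¹ * c⁻¹, ?_, ?_⟩
    · rw [← ((commute_lifts S R hv hu hd hc hvu).mul_left (commute_lifts S R hv hu hd' hc hvu)).eq,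
        mul_inv_cancel_right]
    · conv_rhs => rw [show b * (b * c * b⁻¹ * c⁻¹) = (b * b) * c * b⁻¹ * c⁻¹ by group]
      rw [show b * b = 1 from by nth_rewrite 1 [← hbi]; exact inv_mul_cancel b, one_mul, hbi]
    · have hc' := lift_conj S R hu hc b
      rw [hb1, one_apply_U] at hc'
      exact ((commute_lifts S R hv hu hd hc' hvu).mul_right (commute_lifts S R hv hu hd hc hvu).inv_right).mul_left
        ((commute_lifts S R hv hu hd' hc' hvu).mul_right (commute_lifts S R hv hu hd' hc hvu).inv_right)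
  clear_value a b
  rw [← ha] at ha1
  rw [← hb] at hb1
  have hx : ⁅a, b⁆ = 1 := by
    refine eq_one_of_commute S R hv hw h fun u c hu hor hc => ?_
    refine Commute.symm (mul_inv_eq_iff_eq_mul.1 ?_)
    rw [commutatorElement_def, ← conj_mul, ← conj_mul, ← conj_mul, ← conj_inv, ← conj_inv]
    rcases hor with h1 | h1
    · obtain ⟨e1, w0, e2, e3⟩ := key b u c hv hd hd' hu h1 hc hb1 hbi
      rw [← ha] at e1 e3
      rw [e1, e2]
      calc a * (b * w0) * a⁻¹ * (b * w0)⁻¹ = a * b * (w0 * a⁻¹) * (w0⁻¹ * b⁻¹) := by group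
        _ = a * b * a⁻¹ * b⁻¹ := by rw [← e3.inv_left.eq]; group
    · obtain ⟨e1, w0, e2, e3⟩ := key a u c hw he he' hu h1 hc ha1 hai
      rw [← hb] at e1 e3
      rw [e1, e2]
      calc (a * w0) * b * (a * w0)⁻¹ * b⁻¹ = a * (w0 * b) * (w0⁻¹ * a⁻¹) * b⁻¹ := by group
        _ = a * b * a⁻¹ * b⁻¹ := by rw [← e3.eq]; group
  exact commutatorElement_eq_one_iff_commute.1 hx

theorem span_comm {a b : G} (ha : a ∈ R.span) (hb : b ∈ R.span) : Commute a b := by
  have : IsMulCommutative ↥R.span :=
    Subgroup.isMulCommutative_closure fun x hx y hy => (pairs_commute S R x hx y hy).eq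
  exact congrArg Subtype.val (mul_comm' (⟨a, ha⟩ : ↥R.span) ⟨b, hb⟩)

theorem span_le_ker : R.span ≤ R.π.ker := by
  rw [Rad.span, Subgroup.closure_le]
  rintro _ ⟨v, d, d', hv, hd, hd', rfl⟩
  exact MonoidHom.mem_ker.2 (pair_ker S R hv hd hd').1

theorem span_sq {a : G} (ha : a ∈ R.span) : a * a = 1 := by
  induction ha using Subgroup.closure_induction with
  | mem x hx => obtain ⟨v, d, d', hv, hd, hd', rfl⟩ := hx; exact (pair_ker S R hv hd hd').2
  | one => exact one_mul 1
  | mul p q hp hq ihp ihq =>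
    rw [mul_assoc, ← mul_assoc q, (span_comm S R hq hp).eq, mul_assoc, ihq, mul_one, ihp]
  | inv p _ ihp => rw [← mul_inv_rev, ihp, inv_one]

theorem span_conj (g : G) {a : G} (ha : a ∈ R.span) : g * a * g⁻¹ ∈ R.span := by
  induction ha using Subgroup.closure_induction with
  | mem x hx =>
    obtain ⟨v, d, d', hv, hd, hd', rfl⟩ := hx
    exact Subgroup.subset_closure
      ⟨_, _, _, hv.map _, lift_conj S R hv hd g, lift_conj S R hv hd' g, (conj_mul).symm⟩
  | one => simp
  | mul p q _ _ ihp ihq => rw [← conj_mul]; exact mul_mem ihp ihq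
  | inv p _ ihp => rw [← conj_inv]; exact inv_mem ihp

theorem comm_mem_span (g : G) {n : G} (hn : R.π n = 1) : ⁅g, n⁆ ∈ R.span := by
  have hg : g ∈ Subgroup.closure R.D := by rw [R.cls.2.2]; trivial
  induction hg using Subgroup.closure_induction with
  | mem d hd =>
    obtain ⟨v, hv, hdv⟩ := exists_tv S R hd
    have hc := lift_conj S R hv ⟨hd, hdv⟩ n
    rw [hn, one_apply_U] at hc
    refine Subgroup.subset_closure ⟨v, d, n * d * n⁻¹, hv, ⟨hd, hdv⟩, hc, ?_⟩
    rw [commutatorElement_def, lift_inv S R ⟨hd, hdv⟩]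
    simp only [mul_assoc]
  | one => rw [commutatorElement_one_left]; exact one_mem _
  | mul p q _ _ ihp ihq =>
    rw [show ⁅p * q, n⁆ = p * ⁅q, n⁆ * p⁻¹ * ⁅p, n⁆ by simp only [commutatorElement_def]; group]
    exact mul_mem (span_conj S R p ihq) ihp
  | inv p _ ihp =>
    rw [show ⁅p⁻¹, n⁆ = p⁻¹ * (⁅p, n⁆)⁻¹ * p⁻¹⁻¹ by simp only [commutatorElement_def]; group]
    exact span_conj S R _ (inv_mem ihp)

theorem inner_normal : R.inner.Normal := by
  refine ⟨fun n hn g => ⟨R.π.normal_ker.conj_mem n hn.1 g, Subgroup.mem_centralizer_iff.2 fun a ha => ?_⟩⟩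
  have h := Subgroup.mem_centralizer_iff.1 hn.2 _ (span_conj S R g⁻¹ ha)
  rw [inv_inv] at h
  calc a * (g * n * g⁻¹) = g * (g⁻¹ * a * g * n) * g⁻¹ := by group
    _ = g * (n * (g⁻¹ * a * g)) * g⁻¹ := by rw [h]
    _ = g * n * g⁻¹ * a := by group

theorem inner_abelian {n m : G} (hn : n ∈ R.inner) (hm : m ∈ R.inner) : Commute n m ∧ n * n = 1 := by
  have hcen : ∀ {x : G}, (∀ g, g * x * g⁻¹ = x) → x = 1 := fun {x} h => by
    have : x ∈ Subgroup.center G := Subgroup.mem_center_iff.2 fun g => mul_inv_eq_iff_eq_mul.1 (h g)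
    rwa [R.centre, Subgroup.mem_bot] at this
  have hc : ∀ {n : G}, n ∈ R.inner → ∀ g, ∃ a ∈ R.span, g * n * g⁻¹ = a * n ∧ Commute a n ∧
      ∀ {m : G}, m ∈ R.inner → Commute a m := by
    intro n hn g
    refine ⟨⁅g, n⁆, comm_mem_span S R g hn.1, by rw [commutatorElement_def]; group, ?_, fun {m} hm => ?_⟩
    · exact Subgroup.mem_centralizer_iff.1 hn.2 _ (comm_mem_span S R g hn.1)
    · exact Subgroup.mem_centralizer_iff.1 hm.2 _ (comm_mem_span S R g hn.1)
  refine ⟨commutatorElement_eq_one_iff_commute.1 (hcen fun g => ?_), hcen fun g => ?_⟩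
  · obtain ⟨a, ha, e1, a1, a2⟩ := hc hn g
    obtain ⟨b, hb, e2, b1, b2⟩ := hc hm g
    rw [commutatorElement_def, ← conj_mul, ← conj_mul, ← conj_mul, ← conj_inv, ← conj_inv, e1, e2]
    have hab := span_comm S R ha hb
    calc a * n * (b * m) * (a * n)⁻¹ * (b * m)⁻¹
        = a * (n * b) * (m * n⁻¹) * a⁻¹ * (m⁻¹ * b⁻¹) := by group
      _ = a * (b * n) * ((m * n⁻¹) * a⁻¹) * (m⁻¹ * b⁻¹) := by rw [← (b2 hn).eq]; group
      _ = a * b * n * (a⁻¹ * (m * n⁻¹)) * (m⁻¹ * b⁻¹) := by
          rw [← (((a2 hm).mul_right (a1.inv_right)).inv_left).eq]; group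
      _ = a * b * a⁻¹ * (n * m * n⁻¹ * m⁻¹) * b⁻¹ := by
          rw [show a * b * n * (a⁻¹ * (m * n⁻¹)) = a * b * (n * a⁻¹) * (m * n⁻¹) by group,
            ← a1.inv_left.eq]; group
      _ = b * (n * m * n⁻¹ * m⁻¹) * b⁻¹ := by rw [hab.eq, mul_inv_cancel_right]
      _ = n * m * n⁻¹ * m⁻¹ := by
          rw [((((b2 hn).mul_right b1).mul_right (b2 hn).inv_right).mul_right b1.inv_right).eq,
            mul_inv_cancel_right]
  · obtain ⟨a, ha, e1, a1, -⟩ := hc hn g
    rw [← conj_mul, e1]
    rw [show a * n * (a * n) = a * (n * a) * n by group, ← a1.eq, ← mul_assoc, span_sq S R ha, one_mul]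

theorem T_line {u v : V} (hu : Iso B u) (hv : Iso B v) (h : B u v = 0) (hne : ∀ c : F, u ≠ c • v) {w : F}
    (hw : w * w = w + 1) (hs : σ w = w + 1) :
    T B v * (T B u * (T B (u + v) * (T B (u + w • v) * T B (u + (w + 1) • v)))) = 1 := by
  have hi := fun c => (hu.line hv h (S.symm0 h) hne c).2
  have h1 : B (u + v) (u + v) = 0 := by simpa using hi 1
  have h2 := two_zero S
  refine ext_U fun x => ?_
  rw [mul_apply_U, mul_apply_U, mul_apply_U, mul_apply_U, T_apply S (hi (w + 1)) x, T_apply S (hi w),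
    T_apply S h1, T_apply S hu.2, T_apply S hv.2]
  simp only [map_add, map_smulₛₗ, LinearMap.add_apply, LinearMap.smul_apply, smul_eq_mul, hu.2, hv.2, h,
    S.symm0 h, map_one, hs, RingHom.id_apply, mul_zero, add_zero, zero_add, smul_zero]
  rw [one_apply_U]
  match_scalars <;> grind

/-- The kernel is inner. -/
theorem ker_le_inner [Finite G] (hdim : finrank F V = 5 ∨ finrank F V = 7) : R.π.ker ≤ R.inner := by
  classical
  have hnorm := inner_normal S R
  let lf : V → G := fun v => if h : Iso B v then (exists_lift S R h).choose else 1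
  have hlf : ∀ v, Iso B v → R.Lift v (lf v) := fun v hv => by
    simp only [lf, dif_pos hv]; exact (exists_lift S R hv).choose_spec
  set mk := QuotientGroup.mk' R.inner with hmk
  have hspan : R.span ≤ R.inner := fun a ha => ⟨span_le_ker S R ha,
    Subgroup.mem_centralizer_iff.2 fun b hb => (span_comm S R hb ha).eq⟩
  have huniq : ∀ v d d', Iso B v → R.Lift v d → R.Lift v d' → mk d = mk d' := fun v d d' hv hd hd' => by
    refine QuotientGroup.eq.2 ?_
    rw [lift_inv S R hd]
    exact hspan (Subgroup.subset_closure ⟨v, d, d', hv, hd, hd', rfl⟩)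
  let πE : G ⧸ R.inner →* ↥(sIsom B) := QuotientGroup.lift R.inner R.π inf_le_left
  have hπE : ∀ g, πE (mk g) = R.π g := fun g => rfl
  let X : Ext B (G ⧸ R.inner) := {
    π := πE
    L := fun v => mk (lf v)
    surj := fun x => by obtain ⟨g, hg⟩ := R.surj x; exact ⟨mk g, hg⟩
    central := fun z hz g => by
      obtain ⟨n, rfl⟩ := QuotientGroup.mk'_surjective R.inner z
      obtain ⟨k, rfl⟩ := QuotientGroup.mk'_surjective R.inner g
      refine commutatorElement_eq_one_iff_commute.1 ?_
      rw [← map_commutatorElement]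
      exact (QuotientGroup.eq_one_iff _).2 (hspan (comm_mem_span S R k (by rw [← hπE]; exact hz)))
    two := fun z hz => by
      obtain ⟨n, rfl⟩ := QuotientGroup.mk'_surjective R.inner z
      obtain ⟨k, hk⟩ := R.two ⟨n, MonoidHom.mem_ker.2 (by rw [← hπE]; exact hz)⟩
      exact ⟨k, by rw [← map_pow, show n ^ 2 ^ k = 1 from congrArg Subtype.val hk, map_one]⟩
    proj := fun v hv => (hπE _).trans (hlf v hv).2
    sq := fun v hv => by rw [← map_mul, lift_sq S R (hlf v hv), map_one]
    smul := fun v c hv hc => by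
      refine huniq v _ _ hv ⟨(hlf _ (hv.smul hc)).1, ?_⟩ (hlf v hv)
      rw [(hlf _ (hv.smul hc)).2, T_smul S hv.2 hc]
    conj := fun g v hv => by
      obtain ⟨k, rfl⟩ := QuotientGroup.mk'_surjective R.inner g
      rw [← map_inv, ← map_mul, ← map_mul]
      exact huniq _ _ _ (hv.map _) (lift_conj S R hv (hlf v hv) k) (hlf _ (hv.map _))
    five := fun u v hu hv huv hne w hw hs => by
      have hi := fun c => hu.line hv huv (S.symm0 huv) hne c
      have h1 := hi 1
      rw [one_smul] at h1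
      simp only [← map_mul]
      refine (QuotientGroup.eq_one_iff _).2 ⟨?_, ?_⟩
      · show R.π _ = 1
        rw [map_mul, map_mul, map_mul, map_mul, (hlf v hv).2, (hlf u hu).2,
          (hlf _ h1).2, (hlf _ (hi w)).2, (hlf _ (hi (w + 1))).2, T_line S hu hv huv hne hw hs]
      set n := lf v * (lf u * (lf (u + v) * (lf (u + w • v) * lf (u + (w + 1) • v)))) with hn
      have hker : R.π n = 1 := by
        rw [hn, map_mul, map_mul, map_mul, map_mul, (hlf v hv).2, (hlf u hu).2,
          (hlf _ h1).2, (hlf _ (hi w)).2, (hlf _ (hi (w + 1))).2, T_line S hu hv huv hne hw hs]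
      refine Subgroup.mem_centralizer_iff.2 fun a ha => ?_
      suffices Commute n a from this.eq.symm
      induction ha using Subgroup.closure_induction with
      | mem x hx =>
        obtain ⟨p, d1, d2, hp, hd1, hd2, rfl⟩ := hx
        obtain ⟨g, hg⟩ := Basic.class_conj R.cls hd1.1 (hlf v hv).1
        have hgp : T B ((R.π g).1.1 p) = T B v := by
          rw [← (lift_conj S R hp hd1 g).2, hg, (hlf v hv).2]
        obtain ⟨c, hc, e⟩ := T_inj S hv (hp.map _) hgp.symm
        have hl : ∀ d, R.Lift p d → R.Lift v (g * d * g⁻¹) := fun d hd =>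
          ⟨(lift_conj S R hp hd g).1, (lift_conj S R hp hd g).2.trans hgp⟩
        have hcv : ∀ d, R.Lift v d → Commute n d := fun d hd => by
          have c0 : ∀ q, Iso B q → B q v = 0 → Commute (lf q) d := fun q hq h0 =>
            commute_lifts S R hq hv (hlf q hq) hd h0
          exact ((c0 v hv hv.2).mul_left ((c0 u hu huv).mul_left ((c0 _ h1 (by simp [huv, hv.2])).mul_left
            ((c0 _ (hi w) (by simp [huv, hv.2])).mul_left (c0 _ (hi (w + 1)) (by simp [huv, hv.2]))))))
        have hy : Commute n (g * (d1 * d2) * g⁻¹) := by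
          rw [← conj_mul]; exact (hcv _ (hl d1 hd1)).mul_right (hcv _ (hl d2 hd2))
        set m := ⁅g⁻¹, n⁆ with hm
        have hms : m ∈ R.span := comm_mem_span S R g⁻¹ hker
        have hxs : d1 * d2 ∈ R.span := Subgroup.subset_closure ⟨p, d1, d2, hp, hd1, hd2, rfl⟩
        have hn' : g⁻¹ * n * g = m * n := by rw [hm, commutatorElement_def]; group
        have h3 : Commute (g⁻¹ * n * g) (d1 * d2) := by
          have := hy.map (MulAut.conj g⁻¹).toMonoidHom
          simpa [mul_assoc] using this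
        rw [hn'] at h3
        have h4 := ((span_comm S R hms hxs).inv_left).mul_left h3
        rwa [inv_mul_cancel_left] at h4
      | one => exact Commute.one_right _
      | mul p q _ _ ihp ihq => exact ihp.mul_right ihq
      | inv p _ ihp => exact ihp.inv_right
    gen := by
      rw [eq_top_iff]
      rintro x -
      obtain ⟨g, rfl⟩ := QuotientGroup.mk'_surjective R.inner x
      have hg : g ∈ Subgroup.closure R.D := by rw [R.cls.2.2]; trivial
      induction hg using Subgroup.closure_induction with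
      | mem y hy =>
        obtain ⟨v, hv, hyv⟩ := exists_tv S R hy
        exact Subgroup.subset_closure ⟨v, hv, huniq v y _ hv ⟨hy, hyv⟩ (hlf v hv)⟩
      | one => rw [map_one]; exact one_mem _
      | mul p q _ _ ihp ihq => rw [map_mul]; exact mul_mem ihp ihq
      | inv p _ ihp => rw [map_inv]; exact inv_mem ihp }
  have hinj : Function.Injective X.π := hdim.elim (injective_five S X) (injective_seven S X)
  intro n hn
  refine (QuotientGroup.eq_one_iff n).1 (hinj ?_)
  rw [map_one]
  exact hn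

/-- The kernel is elementary abelian. -/
theorem ker_elementary [Finite G] (hdim : finrank F V = 5 ∨ finrank F V = 7) {n m : G} (hn : R.π n = 1)
    (hm : R.π m = 1) : Commute n m ∧ n * n = 1 :=
  inner_abelian S R (ker_le_inner S R hdim hn) (ker_le_inner S R hdim hm)

end CfsgLib.ThreeTransp.UnitaryRadical
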