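import Cfsg.Agent.Lib.ThreeTransp.UnitaryRadical.Ext

/-!
# The stabiliser of an isotropic vector

The action on the orthogonal part, its kernel as the image of the elementary group, subgroups of
odd index, and the splitting criterion by transfer.
-/

set_option autoImplicit false
set_option linter.unusedSectionVars false

namespace CfsgLib.ThreeTransp.UnitaryRadical

open Module CfsgLib.Classical
open CfsgLib.ThreeTransp.UnitarySix (Setting tv tv_apply)

variable {F : Type*} [Field F] [Finite F] {V : Type*} [AddCommGroup V] [Module F V]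
  [FiniteDimensional F V] {σ : F →+* F} {B : V →ₛₗ[σ] V →ₗ[F] F}

/-- The orthogonal part of a pair. -/
def perp2 (B : V →ₛₗ[σ] V →ₗ[F] F) (e f : V) : Submodule F V := LinearMap.ker (B e) ⊓ LinearMap.ker (B f)

theorem mem_perp2 {e f x : V} : x ∈ perp2 B e f ↔ B e x = 0 ∧ B f x = 0 := Iff.rfl

/-- The stabiliser of a vector in the special group. -/
def vecStab (B : V →ₛₗ[σ] V →ₗ[F] F) (e : V) : Subgroup ↥(sIsom B) where
  carrier := {g | g.1.1 e = e}
  one_mem' := rfl
  mul_mem' := by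
    intro a b ha hb
    show a.1.1 (b.1.1 e) = e
    rw [hb, ha]
  inv_mem' := by
    intro a ha
    show a⁻¹.1.1 e = e
    conv_lhs => rw [← (show a.1.1 e = e from ha)]
    exact inv_apply_U a e

theorem mem_vecStab {e : V} {g : ↥(sIsom B)} : g ∈ vecStab B e ↔ g.1.1 e = e := Iff.rfl

variable (S : Setting B)
include S

/-- A hyperbolic pair. -/
structure Pair (B : V →ₛₗ[σ] V →ₗ[F] F) (e f : V) : Prop where
  he : B e e = 0
  hf : B f f = 0
  hef : B e f = 1

theorem Pair.iso {e f : V} (hp : Pair B e f) : Iso B e ∧ Iso B f ∧ B f e = 1 :=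
  ⟨⟨fun h => zero_ne_one (α := F) (by rw [← hp.hef, h, map_zero, LinearMap.zero_apply]), hp.he⟩,
    ⟨fun h => zero_ne_one (α := F) (by rw [← hp.hef, h, map_zero]), hp.hf⟩, symm1 S hp.hef⟩

theorem proj_mem {e f : V} (hp : Pair B e f) (x : V) : x + B f x • e + B e x • f ∈ perp2 B e f := by
  obtain ⟨-, -, hfe⟩ := hp.iso S
  refine mem_perp2.2 ⟨?_, ?_⟩
  · simp only [map_add, map_smul, hp.he, hp.hef, smul_eq_mul, mul_zero, mul_one, add_zero, S.two]
  · simp only [map_add, map_smul, hp.hf, hfe, smul_eq_mul, mul_zero, mul_one, add_zero, S.two]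

theorem proj_decomp {e f : V} (x : V) :
    x = (x + B f x • e + B e x • f) + B f x • e + B e x • f := by
  rw [show x + B f x • e + B e x • f + B f x • e + B e x • f
    = x + (B f x • e + B f x • e) + (B e x • f + B e x • f) by abel, S.vtwo, S.vtwo, add_zero, add_zero]

theorem ext_pair {e f : V} (hp : Pair B e f) {g h : ↥(sIsom B)} (h1 : g.1.1 e = h.1.1 e)
    (h2 : g.1.1 f = h.1.1 f) (h3 : ∀ y, B e y = 0 → B f y = 0 → g.1.1 y = h.1.1 y) : g = h := by
  refine ext_U fun x => ?_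
  rw [proj_decomp S (e := e) (f := f) x]
  simp only [map_add, map_smul, h1, h2, h3 _ (mem_perp2.1 (proj_mem S hp x)).1 (mem_perp2.1 (proj_mem S hp x)).2]

theorem perp2_nondeg {e f : V} (hp : Pair B e f) {y : V} (hy : y ∈ perp2 B e f)
    (h : ∀ z ∈ perp2 B e f, B z y = 0) : y = 0 := by
  refine S.sep y fun x => ?_
  conv_lhs => rw [proj_decomp S (e := e) (f := f) x]
  have e0 := h _ (proj_mem S hp x)
  simp only [map_add, LinearMap.add_apply, map_smulₛₗ, LinearMap.smul_apply, (mem_perp2.1 hy).1,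
    (mem_perp2.1 hy).2, smul_zero, add_zero] at e0 ⊢
  exact e0

theorem restrict_sep {e f : V} (hp : Pair B e f) : (restrictForm B (perp2 B e f)).SeparatingRight :=
  fun y hy => Subtype.ext (perp2_nondeg S hp y.2 fun z hz => hy ⟨z, hz⟩)

/-- The projected action of a vector stabiliser. -/
theorem psi_spec {e f : V} (hp : Pair B e f) (g : ↥(vecStab B e)) :
    ∃ a : isomGroup (restrictForm B (perp2 B e f)), ∀ y : perp2 B e f,
      ((a.1 y : perp2 B e f) : V) = g.1.1.1 y.1 + B f (g.1.1.1 y.1) • e := by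
  obtain ⟨-, -, hfe⟩ := hp.iso S
  have hge : ∀ y : perp2 B e f, B e (g.1.1.1 y.1) = 0 := fun y => by
    have e0 := pres_U g.1 e y.1
    rw [mem_vecStab.1 g.2] at e0
    rw [e0]; exact (mem_perp2.1 y.2).1
  let L : perp2 B e f →ₗ[F] perp2 B e f := LinearMap.codRestrict (perp2 B e f)
    ((g.1.1.1.toLinearMap + (B f).smulRight e ∘ₗ g.1.1.1.toLinearMap) ∘ₗ (perp2 B e f).subtype)
    (fun y => by
      show g.1.1.1 y.1 + B f (g.1.1.1 y.1) • e ∈ _
      refine mem_perp2.2 ⟨?_, ?_⟩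
      · simp [map_add, map_smul, hge y, hp.he]
      · simp [map_add, map_smul, hfe, S.two])
  obtain ⟨a, ha⟩ := (S.herm.restrict (perp2 B e f)).exists_of_preserving (restrict_sep S hp) L (fun x y => by
    show B (g.1.1.1 x.1 + B f (g.1.1.1 x.1) • e) (g.1.1.1 y.1 + B f (g.1.1.1 y.1) • e) = B x.1 y.1
    simp [map_add, map_smulₛₗ, hge y, S.symm0 (hge x), hp.he])
  exact ⟨a, fun y => by rw [ha]; rfl⟩

/-- The homomorphism to the isometries of the orthogonal part. -/
noncomputable def psi {e f : V} (hp : Pair B e f) :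
    ↥(vecStab B e) →* isomGroup (restrictForm B (perp2 B e f)) :=
  MonoidHom.mk' (fun g => (psi_spec S hp g).choose) (fun g h => by
    refine Subtype.ext (LinearEquiv.ext fun y => Subtype.ext ?_)
    rw [(psi_spec S hp (g * h)).choose_spec y, show ((psi_spec S hp g).choose * (psi_spec S hp h).choose).1 y
      = (psi_spec S hp g).choose.1 ((psi_spec S hp h).choose.1 y) from rfl,
      (psi_spec S hp g).choose_spec, (psi_spec S hp h).choose_spec]
    change g.1.1.1 (h.1.1.1 y.1) + _ • e = _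
    simp only [map_add, map_smul, mem_vecStab.1 g.2, (hp.iso S).2.2]
    rw [smul_eq_mul, mul_one, add_smul]
    rw [show g.1.1.1 (h.1.1.1 y.1) + B f (h.1.1.1 y.1) • e +
        (B f (g.1.1.1 (h.1.1.1 y.1)) • e + B f (h.1.1.1 y.1) • e)
      = g.1.1.1 (h.1.1.1 y.1) + B f (g.1.1.1 (h.1.1.1 y.1)) • e + (B f (h.1.1.1 y.1) • e + B f (h.1.1.1 y.1) • e) by
        abel, S.vtwo, add_zero]
    rfl)

theorem psi_apply {e f : V} (hp : Pair B e f) (g : ↥(vecStab B e)) (y : perp2 B e f) :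
    ((psi S hp g).1 y : V) = g.1.1.1 y.1 + B f (g.1.1.1 y.1) • e := (psi_spec S hp g).choose_spec y

/-- Triviality on the orthogonal part, in a form usable for elements. -/
theorem psi_eq_one_iff {e f : V} (hp : Pair B e f) (g : ↥(vecStab B e)) :
    psi S hp g = 1 ↔ ∀ y, B e y = 0 → B f y = 0 → g.1.1.1 y = y + B f (g.1.1.1 y) • e := by
  constructor
  · intro h y h1 h2
    have := psi_apply S hp g ⟨y, mem_perp2.2 ⟨h1, h2⟩⟩
    rw [h] at this
    change y = _ at this
    conv_rhs => arg 1; rw [this]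
    rw [add_assoc, S.vtwo, add_zero]
  · intro h
    refine Subtype.ext (LinearEquiv.ext fun y => Subtype.ext ?_)
    rw [psi_apply S hp g y]
    conv_lhs => arg 1; rw [h y.1 (mem_perp2.1 y.2).1 (mem_perp2.1 y.2).2]
    rw [add_assoc, S.vtwo, add_zero]
    rfl

variable {E : Type*} [Group E] (X : Ext B E)

theorem Qhat_psi {e f : V} (hp : Pair B e f) {x : E} (hx : x ∈ Qhat X e) :
    psi S hp ⟨X.π x, Qhat_fix S X (hp.iso S).1 hx⟩ = 1 := by
  obtain ⟨he, -, hfe⟩ := hp.iso S
  induction hx using Subgroup.closure_induction with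
  | mem y hy =>
    refine (psi_eq_one_iff S hp _).2 fun z h1 h2 => ?_
    show (X.π y).1.1 z = z + B f ((X.π y).1.1 z) • e
    rcases hy with hy | ⟨u, c, hu, h, hne, rfl⟩
    · rw [Set.mem_singleton_iff] at hy
      simp [hy, X.proj e he, T_fix S he.2 h1, h2]
    · have hi := hu.line he (S.symm0 h) h hne c
      obtain ⟨k, hk⟩ : ∃ k : F, (X.π (X.L u * X.L (u + c • e))).1.1 z = z + k • e := by
        refine ⟨c * B u z, ?_⟩
        rw [map_mul, X.proj u hu, X.proj _ hi, mul_apply_U, T_apply S hi.2, T_apply S hu.2]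
        simp [h1, hu.2, S.symm0 h]
        try (have h2' := two_zero S; match_scalars <;> grind)
      rw [hk, map_add, map_smul, h2, hfe, smul_eq_mul, mul_one, zero_add]
  | one =>
    exact (congrArg (psi S hp) (Subtype.ext (map_one X.π))).trans (map_one _)
  | mul a b ha hb iha ihb =>
    rw [show (⟨X.π (a * b), Qhat_fix S X he (mul_mem ha hb)⟩ : ↥(vecStab B e))
      = ⟨X.π a, Qhat_fix S X he ha⟩ * ⟨X.π b, Qhat_fix S X he hb⟩ from Subtype.ext (map_mul _ _ _),
      map_mul, iha, ihb, mul_one]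
  | inv a ha iha =>
    rw [show (⟨X.π a⁻¹, Qhat_fix S X he (inv_mem ha)⟩ : ↥(vecStab B e))
      = (⟨X.π a, Qhat_fix S X he ha⟩ : ↥(vecStab B e))⁻¹ from Subtype.ext (map_inv _ _),
      map_inv, iha, inv_one]

/-- The value at `f` determines the translation part. -/
theorem psi_one_apply {e f : V} (hp : Pair B e f) (g : ↥(vecStab B e)) (h : psi S hp g = 1) :
    ∃ (y0 : V) (a : F), B e y0 = 0 ∧ B f y0 = 0 ∧ g.1.1.1 f = f + y0 + a • e ∧
      ∀ y, B e y = 0 → B f y = 0 → g.1.1.1 y = y + B y0 y • e := by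
  obtain ⟨he, -, hfe⟩ := hp.iso S
  set p := g.1.1.1 f with hpdef
  have he1 : B e p = 1 := by
    conv_lhs => rw [← mem_vecStab.1 g.2]
    rw [pres_U]; exact hp.hef
  have hy0 := mem_perp2.1 (proj_mem S hp p)
  have hd := proj_decomp S (e := e) (f := f) p
  rw [he1, one_smul] at hy0
  refine ⟨_, B f p, hy0.1, hy0.2, ?_, fun y h1 h2 => ?_⟩
  · conv_lhs => rw [hd, he1, one_smul]
    abel
  · have hy := (psi_eq_one_iff S hp g).1 h y h1 h2
    have hp0 := pres_U g.1 f y
    rw [h2, hy, map_add, map_smul, ← hpdef, show B p e = 1 from symm1 S he1, smul_eq_mul, mul_one] at hp0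
    have e1 : B (p + B f p • e + f) y = B p y := by simp [h1, h2]
    rw [hy, e1, S.eq_of_add hp0]

theorem span_iso {e f : V} (hp : Pair B e f) {y : V} (h1 : B e y = 0) (h2 : B f y = 0) :
    y = 0 ∨ (Iso B y) ∨ ∃ a b, Iso B a ∧ Iso B b ∧ B e a = 0 ∧ B f a = 0 ∧ B e b = 0 ∧ B f b = 0 ∧
      y = a + b := by
  by_cases hy : y = 0
  · exact Or.inl hy
  rcases S.self_val y with h | h
  · exact Or.inr (Or.inl ⟨hy, h⟩)
  obtain ⟨u, hu, hu1, hu2, hu3⟩ := exists_iso_partner S hp.he hp.hf hp.hef hy h1 h2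
  obtain ⟨w, hw, hs, -, hw0, -, -⟩ := exists_omega S
  refine Or.inr (Or.inr ⟨y + w • u, w • u, ⟨fun e0 => ?_, ?_⟩, hu.smul hw0, by simp [h1, hu1], by simp [h2, hu2],
    by simp [hu1], by simp [hu2], by rw [add_assoc, S.vtwo, add_zero]⟩)
  · have := congrArg (B u) e0
    simp [symm1 S hu3, hu.2] at this
  · have h2' := two_zero S
    simp only [map_add, map_smulₛₗ, LinearMap.add_apply, LinearMap.smul_apply, h, hu.2, hu3, symm1 S hu3,
      smul_eq_mul, hs, RingHom.id_apply]
    grind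

/-- The kernel on the orthogonal part is covered by the elementary group. -/
theorem ker_psi_le {e f : V} (hp : Pair B e f) (g : ↥(vecStab B e)) (h : psi S hp g = 1) :
    g.1 ∈ (Qhat X e).map X.π := by
  obtain ⟨he, -, hfe⟩ := hp.iso S
  obtain ⟨y0, a, h1, h2, hgf, hgy⟩ := psi_one_apply S hp g h
  have hstep : ∀ y, Iso B y → B e y = 0 → B f y = 0 →
      ∃ x ∈ Qhat X e, ∃ a : F, (X.π x).1.1 f = f + y + a • e := by
    intro y hy hey hfy
    have hne : ∀ k : F, y ≠ k • e := fun k hk => by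
      rw [hk, map_smul, hfe, smul_eq_mul, mul_one] at hfy
      exact hy.1 (by rw [hk, hfy, zero_smul])
    refine ⟨X.L y * X.L (y + (1 : F) • e), Subgroup.subset_closure (Or.inr ⟨y, 1, hy, hey, hne, rfl⟩), 1, ?_⟩
    have hi := hy.line he (S.symm0 hey) hey hne 1
    rw [map_mul, X.proj y hy, X.proj _ hi, mul_apply_U, T_apply S hi.2, T_apply S hy.2]
    simp [S.symm0 hfy, hp.hef, hy.2, S.symm0 hey]
    abel
  have hadd : ∀ y y' x x' (a a' : F), x ∈ Qhat X e → x' ∈ Qhat X e → B e y' = 0 → B f y' = 0 →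
      (X.π x).1.1 f = f + y + a • e → (X.π x').1.1 f = f + y' + a' • e →
      ∃ x'' ∈ Qhat X e, ∃ b : F, (X.π x'').1.1 f = f + (y + y') + b • e := by
    intro y y' x x' a a' hx hx' hey' hfy' e1 e2
    have e3 := (psi_eq_one_iff S hp _).1 (Qhat_psi S X hp hx) y' hey' hfy'
    change (X.π x).1.1 y' = _ at e3
    refine ⟨x * x', mul_mem hx hx', a + a' + B f ((X.π x).1.1 y'), ?_⟩
    rw [map_mul, mul_apply_U, e2, map_add, map_add, map_smul, e1, Qhat_fix S X he hx]
    conv_lhs => arg 1; arg 2; rw [e3]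
    rw [add_smul, add_smul]; abel
  obtain ⟨x, hx, b, hxf⟩ : ∃ x ∈ Qhat X e, ∃ b : F, (X.π x).1.1 f = f + y0 + b • e := by
    rcases span_iso S hp h1 h2 with rfl | hy | ⟨p, q, hp', hq', a1, a2, b1, b2, rfl⟩
    · exact ⟨1, one_mem _, 0, by simp [one_apply_U]⟩
    · exact hstep _ hy h1 h2
    · obtain ⟨x, hx, i, hi⟩ := hstep p hp' a1 a2
      obtain ⟨x', hx', j, hj⟩ := hstep q hq' b1 b2
      exact hadd p q x x' i j hx hx' b1 b2 hi hj
  obtain ⟨y1, b1, k1, k2, hxf1, hxy⟩ := psi_one_apply S hp _ (Qhat_psi S X hp hx)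
  change (X.π x).1.1 f = _ at hxf1
  have hy1 : y1 = y0 := by
    refine sub_eq_zero.1 (perp2_nondeg S hp (Submodule.sub_mem _ (mem_perp2.2 ⟨k1, k2⟩) (mem_perp2.2 ⟨h1, h2⟩)) ?_)
    intro z hz
    have := congrArg (B z) (hxf1.symm.trans hxf)
    simp only [map_add, map_smul, S.symm0 (mem_perp2.1 hz).1, S.symm0 (mem_perp2.1 hz).2, smul_zero, add_zero,
      zero_add] at this
    rw [map_sub, this, sub_self]
  subst hy1
  have hδ : ∀ δ : F, δ = b1 + a → σ δ = δ := by
    intro δ hd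
    have e1 := pres_U (X.π x) f f
    have e2 := pres_U g.1 f f
    rw [hxf1] at e1
    rw [hgf] at e2
    simp only [map_add, map_smulₛₗ, LinearMap.add_apply, LinearMap.smul_apply, hp.hf, hp.hef, hfe, he.2,
      S.symm0 h1, S.symm0 h2, h1, h2, smul_eq_mul, RingHom.id_apply] at e1 e2
    have := two_zero S
    rw [hd, map_add]
    grind
  rcases S.fixed (b1 + a) (hδ _ rfl) with hd | hd
  · refine ⟨x, hx, ext_pair S hp ((Qhat_fix S X he hx).trans (mem_vecStab.1 g.2).symm) ?_ ?_⟩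
    · rw [hxf1, hgf, S.eq_of_add hd]
    · intro y i1 i2
      rw [hgy y i1 i2]
      exact hxy y i1 i2
  · refine ⟨x * X.L e, mul_mem hx (Subgroup.subset_closure (Or.inl rfl)), ext_pair S hp ?_ ?_ ?_⟩
    · rw [map_mul, mul_apply_U, X.proj e he, T_fix S he.2 he.2, Qhat_fix S X he hx, mem_vecStab.1 g.2]
    · rw [map_mul, mul_apply_U, X.proj e he, T_apply S he.2, hp.hef, one_smul, map_add, hxf1, Qhat_fix S X he hx,
        hgf, show b1 = 1 + a by have := two_zero S; grind, add_smul, one_smul]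
      rw [show f + y1 + (e + a • e) + e = f + y1 + a • e + (e + e) by abel, S.vtwo, add_zero]
    · intro y i1 i2
      rw [map_mul, mul_apply_U, X.proj e he, T_fix S he.2 i1, hgy y i1 i2]
      exact hxy y i1 i2

end CfsgLib.ThreeTransp.UnitaryRadical
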