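import Cfsg.Agent.Lib.ThreeTransp.UnitaryRadical.Complement
import Cfsg.Agent.Lib.ThreeTransp.UnitarySix.Base
import Cfsg.Agent.Lib.Solvable.Cores
import Cfsg.Prelude.Def_Transfer

/-!
# The two-radical over the unitary groups of degree five and seven

The statements on `G ⧸ O₂(G)` isomorphic to `SU(n, 2)`, read in the model of the standard form.
-/

set_option autoImplicit false

namespace CfsgLib.ThreeTransp.UnitaryRadical

open Module CfsgLib.Classical
open CfsgLib.ThreeTransp.UnitarySix (Setting)

theorem setting_std {F : Type*} [Field F] [Fintype F] (hF : Fintype.card F = 4) {n : ℕ} (hn : 4 ≤ n)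
    {σ : F →+* F} (hσ : ∀ x, σ x = x ^ 2) (hc : IsConjugation σ) : Setting (stdHerm σ n) := by
  classical
  have h4 : (4 : F) = 0 := by
    have := Nat.cast_card_eq_zero F
    rw [hF] at this
    simpa using this
  have h2 : (2 : F) = 0 := by
    have : (2 : F) * 2 = 0 := by linear_combination h4
    simpa using this
  exact {
    herm := stdHerm_isHermitian hc n
    sep := stdHerm_sepRight n
    dim := by rw [Module.finrank_fin_fun]; exact hn
    two := fun x => by rw [← two_mul, h2, zero_mul]
    norm := fun x hx => by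
      have := FiniteField.pow_card_sub_one_eq_one x hx
      rw [hF] at this
      rw [hσ]
      linear_combination this
    fixed := fun x hx => by
      rw [hσ] at hx
      have : x * (x - 1) = 0 := by linear_combination hx
      simpa [sub_eq_zero] using this
    trace := by
      obtain ⟨w, hw0, hw1⟩ : ∃ w : F, w ≠ 0 ∧ w ≠ 1 := by
        by_contra hcon
        push Not at hcon
        have : Fintype.card F ≤ ({0, 1} : Finset F).card := Finset.card_le_card fun x _ => by
          rcases eq_or_ne x 0 with h | h
          · simp [h]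
          · simp [hcon x h]
        have := this.trans Finset.card_le_two
        omega
      refine ⟨w, ?_⟩
      have h3 : w ^ 3 = 1 := by
        have := FiniteField.pow_card_sub_one_eq_one w hw0
        rwa [hF] at this
      have : (w - 1) * (w * w + w + 1) = 0 := by linear_combination h3
      rw [hσ]
      linear_combination ((mul_eq_zero.1 this).resolve_left (sub_ne_zero.2 hw1)) - h2 }

/-- The radical data from an isomorphism of the quotient by `O₂` with the special unitary group. -/
theorem exists_rad {G : Type*} [Group G] [Finite G] {D : Set G} (hD : Cfsg.IsThreeTranspositionClass D)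
    (hZ : Subgroup.center G = ⊥) {F : Type*} [Field F] [Fintype F] (hF : Fintype.card F = 4) {n : ℕ}
    (hn : 4 ≤ n) (e : G ⧸ Cfsg.pCore 2 G ≃* ↥(Cfsg.SU n F 2)) :
    ∃ (σ : F →+* F) (R : Rad (stdHerm σ n) G), Setting (stdHerm σ n) ∧ R.π.ker = Cfsg.pCore 2 G := by
  obtain ⟨σ, hσ, hc⟩ := exists_frob (show Fintype.card F = 2 ^ 2 by rw [hF]; norm_num)
  let E : G ⧸ Cfsg.pCore 2 G ≃* ↥(sIsom (stdHerm σ n)) := e.trans (suEquiv hσ)
  let π : G →* ↥(sIsom (stdHerm σ n)) := E.toMonoidHom.comp (QuotientGroup.mk' (Cfsg.pCore 2 G))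
  have hker : π.ker = Cfsg.pCore 2 G := by
    ext g
    simp [π, QuotientGroup.eq_one_iff]
  exact ⟨σ, ⟨π, D, E.surjective.comp (QuotientGroup.mk'_surjective _), hD, hZ,
    by rw [hker]; exact CfsgLib.Solvable.Cores.isPGroup_pCore 2⟩, setting_std hF hn hσ hc, hker⟩

theorem elementary_of {G : Type*} [Group G] [Finite G] {F : Type*} [Field F] [Finite F] {V : Type*}
    [AddCommGroup V] [Module F V] [FiniteDimensional F V] {σ : F →+* F} {B : V →ₛₗ[σ] V →ₗ[F] F}
    (S : Setting B) (R : Rad B G) (hdim : finrank F V = 5 ∨ finrank F V = 7) :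
    Cfsg.IsElementaryAbelian 2 R.π.ker :=
  ⟨⟨⟨fun a b => Subtype.ext (ker_elementary S R hdim a.2 b.2).1.eq⟩⟩,
    fun a ha => by rw [pow_two]; exact (ker_elementary S R hdim ha ha).2⟩

end CfsgLib.ThreeTransp.UnitaryRadical
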